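import Groth.Agent.ArtinAtlas.Glue
import Groth.Prelude.Def_AlgSt2
import Groth.Prelude.Def_AlgSt3

/-!
# Descent of charts along one covering morphism
-/

set_option autoImplicit false
set_option backward.isDefEq.respectTransparency false
set_option backward.isDefEq.respectTransparency.types false
set_option linter.style.haveILetI false
universe v₂ u₂ u

noncomputable section

namespace Groth.Agent.ArtinAtlas

open CategoryTheory CategoryTheory.Limits AlgebraicGeometry Groth.Agent.FibCatRep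

variable {S : Scheme.{u}} {𝒳 : BasedCategory.{v₂, u₂} (Over S)}

/-- the sieve of one morphism -/
abbrev cov {T B : Over S} (q : T ⟶ B) : Sieve B := Sieve.generate (Presieve.singleton q)

theorem mem_cov_iff {T B V : Over S} {q : T ⟶ B} {a : V ⟶ B} : cov q a ↔ ∃ g : V ⟶ T, g ≫ q = a := by
  constructor
  · rintro ⟨_, g, _, ⟨⟩, h⟩
    exact ⟨g, h⟩
  · rintro ⟨g, h⟩
    exact ⟨T, g, q, Presieve.singleton_self q, h⟩

theorem cov_mem {T B : Over S} (q : T ⟶ B) [Flat q.left] [LocallyOfFinitePresentation q.left] [Surjective q.left] :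
    cov q ∈ (QuotSh.J Scheme.fppfPrecoverage S) B := by
  rw [GrothendieckTopology.mem_over_iff]
  refine GrothendieckTopology.superset_covering _ ?_
    (Precoverage.generate_mem_toGrothendieck (Scheme.Hom.singleton_mem_fppfPrecoverage q.left))
  rw [Sieve.generate_le_iff]
  rintro Y _ ⟨⟩
  rw [Sieve.overEquiv_iff]
  exact mem_cov_iff.2 ⟨Over.homMk (𝟙 _) ((Category.id_comp _).trans (Over.w q).symm), Over.OverMorphism.ext (Category.id_comp _)⟩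

variable {U₁ U₂ : Over S} {x : FibCat.overCat U₁ ⥤ᵇ 𝒳} {y : FibCat.overCat U₂ ⥤ᵇ 𝒳}

/-- reading an isomorphism for a composite chart -/
def Hom2.toMap {T V : Over S} {w : T ⟶ U₁} {g : V ⟶ T} {b : V ⟶ U₂} (θ : Hom2 x y (g ≫ w) b) :
    Hom2 (BasedFunctor.comp (AlgSt.overMap w) x) y g b :=
  ⟨θ.hom, θ.map⟩

/-- reading an isomorphism out of a composite chart -/
def Hom2.ofMap {T V : Over S} {w : T ⟶ U₁} {g : V ⟶ T} {b : V ⟶ U₂}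
    (θ : Hom2 (BasedFunctor.comp (AlgSt.overMap w) x) y g b) : Hom2 x y (g ≫ w) b :=
  ⟨θ.hom, θ.map⟩

/-- reading an isomorphism for a composite chart on the second side -/
def Hom2.toMap' {T V : Over S} {w : T ⟶ U₂} {g : V ⟶ T} {a : V ⟶ U₁} (θ : Hom2 x y a (g ≫ w)) :
    Hom2 x (BasedFunctor.comp (AlgSt.overMap w) y) a g :=
  ⟨θ.hom, θ.map⟩

/-- reading an isomorphism out of a composite chart on the second side -/
def Hom2.ofMap' {T V : Over S} {w : T ⟶ U₂} {g : V ⟶ T} {a : V ⟶ U₁}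
    (θ : Hom2 x (BasedFunctor.comp (AlgSt.overMap w) y) a g) : Hom2 x y a (g ≫ w) :=
  ⟨θ.hom, θ.map⟩

theorem Hom2.Res.ofMap' {T V V' : Over S} {w : T ⟶ U₂} {g : V ⟶ T} {a : V ⟶ U₁} {g' : V' ⟶ T} {a' : V' ⟶ U₁}
    {k : V' ⟶ V} {θ : Hom2 x (BasedFunctor.comp (AlgSt.overMap w) y) a g}
    {θ' : Hom2 x (BasedFunctor.comp (AlgSt.overMap w) y) a' g'} (h : Hom2.Res k θ θ') :
    Hom2.Res k (Hom2.ofMap' θ) (Hom2.ofMap' θ') := by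
  obtain ⟨ha, hb, e⟩ := h
  exact ⟨ha, by rw [← Category.assoc, hb], e⟩

theorem Hom2.Res.toMap' {T V V' : Over S} {w : T ⟶ U₂} {g : V ⟶ T} {a : V ⟶ U₁} {g' : V' ⟶ T} {a' : V' ⟶ U₁}
    {k : V' ⟶ V} {θ : Hom2 x y a (g ≫ w)} {θ' : Hom2 x y a' (g' ≫ w)} (h : Hom2.Res k θ θ') (hg : k ≫ g = g') :
    Hom2.Res k (Hom2.toMap' θ) (Hom2.toMap' θ') := by
  obtain ⟨ha, hb, e⟩ := h
  exact ⟨ha, hg, e⟩

/-- descent data for a chart along one covering morphism -/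
structure Desc1 (x : FibCat.overCat U₁ ⥤ᵇ 𝒳) {T B : Over S} (q : T ⟶ B) where
  /-- the point -/
  w : T ⟶ U₁
  /-- double product -/
  T₂ : Over S
  pr₁ : T₂ ⟶ T
  pr₂ : T₂ ⟶ T
  sq : IsPullback pr₁ pr₂ q q
  /-- triple product -/
  T₃ : Over S
  p₁₂ : T₃ ⟶ T₂
  p₃ : T₃ ⟶ T
  sq₃ : IsPullback p₁₂ p₃ (pr₂ ≫ q) q
  /-- isomorphism on the double product -/
  η : Hom2 x x (pr₁ ≫ w) (pr₂ ≫ w)
  cocycle : ∀ (k₂₃ k₁₃ : T₃ ⟶ T₂), k₂₃ ≫ pr₁ = p₁₂ ≫ pr₂ → k₂₃ ≫ pr₂ = p₃ → k₁₃ ≫ pr₁ = p₁₂ ≫ pr₁ →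
    k₁₃ ≫ pr₂ = p₃ → ∀ {a b c : T₃ ⟶ U₁} (θ : Hom2 x x a b) (θ' : Hom2 x x b c) (θ'' : Hom2 x x a c),
      Hom2.Res p₁₂ η θ → Hom2.Res k₂₃ η θ' → Hom2.Res k₁₃ η θ'' → θ.comp θ' = θ''

variable {T B : Over S} {q : T ⟶ B}

/-- the glue data of descent data -/
def Desc1.glueData (hX : FibCat.IsFibGrpd 𝒳.p) (d : Desc1 x q) : GlueData (𝒳 := 𝒳) (cov q) where
  ι := PUnit
  W _ := T
  f _ := q
  gen := mem_cov_iff.trans ⟨fun ⟨g, h⟩ => ⟨⟨⟩, g, h⟩, fun ⟨_, g, h⟩ => ⟨g, h⟩⟩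
  P _ := BasedFunctor.comp (AlgSt.overMap d.w) x
  θ {_ _ V} g g' h :=
    let r := (Hom2.exists_res hX d.η (d.sq.lift g g' h) (g ≫ d.w) (g' ≫ d.w) (by rw [d.sq.lift_fst_assoc])
      (by rw [d.sq.lift_snd_assoc])).exists.choose
    ⟨r.hom, r.map⟩
  natural {i j V V'} k g g' h g₁ g₁' e e' h₁ := by
    generalize hr : (Hom2.exists_res hX d.η (d.sq.lift g g' h) (g ≫ d.w) (g' ≫ d.w) (by rw [d.sq.lift_fst_assoc])
      (by rw [d.sq.lift_snd_assoc])).exists = ex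
    generalize hr₁ : (Hom2.exists_res hX d.η (d.sq.lift g₁ g₁' h₁) (g₁ ≫ d.w) (g₁' ≫ d.w) (by rw [d.sq.lift_fst_assoc])
      (by rw [d.sq.lift_snd_assoc])).exists = ex₁
    have h0 := ex.choose_spec
    have h0₁ := ex₁.choose_spec
    obtain ⟨θ', hθ', -⟩ := Hom2.exists_res hX ex.choose k (g₁ ≫ d.w) (g₁' ≫ d.w) (by rw [← Category.assoc, e])
      (by rw [← Category.assoc, e'])
    have hl : k ≫ d.sq.lift g g' h = d.sq.lift g₁ g₁' h₁ :=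
      d.sq.hom_ext (by simp [e]) (by simp [e'])
    have := h0.trans hθ'
    rw [hl] at this
    have heq : θ' = ex₁.choose := this.unique hX h0₁
    subst heq
    obtain ⟨_, _, w₀⟩ := hθ'
    exact ⟨e, e', w₀⟩
  cocycle {i j l V} g g' g'' h h' := by
    generalize hr : (Hom2.exists_res hX d.η (d.sq.lift g g' h) (g ≫ d.w) (g' ≫ d.w) (by rw [d.sq.lift_fst_assoc])
      (by rw [d.sq.lift_snd_assoc])).exists = e₁
    generalize hr' : (Hom2.exists_res hX d.η (d.sq.lift g' g'' h') (g' ≫ d.w) (g'' ≫ d.w) (by rw [d.sq.lift_fst_assoc])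
      (by rw [d.sq.lift_snd_assoc])).exists = e₂
    generalize hr'' : (Hom2.exists_res hX d.η (d.sq.lift g g'' (h.trans h')) (g ≫ d.w) (g'' ≫ d.w)
      (by rw [d.sq.lift_fst_assoc]) (by rw [d.sq.lift_snd_assoc])).exists = e₃
    let m := d.sq₃.lift (d.sq.lift g g' h) g'' (by rw [d.sq.lift_snd_assoc]; exact h')
    have hk₂₃ : (d.p₁₂ ≫ d.pr₂) ≫ q = d.p₃ ≫ q := by rw [Category.assoc]; exact d.sq₃.w
    have hk₁₃ : (d.p₁₂ ≫ d.pr₁) ≫ q = d.p₃ ≫ q := by rw [Category.assoc, d.sq.w]; exact d.sq₃.w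
    let k₂₃ := d.sq.lift (d.p₁₂ ≫ d.pr₂) d.p₃ hk₂₃
    let k₁₃ := d.sq.lift (d.p₁₂ ≫ d.pr₁) d.p₃ hk₁₃
    obtain ⟨θ, hθ, -⟩ := Hom2.exists_res hX d.η d.p₁₂ ((d.p₁₂ ≫ d.pr₁) ≫ d.w) ((d.p₁₂ ≫ d.pr₂) ≫ d.w)
      (Category.assoc _ _ _).symm (Category.assoc _ _ _).symm
    obtain ⟨θ', hθ', -⟩ := Hom2.exists_res hX d.η k₂₃ ((d.p₁₂ ≫ d.pr₂) ≫ d.w) (d.p₃ ≫ d.w)
      (by rw [← Category.assoc, d.sq.lift_fst]) (by rw [← Category.assoc, d.sq.lift_snd])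
    obtain ⟨θ'', hθ'', -⟩ := Hom2.exists_res hX d.η k₁₃ ((d.p₁₂ ≫ d.pr₁) ≫ d.w) (d.p₃ ≫ d.w)
      (by rw [← Category.assoc, d.sq.lift_fst]) (by rw [← Category.assoc, d.sq.lift_snd])
    have hc := d.cocycle k₂₃ k₁₃ (d.sq.lift_fst _ _ _) (d.sq.lift_snd _ _ _) (d.sq.lift_fst _ _ _)
      (d.sq.lift_snd _ _ _) θ θ' θ'' hθ hθ' hθ''
    have hm1 : m ≫ d.p₁₂ = d.sq.lift g g' h := d.sq₃.lift_fst _ _ _
    have hm2 : m ≫ d.p₃ = g'' := d.sq₃.lift_snd _ _ _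
    have ea : m ≫ (d.p₁₂ ≫ d.pr₁) ≫ d.w = g ≫ d.w := by simp [reassoc_of% hm1]
    have eb : m ≫ (d.p₁₂ ≫ d.pr₂) ≫ d.w = g' ≫ d.w := by simp [reassoc_of% hm1]
    have ec : m ≫ d.p₃ ≫ d.w = g'' ≫ d.w := by simp [reassoc_of% hm2]
    obtain ⟨ρ, hρ, -⟩ := Hom2.exists_res hX θ m _ _ ea eb
    obtain ⟨ρ', hρ', -⟩ := Hom2.exists_res hX θ' m _ _ eb ec
    obtain ⟨ρ'', hρ'', -⟩ := Hom2.exists_res hX θ'' m _ _ ea ec
    have r := hθ.trans hρ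
    rw [hm1] at r
    have l23 : m ≫ k₂₃ = d.sq.lift g' g'' h' :=
      d.sq.hom_ext (by simp [k₂₃, reassoc_of% hm1]) (by simp [k₂₃, hm2])
    have l13 : m ≫ k₁₃ = d.sq.lift g g'' (h.trans h') :=
      d.sq.hom_ext (by simp [k₁₃, reassoc_of% hm1]) (by simp [k₁₃, hm2])
    have r' := hθ'.trans hρ'
    rw [l23] at r'
    have r'' := hθ''.trans hρ''
    rw [l13] at r''
    have q₁ : ρ = e₁.choose := r.unique hX e₁.choose_spec
    have q₂ : ρ' = e₂.choose := r'.unique hX e₂.choose_spec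
    have q₃ : ρ'' = e₃.choose := r''.unique hX e₃.choose_spec
    have := (Hom2.res_comp hρ hρ').unique hX (hc ▸ hρ'')
    rw [q₁, q₂, q₃] at this
    exact Hom2.ext (congrArg Hom2.hom this :)

/-- transport of endpoints -/
def Hom2.cast {V : Over S} {a a' : V ⟶ U₁} {b b' : V ⟶ U₂} (ha : a = a') (hb : b = b') (θ : Hom2 x y a b) :
    Hom2 x y a' b' := ha ▸ hb ▸ θ

theorem Hom2.res_cast {V V' : Over S} {a a' : V ⟶ U₁} {b b' : V ⟶ U₂} {a₁ a₁' : V' ⟶ U₁} {b₁ b₁' : V' ⟶ U₂}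
    {k : V' ⟶ V} {θ : Hom2 x y a b} {θ' : Hom2 x y a₁ b₁} (h : Hom2.Res k θ θ') (ha : a = a') (hb : b = b')
    (ha₁ : a₁ = a₁') (hb₁ : b₁ = b₁') : Hom2.Res k (θ.cast ha hb) (θ'.cast ha₁ hb₁) := by
  subst ha hb ha₁ hb₁
  exact h

theorem Hom2.cast_cast {V : Over S} {a a' : V ⟶ U₁} {b b' : V ⟶ U₂} (θ : Hom2 x y a b) (ha : a = a') (hb : b = b') :
    (θ.cast ha hb).cast ha.symm hb.symm = θ := by
  subst ha hb
  rfl

theorem Hom2.comp_cast {U₃ : Over S} {z : FibCat.overCat U₃ ⥤ᵇ 𝒳} {V : Over S} {a a' : V ⟶ U₁} {b b' : V ⟶ U₂}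
    {c : V ⟶ U₃} (θ : Hom2 x y a b) (η : Hom2 y z b' c) (ha : a = a') (hb : b = b') :
    (θ.cast ha hb).comp η = (θ.comp (η.cast hb.symm rfl)).cast ha rfl := by
  subst ha hb
  rfl

/-- isomorphisms descend along a morphism with effective descent -/
theorem exists_desc_hom2_of_stackFor (hX : FibCat.IsFibGrpd 𝒳.p) (q : T ⟶ B) (hq₀ : Stk.IsStackFor (cov q) 𝒳) {T₂ : Over S} {pr₁ pr₂ : T₂ ⟶ T}
    (sq : IsPullback pr₁ pr₂ q q) {a₀ : B ⟶ U₁} {b₀ : B ⟶ U₂} {a : T ⟶ U₁} {b : T ⟶ U₂} (ψ : Hom2 x y a b)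
    (ha : q ≫ a₀ = a) (hb : q ≫ b₀ = b)
    (h : ∀ {a' : T₂ ⟶ U₁} {b' : T₂ ⟶ U₂} (ψ₁ ψ₂ : Hom2 x y a' b'), Hom2.Res pr₁ ψ ψ₁ → Hom2.Res pr₂ ψ ψ₂ → ψ₁ = ψ₂) :
    ∃! θ : Hom2 x y a₀ b₀, Hom2.Res q θ ψ := by
  have hR : Stk.IsPrestackFor (cov q) 𝒳 := by
    haveI : (Stk.resSieve (cov q) 𝒳).IsEquivalence := hq₀
    exact ⟨inferInstance, inferInstance⟩
  have hch : ∀ {V : Over S} (e : V ⟶ B), cov q e → ∃ g : V ⟶ T, g ≫ q = e := fun e he => mem_cov_iff.1 he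
  choose gg hgg using @hch
  have hex : ∀ {V : Over S} (e : V ⟶ B) (g : V ⟶ T), g ≫ q = e →
      ∃! χ : Hom2 x y (e ≫ a₀) (e ≫ b₀), Hom2.Res g ψ χ := fun e g hg =>
    Hom2.exists_res hX ψ g _ _ (by rw [← ha, ← Category.assoc, hg]) (by rw [← hb, ← Category.assoc, hg])
  have hindep : ∀ {V : Over S} (e : V ⟶ B) (g g' : V ⟶ T) (_ : g ≫ q = e) (_ : g' ≫ q = e)
      (χ χ' : Hom2 x y (e ≫ a₀) (e ≫ b₀)), Hom2.Res g ψ χ → Hom2.Res g' ψ χ' → χ = χ' := by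
    intro V e g g' hg hg' χ χ' r r'
    let m := sq.lift g g' (hg.trans hg'.symm)
    have hm₁ : m ≫ pr₁ = g := sq.lift_fst _ _ _
    have hm₂ : m ≫ pr₂ = g' := sq.lift_snd _ _ _
    obtain ⟨ψ₁, h₁, -⟩ := Hom2.exists_res hX ψ pr₁ (pr₁ ≫ q ≫ a₀) (pr₁ ≫ q ≫ b₀) (by rw [ha]) (by rw [hb])
    obtain ⟨ψ₂, h₂, -⟩ := Hom2.exists_res hX ψ pr₂ (pr₁ ≫ q ≫ a₀) (pr₁ ≫ q ≫ b₀)
      (by rw [← ha, ← Category.assoc, ← Category.assoc, sq.w]) (by rw [← hb, ← Category.assoc, ← Category.assoc, sq.w])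
    obtain rfl := h ψ₁ ψ₂ h₁ h₂
    have ea : m ≫ pr₁ ≫ q ≫ a₀ = e ≫ a₀ := by rw [reassoc_of% hm₁, ← Category.assoc, hg]
    have eb : m ≫ pr₁ ≫ q ≫ b₀ = e ≫ b₀ := by rw [reassoc_of% hm₁, ← Category.assoc, hg]
    obtain ⟨χ₀, r₀, -⟩ := Hom2.exists_res hX ψ₁ m _ _ ea eb
    have t₁ := h₁.trans r₀
    rw [hm₁] at t₁
    have t₂ := h₂.trans r₀
    rw [hm₂] at t₂
    rw [r.unique hX t₁, r'.unique hX t₂]
  let φ : ∀ {V : Over S} (e : V ⟶ B), cov q e → Hom2 (BasedFunctor.comp (AlgSt.overMap a₀) x)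
      (BasedFunctor.comp (AlgSt.overMap b₀) y) e e := fun {V} e he =>
    ⟨(hex e (gg e he) (hgg e he)).exists.choose.hom, (hex e (gg e he) (hgg e he)).exists.choose.map⟩
  obtain ⟨θ, hθ, hu⟩ := existsUnique_hom2 hX hR φ (fun {V V'} k e he => by
    generalize hr : (hex e (gg e he) (hgg e he)).exists = ex
    generalize hr' : (hex (k ≫ e) (gg (k ≫ e) ((cov q).downward_closed he k))
      (hgg (k ≫ e) ((cov q).downward_closed he k))).exists = ex'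
    obtain ⟨χ, hχ, -⟩ := Hom2.exists_res hX ex.choose k ((k ≫ e) ≫ a₀) ((k ≫ e) ≫ b₀)
      (Category.assoc _ _ _).symm (Category.assoc _ _ _).symm
    have t := ex.choose_spec.trans hχ
    obtain rfl := hindep (k ≫ e) (k ≫ gg e he) _ (by rw [Category.assoc, hgg]) (hgg _ _) χ ex'.choose t ex'.choose_spec
    obtain ⟨_, _, w⟩ := hχ
    refine ⟨rfl, rfl, ?_⟩
    subst hr hr'
    exact w)
  have hq : cov q q := mem_cov_iff.2 ⟨𝟙 T, Category.id_comp q⟩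
  have hcast : ∀ θ' : Hom2 x y a₀ b₀, ∃ θ'' : Hom2 (BasedFunctor.comp (AlgSt.overMap a₀) x)
      (BasedFunctor.comp (AlgSt.overMap b₀) y) (𝟙 B) (𝟙 B),
      (⟨θ''.hom, θ''.map⟩ : Hom2 x y (𝟙 B ≫ a₀) (𝟙 B ≫ b₀)) =
        θ'.cast (Category.id_comp a₀).symm (Category.id_comp b₀).symm :=
    fun θ' => ⟨⟨(θ'.cast (Category.id_comp a₀).symm (Category.id_comp b₀).symm).hom,
      (θ'.cast (Category.id_comp a₀).symm (Category.id_comp b₀).symm).map⟩, rfl⟩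
  let θ₀ : Hom2 x y a₀ b₀ :=
    Hom2.cast (Category.id_comp a₀) (Category.id_comp b₀) (⟨θ.hom, θ.map⟩ : Hom2 x y (𝟙 B ≫ a₀) (𝟙 B ≫ b₀))
  have toφ : ∀ (θ' : Hom2 x y a₀ b₀) (θ'' : Hom2 (BasedFunctor.comp (AlgSt.overMap a₀) x)
      (BasedFunctor.comp (AlgSt.overMap b₀) y) (𝟙 B) (𝟙 B)),
      (⟨θ''.hom, θ''.map⟩ : Hom2 x y (𝟙 B ≫ a₀) (𝟙 B ≫ b₀)) =
        θ'.cast (Category.id_comp a₀).symm (Category.id_comp b₀).symm →
      (Hom2.Res q θ' ψ ↔ ∀ {V : Over S} (e : V ⟶ B) (he : cov q e), Hom2.Res e θ'' (φ e he)) := by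
    intro θ' θ'' hθ''
    constructor
    · intro r V e he
      generalize hr : (hex e (gg e he) (hgg e he)).exists = ex
      have t := r.trans ex.choose_spec
      rw [hgg e he] at t
      have t' := Hom2.res_cast t (Category.id_comp a₀).symm (Category.id_comp b₀).symm rfl rfl
      rw [← hθ''] at t'
      obtain ⟨ea, eb, w⟩ := t'
      refine ⟨Category.comp_id _, Category.comp_id _, ?_⟩
      subst hr
      exact w
    · intro r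
      obtain ⟨ea, eb, w⟩ := r q hq
      generalize hr : (hex q (gg q hq) (hgg q hq)).exists = ex
      have hψ : ex.choose = ψ.cast ha.symm hb.symm := by
        refine hindep q (gg q hq) (𝟙 T) (hgg q hq) (Category.id_comp q) _ _ ex.choose_spec ?_
        exact Hom2.res_cast (Hom2.res_id ψ) rfl rfl ha.symm hb.symm
      have t : Hom2.Res q (θ'.cast (Category.id_comp a₀).symm (Category.id_comp b₀).symm) ex.choose := by
        rw [← hθ'']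
        refine ⟨by rw [Category.id_comp], by rw [Category.id_comp], ?_⟩
        subst hr
        exact w
      rw [hψ] at t
      have t' := Hom2.res_cast t (Category.id_comp a₀) (Category.id_comp b₀) ha hb
      rwa [Hom2.cast_cast θ' (Category.id_comp a₀).symm (Category.id_comp b₀).symm,
        Hom2.cast_cast ψ ha.symm hb.symm] at t'
  refine ⟨θ₀, (toφ θ₀ θ (Hom2.cast_cast _ _ _).symm).2 hθ, fun θ' hθ' => ?_⟩
  obtain ⟨θ'', hθ''⟩ := hcast θ'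
  have h2 : (⟨θ''.hom, θ''.map⟩ : Hom2 x y (𝟙 B ≫ a₀) (𝟙 B ≫ b₀)) = ⟨θ.hom, θ.map⟩ :=
    Hom2.ext (congrArg Hom2.hom (hu θ'' ((toφ θ' θ'' hθ'').1 hθ')) :)
  rw [← Hom2.cast_cast θ' (Category.id_comp a₀).symm (Category.id_comp b₀).symm, ← hθ'', h2]

/-- isomorphisms descend along a covering morphism -/
theorem exists_desc_hom2 (hS : Stk.IsStack (QuotSh.J Scheme.fppfPrecoverage S) 𝒳) (q : T ⟶ B) [Flat q.left]
    [LocallyOfFinitePresentation q.left] [Surjective q.left] {T₂ : Over S} {pr₁ pr₂ : T₂ ⟶ T}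
    (sq : IsPullback pr₁ pr₂ q q) {a₀ : B ⟶ U₁} {b₀ : B ⟶ U₂} {a : T ⟶ U₁} {b : T ⟶ U₂} (ψ : Hom2 x y a b)
    (ha : q ≫ a₀ = a) (hb : q ≫ b₀ = b)
    (h : ∀ {a' : T₂ ⟶ U₁} {b' : T₂ ⟶ U₂} (ψ₁ ψ₂ : Hom2 x y a' b'), Hom2.Res pr₁ ψ ψ₁ → Hom2.Res pr₂ ψ ψ₂ → ψ₁ = ψ₂) :
    ∃! θ : Hom2 x y a₀ b₀, Hom2.Res q θ ψ :=
  exists_desc_hom2_of_stackFor hS.1 q (hS.2 _ (cov_mem q)) sq ψ ha hb h

/-- a chart descends along a morphism with effective descent -/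
theorem Desc1.exists_chart_of_stackFor (hX : FibCat.IsFibGrpd 𝒳.p) (hq₀ : Stk.IsStackFor (cov q) 𝒳) (d : Desc1 x q) :
    ∃ (c : FibCat.overCat B ⥤ᵇ 𝒳) (φ : Hom2 c x q d.w), ∀ {a : d.T₂ ⟶ B} (φ₁ : Hom2 c x a (d.pr₁ ≫ d.w))
      (φ₂ : Hom2 c x a (d.pr₂ ≫ d.w)), Hom2.Res d.pr₁ φ φ₁ → Hom2.Res d.pr₂ φ φ₂ → φ₁.comp d.η = φ₂ := by
  obtain ⟨G, φ, hnat, hcomp⟩ := (d.glueData hX).exists_glue hX hq₀
  let φ0 : Hom2 G x (𝟙 T ≫ q) (𝟙 T ≫ d.w) := Hom2.ofMap' (φ (i := PUnit.unit) (𝟙 T))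
  refine ⟨G, φ0.cast (Category.id_comp q) (Category.id_comp d.w), ?_⟩
  intro a φ₁ φ₂ r₁ r₂
  obtain rfl : d.pr₁ ≫ q = a := r₁.1
  have key : ∀ (pr : d.T₂ ⟶ T) (χ : Hom2 G x (d.pr₁ ≫ q) (pr ≫ d.w)) (e : pr ≫ q = d.pr₁ ≫ q),
      Hom2.Res pr (φ0.cast (Category.id_comp q) (Category.id_comp d.w)) χ →
      χ = (Hom2.ofMap' (φ (i := PUnit.unit) pr)).cast e rfl := by
    intro pr χ e r
    have n := (hnat (i := PUnit.unit) pr (𝟙 T)).ofMap'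
    have g2 : ∀ (g : d.T₂ ⟶ T), g = pr → ∀ (h₁ : g ≫ q = d.pr₁ ≫ q) (h₂ : g ≫ d.w = pr ≫ d.w),
        (Hom2.ofMap' (φ (i := PUnit.unit) g)).cast h₁ h₂ = (Hom2.ofMap' (φ (i := PUnit.unit) pr)).cast e rfl := by
      rintro g rfl h₁ h₂
      rfl
    have hp : pr ≫ 𝟙 T = pr := Category.comp_id pr
    have h₁ : (pr ≫ 𝟙 T) ≫ q = d.pr₁ ≫ q := (congrArg (fun t => t ≫ q) hp).trans e
    have h₂ : (pr ≫ 𝟙 T) ≫ d.w = pr ≫ d.w := congrArg (fun t => t ≫ d.w) hp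
    have n' := Hom2.res_cast n (Category.id_comp q) (Category.id_comp d.w) h₁ h₂
    exact (r.unique hX n').trans (g2 _ hp h₁ h₂)
  rw [key d.pr₁ φ₁ rfl r₁, key d.pr₂ φ₂ d.sq.w.symm r₂]
  have hc := hcomp (i := PUnit.unit) (j := PUnit.unit) d.pr₁ d.pr₂ d.sq.w
  generalize hr : (Hom2.exists_res hX d.η (d.sq.lift d.pr₁ d.pr₂ d.sq.w) (d.pr₁ ≫ d.w) (d.pr₂ ≫ d.w)
    (by rw [d.sq.lift_fst_assoc]) (by rw [d.sq.lift_snd_assoc])).exists = ex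
  have hη : ex.choose = d.η := by
    have h0 := ex.choose_spec
    have hl : d.sq.lift d.pr₁ d.pr₂ d.sq.w = 𝟙 d.T₂ := d.sq.hom_ext (by simp) (by simp)
    have h1 : Hom2.Res (d.sq.lift d.pr₁ d.pr₂ d.sq.w) d.η d.η := by rw [hl]; exact Hom2.res_id d.η
    exact h0.unique hX h1
  subst hr
  have hh := congrArg Hom2.hom hc
  change _ ≫ _ = _ ≫ _ at hh
  refine Hom2.ext ?_
  rw [← hη]
  exact hh.trans (by
    have cast_hom : ∀ {a a' : d.T₂ ⟶ B} {b : d.T₂ ⟶ U₁} (θ : Hom2 G x a b) (e : a = a'),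
        (θ.cast e rfl).hom = eqToHom (by rw [e]) ≫ θ.hom := by
      intro a a' b θ e
      subst e
      exact (Category.id_comp _).symm
    rw [cast_hom]
    rfl)


/-- a chart descends along a covering morphism -/
theorem Desc1.exists_chart (hS : Stk.IsStack (QuotSh.J Scheme.fppfPrecoverage S) 𝒳) [Flat q.left]
    [LocallyOfFinitePresentation q.left] [Surjective q.left] (d : Desc1 x q) :
    ∃ (c : FibCat.overCat B ⥤ᵇ 𝒳) (φ : Hom2 c x q d.w), ∀ {a : d.T₂ ⟶ B} (φ₁ : Hom2 c x a (d.pr₁ ≫ d.w))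
      (φ₂ : Hom2 c x a (d.pr₂ ≫ d.w)), Hom2.Res d.pr₁ φ φ₁ → Hom2.Res d.pr₂ φ φ₂ → φ₁.comp d.η = φ₂ :=
  d.exists_chart_of_stackFor hS.1 (hS.2 _ (cov_mem q))

end Groth.Agent.ArtinAtlas

end
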