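import Groth.Agent.ArtinAtlas.Glue
import Groth.Agent.ArtinAtlas.Descend
import Groth.Agent.AlgSpLib.Sigma

/-!
# Charts from coproducts of schemes
-/

set_option autoImplicit false
set_option backward.isDefEq.respectTransparency false
set_option backward.isDefEq.respectTransparency.types false
set_option linter.style.haveILetI false
universe v₂ u₂ u

noncomputable section

namespace Groth.Agent.ArtinAtlas

open CategoryTheory CategoryTheory.Limits AlgebraicGeometry Groth.Agent.FibCatRep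

variable {S : Scheme.{u}} {𝒳 : BasedCategory.{v₂, u₂} (Over S)}

/-- the empty sieve covers empty schemes -/
theorem bot_mem_of_isEmpty (V : Over S) [IsEmpty V.left] :
    (⊥ : Sieve V) ∈ (QuotSh.J Scheme.fppfPrecoverage S) V := by
  have h := AlgSpLib.generate_ofArrows_mem_J (S := S) (U := V) (ι := PEmpty.{u + 1})
    (V := fun i => i.elim) (fun i => i.elim) (by
      rw [Scheme.fppfPrecoverage, Scheme.ofArrows_mem_precoverage_iff]
      exact ⟨fun x => isEmptyElim x, fun i => i.elim⟩)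
  refine GrothendieckTopology.superset_covering _ ?_ h
  rintro Y g ⟨W, a, b, ⟨i⟩, rfl⟩
  exact i.elim

/-- over an empty scheme any two points of charts are uniquely isomorphic -/
theorem existsUnique_hom2_of_isEmpty (hS : Stk.IsStack (QuotSh.J Scheme.fppfPrecoverage S) 𝒳) {U₁ U₂ : Over S}
    {x : FibCat.overCat U₁ ⥤ᵇ 𝒳} {y : FibCat.overCat U₂ ⥤ᵇ 𝒳} {V : Over S} [IsEmpty V.left] (g : V ⟶ U₁)
    (g' : V ⟶ U₂) : ∃ θ : Hom2 x y g g', ∀ θ' : Hom2 x y g g', θ' = θ := by
  haveI : (Stk.resSieve (⊥ : Sieve V) 𝒳).IsEquivalence := hS.2 _ (bot_mem_of_isEmpty V)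
  obtain ⟨θ, -, hu⟩ := existsUnique_hom2 (G := BasedFunctor.comp (AlgSt.overMap g) x)
    (G' := BasedFunctor.comp (AlgSt.overMap g') y) hS.1
    (⟨inferInstance, inferInstance⟩ : Stk.IsPrestackFor (⊥ : Sieve V) 𝒳) (fun _ h => h.elim) (fun _ _ h => h.elim)
  refine ⟨((Hom2.ofMap' (Hom2.ofMap θ)).cast (Category.id_comp _) (Category.id_comp _)), fun θ' => ?_⟩
  have h := hu (Hom2.toMap' (Hom2.toMap (θ'.cast (Category.id_comp g).symm (Category.id_comp g').symm)))
    (fun _ h => h.elim)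
  rw [← h]
  exact (Hom2.cast_cast θ' (Category.id_comp g).symm (Category.id_comp g').symm).symm

/-- charts on the summands glue to a chart on the coproduct -/
theorem exists_sigma_chart (hS : Stk.IsStack (QuotSh.J Scheme.fppfPrecoverage S) 𝒳) {ι : Type u} (Z : ι → Over S)
    (c : ∀ i, FibCat.overCat (Z i) ⥤ᵇ 𝒳) :
    ∃ (M : Over S) (inc : ∀ i, Z i ⟶ M) (G : FibCat.overCat M ⥤ᵇ 𝒳)
      (φ : ∀ {i : ι} {V : Over S} (g : V ⟶ Z i), Hom2 G (c i) (g ≫ inc i) g),
      (∀ i, IsOpenImmersion (inc i).left) ∧ (∀ m : M.left, ∃ i, m ∈ Set.range (inc i).left) ∧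
      ∀ {i : ι} {V V' : Over S} (k : V' ⟶ V) (g : V ⟶ Z i), Hom2.Res k (φ g) (φ (k ≫ g)) := by
  classical
  let Zl : ι → Scheme.{u} := fun i => (Z i).left
  let M : Over S := Over.mk (Sigma.desc fun i => (Z i).hom)
  let inc : ∀ i, Z i ⟶ M := fun i => Over.homMk (Sigma.ι Zl i) (Sigma.ι_desc _ i)
  haveI hop : ∀ i, IsOpenImmersion (inc i).left := fun i => inferInstanceAs (IsOpenImmersion (Sigma.ι Zl i))
  haveI : ∀ i, Mono (inc i) := fun i => (Over.forget S).mono_of_mono_map (inferInstanceAs (Mono (Sigma.ι Zl i)))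
  let R : Sieve M := Sieve.generate (Presieve.ofArrows Z inc)
  have hR : R ∈ (QuotSh.J Scheme.fppfPrecoverage S) M :=
    AlgSpLib.generate_ofArrows_mem_J inc
      (Scheme.zariskiPrecoverage_le_fppfPrecoverage _ (sigmaOpenCover Zl).mem₀)
  have hempty : ∀ {i j : ι} {V : Over S} (g : V ⟶ Z i) (g' : V ⟶ Z j), g ≫ inc i = g' ≫ inc j → i ≠ j →
      IsEmpty V.left := fun g g' e hij =>
    isEmpty_of_commSq_sigmaι_of_ne (g := Zl) ⟨congrArg Over.Hom.left e⟩ hij
  have key : ∀ {i j : ι} {V : Over S} (g : V ⟶ Z i) (g' : V ⟶ Z j), g ≫ inc i = g' ≫ inc j →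
      ∃ θ : Hom2 (c i) (c j) g g',
        ∀ h : i = j, HEq θ (Hom2.refl (x := c i) g) ∧ HEq g g' := by
    intro i j V g g' e
    by_cases hij : i = j
    · subst hij
      obtain rfl : g = g' := (cancel_mono (inc i)).1 e
      exact ⟨Hom2.refl g, fun _ => ⟨HEq.rfl, HEq.rfl⟩⟩
    · haveI := hempty g g' e hij
      obtain ⟨θ, -⟩ := existsUnique_hom2_of_isEmpty hS (x := c i) (y := c j) g g'
      exact ⟨θ, fun h => absurd h hij⟩
  choose θ hθ using @key
  have hrefl : ∀ {i : ι} {V : Over S} (g : V ⟶ Z i) (e : g ≫ inc i = g ≫ inc i), θ g g e = Hom2.refl g :=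
    fun g e => eq_of_heq (hθ g g e rfl).1
  let d : GlueData (𝒳 := 𝒳) R :=
    { ι := ι
      W := Z
      f := inc
      gen := by
        intro V a
        constructor
        · rintro ⟨W, g, f, ⟨i⟩, h⟩
          exact ⟨i, g, h⟩
        · rintro ⟨i, g, h⟩
          exact ⟨Z i, g, inc i, Presieve.ofArrows.mk i, h⟩
      P := c
      θ := fun g g' e => θ g g' e
      natural := fun {i j V V'} k g g' h g₁ g₁' e e' h₁ => by
        by_cases hij : i = j
        · subst hij
          obtain rfl : g = g' := (cancel_mono (inc i)).1 h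
          obtain rfl : g₁ = g₁' := (cancel_mono (inc i)).1 h₁
          rw [hrefl, hrefl]
          exact Hom2.res_refl k g e
        · haveI := hempty g₁ g₁' h₁ hij
          obtain ⟨χ, hχ, -⟩ := Hom2.exists_res hS.1 (θ g g' h) k g₁ g₁' e e'
          obtain ⟨θ₀, hu⟩ := existsUnique_hom2_of_isEmpty hS (x := c i) (y := c j) g₁ g₁'
          rwa [hu (θ g₁ g₁' h₁), ← hu χ]
      cocycle := fun {i j l V} g g' g'' h h' => by
        by_cases hij : i = j
        · subst hij
          obtain rfl : g = g' := (cancel_mono (inc i)).1 h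
          rw [hrefl, Hom2.refl_comp]
        · haveI := hempty g g' h hij
          obtain ⟨θ₀, hu⟩ := existsUnique_hom2_of_isEmpty hS (x := c i) (y := c l) g g''
          rw [hu (θ g g'' _), hu (Hom2.comp _ _)] }
  obtain ⟨G, φ, hφ, -⟩ := d.exists_glue hS.1 (hS.2 _ hR)
  refine ⟨M, inc, G, φ, hop, fun m => ?_, hφ⟩
  obtain ⟨p, hp⟩ := (sigmaOpenCover Zl).covers m
  exact ⟨(sigmaOpenCover Zl).idx m, p, hp⟩

end Groth.Agent.ArtinAtlas

end
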