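import Groth.Agent.ArtinAtlas.Saturate
import Groth.Agent.ArtinAtlas.Sigma
import Groth.Agent.AlgSpLib.Points

/-!
# A smooth atlas from a flat, locally finitely presented one
-/

set_option autoImplicit false
set_option backward.isDefEq.respectTransparency false
set_option backward.isDefEq.respectTransparency.types false
set_option linter.style.haveILetI false
universe v₂ u₂ u

noncomputable section

namespace Groth.Agent.ArtinAtlas

open CategoryTheory CategoryTheory.Limits AlgebraicGeometry CommRingCat Opposite Groth.Agent.AlgSpLib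
open _root_.AlgSp _root_.AlgSt

variable {S : Scheme.{u}} {𝒳 : BasedCategory.{v₂, u₂} (Over S)}

section points

variable {T U : Over S} {y : FibCat.overCat T ⥤ᵇ 𝒳} {x : FibCat.overCat U ⥤ᵇ 𝒳}

/-- the space of isomorphisms covers the test scheme iff every point carries an isomorphism -/
theorem PairSp.isSurjectiveMor_iff (D : PairSp y x) :
    IsSurjectiveMor D.pr₁ ↔ ∀ t : T.left, ∃ (T' : Over S) (a : T' ⟶ T) (b : T' ⟶ U) (_ : Hom2 y x a b)
      (k : T'.left), a.left k = t := by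
  constructor
  · intro h t
    obtain ⟨p, hp⟩ := h (Points.ofScheme T t)
    obtain ⟨T', ξ, k, rfl⟩ := AlgSpLib.exists_ofPt p
    obtain ⟨a, b, θ, hθ⟩ := D.exists_cl (sec ξ)
    have e : ξ ≫ D.pr₁ = (yon S).map a := sec_injective (by
      rw [sec_map]
      exact (ULift.ext _ _ ((D.pr₁_eq hθ).trans (Category.id_comp a).symm) :
        _ = (sec ((yon S).map a) : ULift.{u + 1} (T' ⟶ T))))
    rw [Points.map_ofPt, e, AlgSpLib.ofScheme_map] at hp
    exact ⟨T', a, b, θ, k, (Points.schemeEquiv T).injective hp⟩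
  · intro h p
    obtain ⟨t, rfl⟩ := (Points.schemeEquiv T).surjective p
    obtain ⟨T', a, b, θ, k, rfl⟩ := h t
    obtain ⟨q, hq, -⟩ := D.existsUnique θ
    obtain ⟨ξ, rfl⟩ := sec_surjective q
    refine ⟨Points.ofPt ξ k, ?_⟩
    have e : ξ ≫ D.pr₁ = (yon S).map a := sec_injective (by
      rw [sec_map]
      exact (ULift.ext _ _ ((D.pr₁_eq hq).trans (Category.id_comp a).symm) :
        _ = (sec ((yon S).map a) : ULift.{u + 1} (T' ⟶ T))))
    rw [Points.map_ofPt, e, AlgSpLib.ofScheme_map]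
    rfl

theorem respectsIso_surjective : (IsSurjectiveMor (S := S)).RespectsIso := by
  apply MorphismProperty.RespectsIso.of_respects_arrow_iso
  intro p q e hp z
  obtain ⟨w, hw⟩ := hp (Points.map e.inv.right z)
  refine ⟨Points.map e.hom.left w, ?_⟩
  rw [← Points.map_comp, show e.hom.left ≫ q.hom = p.hom ≫ e.hom.right from e.hom.w, Points.map_comp, hw,
    ← Points.map_comp, show e.inv.right ≫ e.hom.right = 𝟙 _ from congrArg Arrow.Hom.right e.inv_hom_id, Points.map_id]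

end points

/-- through every point of the source of a flat chart there is a smooth chart -/
theorem exists_local_chart (hS : Stk.IsStack (QuotSh.J Scheme.fppfPrecoverage S) 𝒳)
    (hrep : ∀ (U : Over S) (c : FibCat.overCat U ⥤ᵇ 𝒳), RepByAlgSp1 c) {U : Over S} {x : FibCat.overCat U ⥤ᵇ 𝒳}
    (hx : RepByAlgSpWith (LocP (@Flat ⊓ @LocallyOfFinitePresentation)) x) (u₀ : U.left) :
    ∃ (M : Over S) (c : FibCat.overCat M ⥤ᵇ 𝒳) (Q : Over S) (qM : Q ⟶ M) (qU : Q ⟶ U) (_ : Hom2 c x qM qU)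
      (q₀ : Q.left), qU.left q₀ = u₀ ∧
      ∀ {T : Over S} {y : FibCat.overCat T ⥤ᵇ 𝒳} {C : Over S} {a : C ⟶ T} {b : C ⟶ M} {θ : Hom2 y c a b},
        Liftable θ → Smooth a.left := by
  obtain ⟨O, hO, hmO, -⟩ := exists_isAffineOpen_mem_and_subset (X := S) (x := U.hom u₀) (U := ⊤) trivial
  obtain ⟨V, hV, hmV, hVO⟩ := exists_isAffineOpen_mem_and_subset (show u₀ ∈ U.hom ⁻¹ᵁ O from hmO)
  let R₀ : Type u := Γ(S, O)
  let A : Type u := Γ(U.left, V)
  let e : Γ(S, O) ⟶ Γ(U.left, V) := U.hom.appLE O V hVO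
  letI : Algebra R₀ A := e.hom.toAlgebra
  let j : Spec (CommRingCat.of R₀) ⟶ S := hO.fromSpec
  haveI : IsOpenImmersion j := inferInstanceAs (IsOpenImmersion hO.fromSpec)
  have hi : hV.fromSpec ≫ U.hom = (ovR j (algebraMap R₀ A)).hom :=
    (IsAffineOpen.SpecMap_appLE_fromSpec U.hom hO hV hVO).symm
  let i : ovR j (algebraMap R₀ A) ⟶ U := Over.homMk hV.fromSpec hi
  haveI : IsOpenImmersion i.left := inferInstanceAs (IsOpenImmersion hV.fromSpec)
  obtain ⟨z, hz⟩ : u₀ ∈ Set.range hV.fromSpec := by rw [hV.range_fromSpec]; exact hmV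
  let z' : PrimeSpectrum A := z
  let K := AlgebraicClosure (FractionRing (A ⧸ z'.asIdeal))
  let str₀ : A →+* K :=
    ((algebraMap (FractionRing (A ⧸ z'.asIdeal)) K).comp (algebraMap (A ⧸ z'.asIdeal) _)).comp (Ideal.Quotient.mk _)
  have hker : RingHom.ker str₀ = z'.asIdeal := by
    rw [RingHom.ker_comp_of_injective, Ideal.mk_ker]
    exact (algebraMap (FractionRing (A ⧸ z'.asIdeal)) K).injective.comp (IsFractionRing.injective (A ⧸ z'.asIdeal) (FractionRing (A ⧸ z'.asIdeal)))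
  have hX := hS.1
  have hx₁ := repWith_restrict hX hx i (hrep _ _)
  obtain ⟨M, c, Q, qM, qV, θ, hθ, hfl, hfp, hsur, hsm, s, hs⟩ := exists_smooth_chart hS hx₁ str₀
  haveI := hfl
  haveI := hfp
  haveI := hsur
  haveI := hsm
  let p₀ : PrimeSpectrum K := ⟨⊥, Ideal.isPrime_bot⟩
  refine ⟨M, c, Q, qM, qV ≫ i, Hom2.ofMap' θ, s.left p₀, ?_, fun hC => smooth_of_comparison hX hx₁ hθ hC⟩
  have h₁ : qV.left (s.left p₀) = z := by
    refine (congrArg (fun k : _ ⟶ ovR j (algebraMap R₀ A) => k.left p₀) hs).trans ?_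
    exact PrimeSpectrum.ext hker
  show hV.fromSpec (qV.left (s.left p₀)) = u₀
  rw [h₁, hz]

/-- a stack with representable points and a flat, locally finitely presented, surjective chart has a smooth atlas -/
theorem hasAtlas_of_flat_chart (hS : Stk.IsStack (QuotSh.J Scheme.fppfPrecoverage S) 𝒳)
    (hrep : ∀ (U : Over S) (c : FibCat.overCat U ⥤ᵇ 𝒳), RepByAlgSp1 c) {U : Over S} (x : FibCat.overCat U ⥤ᵇ 𝒳)
    (hx : RepByAlgSpWith (LocP (@Flat ⊓ @LocallyOfFinitePresentation)) x) (hxs : RepByAlgSpWith IsSurjectiveMor x) :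
    HasAtlas (LocP @Smooth) 𝒳 := by
  have hX := hS.1
  choose Z c Q qM qU θ q₀ hq₀ hsm using fun u₀ => exists_local_chart hS hrep hx u₀
  obtain ⟨M, inc, G, φ, hop, hcov, hφ⟩ := exists_sigma_chart hS Z c
  refine ⟨M, G, repWith_locP_of_charts etST_smooth hX (hrep M G) fun T y D Φ => ?_, fun T y => ?_⟩
  · -- smoothness is checked over the summands
    have key : ∀ c₀ : Φ.C.left, ∃ O : Φ.C.left.Opens, c₀ ∈ O ∧ Smooth (O.ι ≫ Φ.a.left) := by
      intro c₀
      obtain ⟨i, hi⟩ := hcov (Φ.b.left c₀)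
      haveI := hop i
      haveI : Mono (inc i) := (Over.forget S).mono_of_mono_map (inferInstanceAs (Mono (inc i).left))
      let O : Φ.C.left.Opens := Φ.b.left ⁻¹ᵁ (inc i).left.opensRange
      refine ⟨O, hi, ?_⟩
      let C : Over S := Over.mk (O.ι ≫ Φ.C.hom)
      let ι : C ⟶ Φ.C := Over.homMk O.ι
      haveI : IsOpenImmersion ι.left := inferInstanceAs (IsOpenImmersion O.ι)
      let g₀ : O.toScheme ⟶ (Z i).left := IsOpenImmersion.lift (inc i).left (O.ι ≫ Φ.b.left) (by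
        rintro _ ⟨p, rfl⟩
        exact p.2)
      have hg₀ : g₀ ≫ (inc i).left = O.ι ≫ Φ.b.left := IsOpenImmersion.lift_fac _ _ _
      let g : C ⟶ Z i := Over.homMk g₀ (by
        show g₀ ≫ (Z i).hom = O.ι ≫ Φ.C.hom
        rw [← Over.w (inc i), reassoc_of% hg₀, Over.w Φ.b])
      have hg : g ≫ inc i = ι ≫ Φ.b := Over.OverMorphism.ext hg₀
      obtain ⟨θ₁, hθ₁, -⟩ := Hom2.exists_res hX Φ.θ ι (ι ≫ Φ.a) (g ≫ inc i) rfl hg.symm
      have hL : Liftable θ₁ := Liftable.of_openImmersion hX (Chart.liftable hX Φ) ι hθ₁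
      have hL' : Liftable (θ₁.comp (φ g)) := by
        intro V a' b' η
        obtain ⟨W, l, q, hq, hlq, hu⟩ := hL (η.comp ((φ b').inv hX))
        have kk : ∀ {V' : Over S} (r : V' ⟶ C) (t : V' ⟶ V), SameRes y (c i) r t (θ₁.comp (φ g)) η ↔
            SameRes y G r t θ₁ (η.comp ((φ b').inv hX)) := by
          intro V' r t
          constructor
          · rintro ⟨p, b'', χ, h₁, h₂⟩
            obtain rfl : r ≫ g = b'' := h₁.2.1
            obtain ⟨χ₁, hχ₁, -⟩ := Hom2.exists_res hX θ₁ r p ((r ≫ g) ≫ inc i) h₁.1 (Category.assoc _ _ _).symm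
            obtain rfl := h₁.unique hX (Hom2.res_comp hχ₁ (hφ r g))
            have e : t ≫ b' = r ≫ g := h₂.2.1
            have hi := Hom2.res_inv hX (hφ t b')
            rw [e] at hi
            have h₃ := Hom2.res_comp h₂ hi
            rw [Hom2.comp_assoc, Hom2.comp_inv, Hom2.comp_refl] at h₃
            exact ⟨_, _, χ₁, hχ₁, h₃⟩
          · rintro ⟨p, b'', χ, h₁, h₂⟩
            obtain rfl : (r ≫ g) ≫ inc i = b'' := (Category.assoc _ _ _).trans h₁.2.1
            have e : t ≫ b' = r ≫ g := by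
              rw [← cancel_mono (inc i), Category.assoc]
              exact h₂.2.1
            have hi := hφ t b'
            rw [e] at hi
            have h₃ := Hom2.res_comp h₂ hi
            rw [Hom2.comp_assoc, Hom2.inv_comp, Hom2.comp_refl] at h₃
            exact ⟨_, _, _, Hom2.res_comp h₁ (hφ r g), h₃⟩
        exact ⟨W, l, q, hq, (kk l q).2 hlq, fun r t hr => hu r t ((kk r t).1 hr)⟩
      exact hsm i hL'
    choose O hO hOsm using key
    rw [IsZariskiLocalAtSource.iff_of_iSup_eq_top (P := @Smooth) O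
      (eq_top_iff.2 fun p _ => TopologicalSpace.Opens.mem_iSup.2 ⟨p, hO p⟩)]
    exact hOsm
  · haveI := respectsIso_surjective (S := S)
    obtain ⟨D₀, hD₀⟩ := exists_pairSp hX y (AlgStLib.repByAlgSp1_of_with hxs)
    obtain ⟨D, -, hD⟩ := exists_pairSp' hX y (hrep M G)
    refine hD _ ((PairSp.isSurjectiveMor_iff D).2 fun t => ?_)
    obtain ⟨T', a, b, η, k, hk⟩ := (PairSp.isSurjectiveMor_iff D₀).1 (hD₀ _ inferInstance hxs) t
    let u₀ := b.left k
    obtain ⟨w, hw₁, -⟩ := Scheme.exists_preimage_of_isPullback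
      ((IsPullback.of_hasPullback b (qU u₀)).map (Over.forget S)) k (q₀ u₀) (hq₀ u₀).symm
    let P := pullback b (qU u₀)
    let p₁ : P ⟶ T' := pullback.fst b (qU u₀)
    let p₂ : P ⟶ Q u₀ := pullback.snd b (qU u₀)
    obtain ⟨η', -, -⟩ := Hom2.exists_res hX η p₁ (p₁ ≫ a) (p₁ ≫ b) rfl rfl
    obtain ⟨θ', -, -⟩ := Hom2.exists_res hX (θ u₀) p₂ (p₂ ≫ qM u₀) (p₁ ≫ b) rfl pullback.condition.symm
    refine ⟨P, p₁ ≫ a, _, (η'.comp (θ'.inv hX)).comp ((φ (p₂ ≫ qM u₀)).inv hX), w, ?_⟩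
    rw [← hk, ← hw₁]
    rfl

end Groth.Agent.ArtinAtlas

end
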