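import Groth.Agent.ArtinAtlas.Atlas
import Groth.Agent.AlgStLib.SpBGDiag
import Groth.Agent.AlgStLib.OpenSub

/-!
# Stacks with a flat presentation are algebraic
-/

set_option autoImplicit false
set_option backward.isDefEq.respectTransparency false
set_option backward.isDefEq.respectTransparency.types false
set_option linter.style.haveILetI false
universe v₄ u₄ v₃ u₃ v₂ u₂ u

noncomputable section

namespace Groth.Agent.ArtinAtlas

open CategoryTheory CategoryTheory.Limits AlgebraicGeometry Opposite Groth.Agent.FibCatRep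
  Groth.Agent.FibCat2Misc Groth.Agent.AlgSpLib Groth.Agent.StkBasic Groth.Agent.AlgStLib
open _root_.AlgSp _root_.AlgSt

variable {S : Scheme.{u}}

section swap

variable {𝒳 : BasedCategory.{v₂, u₂} (Over S)} {𝒴 : BasedCategory.{v₃, u₃} (Over S)}
  {𝒵 : BasedCategory.{v₄, u₄} (Over S)}

/-- exchanging the factors of a fibre product -/
def swapFp (F : 𝒳 ⥤ᵇ 𝒵) (G : 𝒴 ⥤ᵇ 𝒵) : FibCat.fp G F ⥤ᵇ FibCat.fp F G :=
  FibCat.fpLift (FibCat.fpSnd G F) (FibCat.fpFst G F) (FibCat.fpIso G F).symm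

theorem isEquivOver_swapFp (F : 𝒳 ⥤ᵇ 𝒵) (G : 𝒴 ⥤ᵇ 𝒵) : FibCat.IsEquivOver (swapFp F G) := by
  let Θ := swapFp F G
  haveI : Θ.toFunctor.Faithful := ⟨fun {o o'} m m' h => ObjectProperty.hom_ext _
    (CategoricalPullback.hom_ext (congrArg (fun t => t.hom.snd) h) (congrArg (fun t => t.hom.fst) h))⟩
  haveI : Θ.toFunctor.Full := ⟨fun {o o'} m => by
    let i : G.obj o.obj.fst ≅ F.obj o.obj.snd := o.obj.iso
    let i' : G.obj o'.obj.fst ≅ F.obj o'.obj.snd := o'.obj.iso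
    have w : F.map m.hom.fst ≫ i'.inv = i.inv ≫ G.map m.hom.snd := m.hom.w
    have w' : G.map m.hom.snd ≫ i'.hom = i.hom ≫ F.map m.hom.fst := by
      rw [← cancel_mono i'.inv, Category.assoc, Category.assoc, w, Iso.hom_inv_id, Category.comp_id,
        Iso.hom_inv_id_assoc]
    exact ⟨ObjectProperty.homMk ⟨m.hom.snd, m.hom.fst, w'⟩,
      ObjectProperty.hom_ext _ (CategoricalPullback.hom_ext rfl rfl)⟩⟩
  refine isEquivOver_of_fullyFaithful Θ fun η => ?_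
  obtain ⟨q, hq⟩ := map_iso_hom η
  refine ⟨⟨⟨η.obj.snd, η.obj.fst, η.obj.iso.symm⟩, fpProp_of_map G F _ q.symm ?_⟩,
    ObjectProperty.isoMk _ (CategoricalPullback.mkIso (Iso.refl _) (Iso.refl _) ?_), rfl, ?_⟩
  · rw [Iso.symm_hom, ← IsIso.Iso.inv_hom η.obj.iso]
    exact map_inv_of_eqToHom _ hq
  · show F.map (𝟙 _) ≫ η.obj.iso.hom = η.obj.iso.hom ≫ G.map (𝟙 _)
    simp
  · exact 𝒳.p.map_id _

/-- functors between categories represented by algebraic spaces are representable -/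
theorem repByAlgSp1_of_spaces (h𝒳 : RepByAlgSp 𝒳) (h𝒴 : RepByAlgSp 𝒴) (f : 𝒳 ⥤ᵇ 𝒴) : RepByAlgSp1 f := by
  obtain ⟨A, eA, hA⟩ := h𝒳
  obtain ⟨B, eB, hB⟩ := h𝒴
  obtain ⟨k, hk, -, ⟨j⟩⟩ := isEquivOver_symm hB
  let Φ := BasedFunctor.comp (BasedFunctor.comp eA f) k
  exact (repByAlgSp1_iff_of_equiv f (Stk.ofPshMap (mapOf Φ)) eA eB hA hB
    ((post _ eB).mapIso (mapOfIso Φ) ≪≫ (Stk.restr (BasedFunctor.comp eA f) _).mapIso j)).2
    (repByAlgSp1_of_space ((isAlgSpaceP_obj_iff _).2 A.property) ((isAlgSpaceP_obj_iff _).2 B.property) _)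

end swap

variable {𝒳 : BasedCategory.{v₂, u₂} (Over S)}

/-- structure functors compose -/
theorem comp_toSelf' {P : PSp S} (g : Stk.ofPsh P ⥤ᵇ 𝒳) :
    BasedFunctor.comp g (FibCat.toSelf 𝒳) = FibCat.toSelf (Stk.ofPsh P) :=
  (fun F G (h : F.toFunctor = G.toFunctor) => by
    obtain ⟨F, _⟩ := F
    obtain ⟨G, _⟩ := G
    cases h
    rfl : ∀ F G : Stk.ofPsh P ⥤ᵇ FibCat.selfOver (Over S), F.toFunctor = G.toFunctor → F = G) _ _ g.w

/-- charts from schemes are faithful -/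
instance faithful_chart {V : Over S} (c : FibCat.overCat V ⥤ᵇ 𝒳) : c.toFunctor.Faithful := by
  refine ⟨fun {a b} m m' h => Over.OverMorphism.ext ?_⟩
  have h₁ := map_map c m
  rw [show c.map m = c.map m' from h, map_map c m'] at h₁
  exact (cancel_epi (eqToHom (c.w_obj a))).1 ((cancel_mono (eqToHom (c.w_obj b).symm)).1
    (((Category.assoc _ _ _).trans h₁.symm).trans (Category.assoc _ _ _).symm))

/-- charts from schemes have few isomorphism classes in the fibres -/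
theorem fewClasses_chart [LocallySmall.{u + 1} 𝒳.obj] {V : Over S} (c : FibCat.overCat V ⥤ᵇ 𝒳) :
    FewClasses c := by
  intro U y T
  let cU : (T ⟶ U) → (Stk.ofPsh ((pyon S).obj U)).obj := fun g => ⟨T, ⟨g⟩⟩
  have mk : ∀ o : {o : (FibCat.fp y c).obj // (FibCat.fp y c).p.obj o = T},
      ∃ (g : T ⟶ U) (b : T ⟶ V) (m : cU g ≅ o.1.obj.fst) (_ : o.1.obj.snd ≅ (Over.mk b : Over V)),
        m.hom.hom = eqToHom o.2.symm := by
    intro o
    let z : Over V := o.1.obj.snd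
    have h : z.left = T := (fp_obj_eq o.1).trans o.2
    exact ⟨eqToHom o.2.symm ≫ o.1.obj.fst.sec.down, eqToHom h.symm ≫ z.hom, AlgStLib.isoOfEq o.2.symm rfl,
      Over.isoMk (eqToIso h) (by simp [z]), rfl⟩
  choose g b m n hm using mk
  let i : ∀ o : (FibCat.fp y c).obj, y.obj o.obj.fst ≅ c.obj o.obj.snd := fun o => o.obj.iso
  refine ⟨Σ g : T ⟶ U, Σ b : T ⟶ V, Shrink.{u + 1} (y.obj (cU g) ⟶ c.obj (Over.mk b)),
    fun o => ⟨g o, b o, equivShrink.{u + 1} _ (y.map (m o).hom ≫ (i o.1).hom ≫ c.map (n o).hom)⟩,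
    fun o o' h => ?_⟩
  have aux : ∀ (g₁ g₂ : T ⟶ U) (b₁ b₂ : T ⟶ V) (m₁ : cU g₁ ≅ o.1.obj.fst) (m₂ : cU g₂ ≅ o'.1.obj.fst)
      (n₁ : o.1.obj.snd ≅ (Over.mk b₁ : Over V)) (n₂ : o'.1.obj.snd ≅ (Over.mk b₂ : Over V)),
      (⟨g₁, b₁, equivShrink.{u + 1} _ (y.map m₁.hom ≫ (i o.1).hom ≫ c.map n₁.hom)⟩ :
        Σ g : T ⟶ U, Σ b : T ⟶ V, Shrink.{u + 1} (y.obj (cU g) ⟶ c.obj (Over.mk b))) =
        ⟨g₂, b₂, equivShrink.{u + 1} _ (y.map m₂.hom ≫ (i o'.1).hom ≫ c.map n₂.hom)⟩ →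
      ∃ e : o.1 ≅ o'.1, e.hom.hom.fst.hom = m₁.inv.hom ≫ m₂.hom.hom := by
    intro g₁ g₂ b₁ b₂ m₁ m₂ n₁ n₂ h
    obtain ⟨rfl, h⟩ := Sigma.mk.inj_iff.1 h
    obtain ⟨rfl, h⟩ := Sigma.mk.inj_iff.1 (eq_of_heq h)
    have hφ := (equivShrink.{u + 1} _).injective (eq_of_heq h)
    refine ⟨ObjectProperty.isoMk _ (CategoricalPullback.mkIso (m₁.symm ≪≫ m₂) (n₁ ≪≫ n₂.symm) ?_), rfl⟩
    show y.map (m₁.inv ≫ m₂.hom) ≫ (i o'.1).hom = (i o.1).hom ≫ c.map (n₁.hom ≫ n₂.inv)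
    have := y.map m₁.inv ≫= (hφ =≫ c.map n₂.inv)
    simp only [Category.assoc, ← Functor.map_comp_assoc, ← Functor.map_comp, Iso.inv_hom_id,
      CategoryTheory.Functor.map_id, Category.id_comp, Iso.hom_inv_id, Category.comp_id] at this
    exact this.symm
  obtain ⟨e, he⟩ := aux _ _ _ _ (m o) (m o') (n o) (n o') h
  refine ⟨e, ?_⟩
  show e.hom.hom.fst.hom = _
  rw [he, hm]
  have hi : (m o).inv.hom = eqToHom o.2 := by
    have := congrArg (fun k => k.hom) (m o).hom_inv_id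
    simp only [Stk.EltObj.comp_hom, hm] at this
    exact (cancel_epi (eqToHom o.2.symm)).1
      (this.trans (Eq.trans (show (𝟙 (cU (g o)) : cU (g o) ⟶ cU (g o)).hom = 𝟙 T from rfl) (by simp)))
  rw [hi]
  exact eqToHom_trans _ _

/-- precomposition of a representable functor out of a space with a map of spaces -/
theorem repWith_precomp {A B : Sp S} (hA : IsAlgSpace A) (hB : IsAlgSpace B) (a : A ⟶ B)
    {g : Stk.ofPsh B.obj ⥤ᵇ 𝒳} {Q R : MorphismProperty (Sp S)} [Q.RespectsIso] [R.RespectsIso]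
    (hg : RepByAlgSpWith Q g)
    (hR : ∀ ⦃P G : Sp S⦄ ⦃U : Over S⦄ (b : P ⟶ G) (p : G ⟶ (yon S).obj U) (f : G ⟶ B) (s : P ⟶ A),
      IsPullback b s f a → IsAlgSpace P → IsAlgSpace G → Q p → R (b ≫ p)) :
    RepByAlgSpWith R (BasedFunctor.comp (Stk.ofPshMap a.hom) g) := by
  rw [AlgStLib.repWith_iff]
  intro U y
  obtain ⟨G, eG, heG, hG₁, hG₂, hQb⟩ := (AlgStLib.repWith_iff Q g).1 hg U y
  let y₁ : Stk.ofPsh G ⥤ᵇ Stk.ofPsh B.obj := BasedFunctor.comp eG (FibCat.fpSnd y g)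
  let G₀ : Sp S := ⟨G, hG₁⟩
  let f : G₀ ⟶ B := ObjectProperty.homMk (mapOf y₁)
  have sqS := IsPullback.of_hasPullback f a
  have hP₂ := isAlgSpace_of_isPullback_space hB hG₂ hA sqS
  have sq := sqS.map (sheafToPresheaf (J S) (Type (u + 1)))
  obtain ⟨e, he, heq⟩ := exists_model_change (f := Stk.ofPshMap a.hom) (mapOfIso y₁) (e := pbFun sq.toCommSq)
    (isEquivOver_pbFun sq)
  haveI : (BasedFunctor.id (Stk.ofPsh B.obj)).toFunctor.Full := inferInstanceAs (𝟭 (Stk.EltObj B.obj)).Full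
  haveI : (BasedFunctor.id (Stk.ofPsh B.obj)).toFunctor.Faithful :=
    inferInstanceAs (𝟭 (Stk.EltObj B.obj)).Faithful
  let m := fpMap (F := FibCat.fpSnd y g) (G := Stk.ofPshMap a.hom) y₁ (Stk.ofPshMap a.hom) eG
    (BasedFunctor.id (Stk.ofPsh A.obj)) (BasedFunctor.id (Stk.ofPsh B.obj)) (Iso.refl _) (Iso.refl _)
  refine ⟨_, BasedFunctor.comp (BasedFunctor.comp e m) (assocFun y g (Stk.ofPshMap a.hom)),
    isEquivOver_comp (isEquivOver_comp he (isEquivOver_fpMap _ _ _ _ _ _ _ heG isEquivOver_id))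
      (isEquivOver_assocFun y g (Stk.ofPshMap a.hom)), (pullback f a).property, hP₂, ?_⟩
  let p : G₀ ⟶ (yon S).obj U := ObjectProperty.homMk (prjMap eG)
  have e₁ : (ObjectProperty.homMk (prjMap (BasedFunctor.comp (BasedFunctor.comp e m)
      (assocFun y g (Stk.ofPshMap a.hom)))) : pullback f a ⟶ (yon S).obj U) = pullback.fst f a ≫ p :=
    ObjectProperty.hom_ext _ ((mapOf_comp (BasedFunctor.comp e (FibCat.fpFst y₁ (Stk.ofPshMap a.hom)))
      (BasedFunctor.comp eG (FibCat.fpFst y g))).trans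
        (congrArg (· ≫ prjMap eG) (heq.trans (mapOf_ofPshMap (pullback.fst f a).hom))))
  show R (ObjectProperty.homMk (prjMap _) : pullback f a ⟶ (yon S).obj U)
  rw [e₁]
  exact hR (pullback.fst f a) p f (pullback.snd f a) sqS hP₂ hG₂ hQb

/-- composition of maps of presheaves as functors -/
def ofPshMapComp {P Q R : PSp S} (a : P ⟶ Q) (b : Q ⟶ R) :
    BasedFunctor.comp (Stk.ofPshMap a) (Stk.ofPshMap b) ≅ Stk.ofPshMap (a ≫ b) :=
  isoOfSec _ _ fun z => by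
    rw [secOf_comp_ofPshMap, secOf_ofPshMap, secOf_ofPshMap]
    rfl

/-- points lift fppf locally along flat, locally finitely presented, surjective functors -/
theorem liftsP_of_rep {B : PSp S} {g : Stk.ofPsh B ⥤ᵇ 𝒳}
    (hg : RepByAlgSpWith (LocP (@Flat ⊓ @LocallyOfFinitePresentation)) g) (hgs : RepByAlgSpWith IsSurjectiveMor g) :
    LiftsP g := by
  haveI := respectsIso_locP (S := S) (@Flat ⊓ @LocallyOfFinitePresentation)
  haveI := respectsIso_surjective (S := S)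
  intro T y
  obtain ⟨P, e, he, hP, hA, hq⟩ := (AlgStLib.repWith_iff _ g).1 hg T y
  obtain ⟨_, _, hs⟩ := good_of_model hgs he
  let π : (⟨P, hP⟩ : Sp S) ⟶ (yon S).obj T := ObjectProperty.homMk (prjMap e)
  obtain ⟨V, p, hp, hps⟩ := hA.atlas
  obtain ⟨h, hh⟩ := (yon S).map_surjective (p ≫ π)
  obtain ⟨h₁, h₃⟩ := hq p (𝟙 _) h hp (repWith_id _ _) (by rw [Category.comp_id]; exact hh.symm)
  have h₂ : Surjective h.left := ⟨fun t => by
    obtain ⟨q, hq⟩ := hs (Points.ofScheme T t)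
    obtain ⟨v, rfl⟩ := AlgSpLib.ofPt_surjective hps q
    rw [Points.map_ofPt] at hq
    change Points.ofPt (p ≫ π) v = _ at hq
    rw [← hh, AlgSpLib.ofScheme_map] at hq
    exact ⟨v, (Points.schemeEquiv T).injective hq⟩⟩
  refine ⟨V, h, h₁, h₂, h₃, BasedFunctor.comp (BasedFunctor.comp (Stk.ofPshMap p.hom) e) (FibCat.fpSnd y g), ⟨?_⟩⟩
  let i₁ : BasedFunctor.comp (Stk.ofPshMap p.hom) (BasedFunctor.comp e (FibCat.fpFst y g)) ≅
      Stk.ofPshMap ((pyon S).map h) :=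
    (Stk.restr (Stk.ofPshMap p.hom) _).mapIso (mapOfIso (BasedFunctor.comp e (FibCat.fpFst y g))).symm ≪≫
      ofPshMapComp _ _ ≪≫ eqToIso (congrArg Stk.ofPshMap (congrArg (fun k => k.hom) hh).symm)
  exact (Stk.restr (BasedFunctor.comp (Stk.ofPshMap p.hom) e) _).mapIso (FibCat.fpIso y g).symm ≪≫
    (post _ y).mapIso i₁

/-- flatness and local finite presentation combine -/
theorem repWith_flat_lfp {𝒴 : BasedCategory.{v₃, u₃} (Over S)} {𝒵 : BasedCategory.{v₄, u₄} (Over S)} {f : 𝒴 ⥤ᵇ 𝒵}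
    (h₁ : RepByAlgSpWith (LocP @Flat) f) (h₂ : RepByAlgSpWith (LocP @LocallyOfFinitePresentation) f) :
    RepByAlgSpWith (LocP (@Flat ⊓ @LocallyOfFinitePresentation)) f := by
  haveI := respectsIso_locP (S := S) (@Flat ⊓ @LocallyOfFinitePresentation)
  haveI := respectsIso_locP (S := S) @Flat
  haveI := respectsIso_locP (S := S) @LocallyOfFinitePresentation
  rw [AlgStLib.repWith_iff]
  intro U y
  obtain ⟨P, e, he, hP, hA, hq⟩ := (AlgStLib.repWith_iff _ f).1 h₁ U y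
  obtain ⟨_, _, hq'⟩ := good_of_model h₂ he
  exact ⟨P, e, he, hP, hA, fun U V a b h ha hb comm => ⟨hq a b h ha hb comm, hq' a b h ha hb comm⟩⟩

/-- a stack with a flat, locally finitely presented, surjective presentation by an algebraic space is algebraic -/
theorem isAlgStack_of_flat_presentation (hS : Stk.IsStack (Jf S) 𝒳) [LocallySmall.{u + 1} 𝒳.obj] {B : Sp S}
    (hB : IsAlgSpace B) (g : Stk.ofPsh B.obj ⥤ᵇ 𝒳)
    (hg : RepByAlgSpWith (LocP (@Flat ⊓ @LocallyOfFinitePresentation)) g) (hgs : RepByAlgSpWith IsSurjectiveMor g) :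
    IsAlgStack Scheme.fppfPrecoverage 𝒳 := by
  haveI := respectsIso_locP (S := S) (@Flat ⊓ @LocallyOfFinitePresentation)
  haveI := respectsIso_surjective (S := S)
  obtain ⟨U, a, ha, has⟩ := hB.atlas
  let x : Stk.ofPsh ((pyon S).obj U) ⥤ᵇ 𝒳 := BasedFunctor.comp (Stk.ofPshMap a.hom) g
  have hx : RepByAlgSpWith (LocP (@Flat ⊓ @LocallyOfFinitePresentation)) x :=
    repWith_precomp (IsAlgSpace.yon_obj U) hB a hg fun P G U b p f s sq _ _ hp =>
      locP_comp_isEtaleMor (isEtaleMor_of_repWith' (AlgSpLib.repWith_baseChange sq.flip ha)) hp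
  have hxs : RepByAlgSpWith IsSurjectiveMor x :=
    repWith_precomp (IsAlgSpace.yon_obj U) hB a hgs fun P G U b p f s sq _ _ hp => fun q => by
      obtain ⟨q₁, rfl⟩ := hp q
      obtain ⟨q₂, rfl⟩ := isSurjectiveMor_baseChange sq.flip (isSurjectiveMor_of_repWith has) q₁
      exact ⟨q₂, Points.map_comp b p q₂⟩
  have hlx : LiftsP x := liftsP_of_rep hx hxs
  have hxr := AlgStLib.repByAlgSp1_of_with hx
  have hU : RepByAlgSp (Stk.ofPsh ((pyon S).obj U)) := repByAlgSp_of_model isEquivOver_id (isAlgSpaceP_yon U)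
  -- the diagonal
  have hd : RepByAlgSp1 (FibCat.diag (FibCat.toSelf 𝒳)) := by
    let t := FibCat.toSelf 𝒳
    let ε : BasedFunctor.comp (FibCat.fpFst x x) (BasedFunctor.comp x t) ≅
        BasedFunctor.comp (FibCat.fpSnd x x) (BasedFunctor.comp x t) := (post _ t).mapIso (FibCat.fpIso x x)
    let C := FibCat.fpLift (FibCat.fpFst x x) (FibCat.fpSnd x x) ε
    have hxx : RepByAlgSp (FibCat.fp x x) := repByAlgSp_fp_yon hxr U x
    have hUU : RepByAlgSp (FibCat.fp (BasedFunctor.comp x t) (BasedFunctor.comp x t)) :=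
      repByAlgSp_fp (isFibGrpd_ofSpace _) isFibGrpd_selfOver
        (by rw [comp_toSelf']; exact repByAlgSp1_toSelf (isAlgSpaceP_yon U)) _ hU
    have hB' : RepByAlgSp1 (FibCat.fpFst (cmpMap x x t) (FibCat.diag t)) :=
      (repByAlgSp1_iff_of_equiv (FibCat.fpFst (cmpMap x x t) (FibCat.diag t)) C
        (cmpDiag ε (fun _ => rfl)) (BasedFunctor.id _) (isEquivOver_cmpDiag ε (fun _ => rfl)) isEquivOver_id
        (Iso.refl _)).2 (repByAlgSp1_of_spaces hxx hUU C)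
    exact repByAlgSp1_of_lifts_faithful hS
      (isStack_fp hS hS (isPrestack_of_isStack isAlgStack_selfOver) t t) (small_diag hS) (lifts_cmpMapP hlx) hB'
  refine ⟨hS, hd, ?_⟩
  -- charts are representable
  have hrep : ∀ (V : Over S) (c : FibCat.overCat V ⥤ᵇ 𝒳), RepByAlgSp1 c := by
    intro V c
    have hxc : RepByAlgSp (FibCat.fp x c) :=
      (repByAlgSp_iff_of_equiv (isEquivOver_swapFp x c)).1 (hxr V c)
    exact repByAlgSp1_of_lifts_faithful (isStack_overCat V) hS (fewClasses_chart c) hlx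
      (repByAlgSp1_of_spaces hxc hU (FibCat.fpFst x c))
  let x₀ : FibCat.overCat U ⥤ᵇ 𝒳 := BasedFunctor.comp (AlgSt.ofOverCat U) x
  have tr : ∀ Q : MorphismProperty (Sp S), RepByAlgSpWith Q x → RepByAlgSpWith Q x₀ := fun Q h =>
    (repWith_iff_of_equiv Q x x₀ (AlgSt.ofOverCat U) (BasedFunctor.id 𝒳) (isEquivOver_ofOverCat U) isEquivOver_id
      (Iso.refl _)).1 h
  exact hasAtlas_of_flat_chart hS hrep x₀ (tr _ hx) (tr _ hxs)

end Groth.Agent.ArtinAtlas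

end
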