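import Groth.Agent.ArtinAtlas.Neutral
import Groth.Agent.ArtinAtlas.Presentation
import Groth.Agent.AlgStLib.QuotRepProps

/-!
# Algebraic classifying stacks have flat, locally finitely presented groups
-/

set_option autoImplicit false
set_option backward.isDefEq.respectTransparency false
set_option backward.isDefEq.respectTransparency.types false
set_option linter.style.haveILetI false
universe v₂ u₂ v₃ u₃ u

noncomputable section

namespace Groth.Agent.ArtinAtlas

open CategoryTheory CategoryTheory.Limits MonoidalCategory CartesianMonoidalCategory AlgebraicGeometry Opposite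
  Groth.Agent.AlgStLib Groth.Agent.AlgSpLib Groth.Agent.FibCatRep
open _root_.AlgSp _root_.AlgSt

variable {S : Scheme.{u}}

/-- a property of a functor is a property of each of its models over a slice -/
theorem prop_of_model_overCat {𝒳 : BasedCategory.{v₂, u₂} (Over S)} {𝒴 : BasedCategory.{v₃, u₃} (Over S)}
    {f : 𝒳 ⥤ᵇ 𝒴} {Q : MorphismProperty (Sp S)} [Q.RespectsIso] (h : RepByAlgSpWith Q f) {U : Over S}
    {y : FibCat.overCat U ⥤ᵇ 𝒴} {F : Sp S} {e : AlgSt.ofSp F ⥤ᵇ FibCat.fp y f} (he : FibCat.IsEquivOver e) :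
    Q (spMapOfOver (BasedFunctor.comp e (FibCat.fpFst y f))) := by
  obtain ⟨F', e', he', hQ⟩ := h U y
  obtain ⟨i, hi⟩ := exists_iso_of_models he' he
  let j : F ≅ F'.obj := (fullyFaithfulSheafToPresheaf (J S) _).preimageIso i
  have e₁ : spMapOfOver (BasedFunctor.comp e (FibCat.fpFst y f)) =
      j.hom ≫ spMapOfOver (BasedFunctor.comp e' (FibCat.fpFst y f)) := ObjectProperty.hom_ext _ (by
    rw [spMapOfOver_hom]
    refine ((hi (BasedFunctor.comp (FibCat.fpFst y f) (ofOverCat U))).symm).trans ?_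
    show i.hom ≫ _ = i.hom ≫ _
    rw [spMapOfOver_hom]
    rfl)
  rw [e₁]
  exact (MorphismProperty.cancel_left_of_respectsIso Q _ _).2 hQ

/-- local sections combine to a single flat covering morphism -/
theorem exists_cover_section {T : Over S} {P : Over S} (π : P ⟶ T)
    (h : NonAbH1.IsLocallyTrivialFor Scheme.fppfPrecoverage (Over.mk π.left : Over T.left)) :
    ∃ (V : Over S) (g : V ⟶ T) (p : V ⟶ P), p ≫ π = g ∧ Flat g.left ∧ LocallyOfFinitePresentation g.left ∧
      Surjective g.left := by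
  obtain ⟨R, hR, hs⟩ := h
  obtain ⟨ι', X', f', rfl⟩ := R.exists_eq_ofArrows
  rw [Scheme.fppfPrecoverage, Scheme.ofArrows_mem_precoverage_iff] at hR
  choose i hx using hR.1
  let Z : ↥T.left → Scheme.{u} := fun x => X' (i x)
  let f : ∀ x, Z x ⟶ T.left := fun x => f' (i x)
  choose s hsπ using fun x => hs (f x) (Presieve.ofArrows.mk (i x))
  let V : Over S := Over.mk (Limits.Sigma.desc fun x => f x ≫ T.hom)
  let g : V ⟶ T := Over.homMk (Limits.Sigma.desc f) (by
    refine Limits.Sigma.hom_ext _ _ fun x => ?_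
    exact (Limits.Sigma.ι_desc_assoc _ _ _).trans (Limits.Sigma.ι_desc (fun x => f x ≫ T.hom) x).symm)
  have hσ : Limits.Sigma.desc s ≫ π.left = Limits.Sigma.desc f := Limits.Sigma.hom_ext _ _ fun x => by
    rw [Limits.Sigma.ι_desc_assoc, Limits.Sigma.ι_desc]
    exact hsπ x
  let p : V ⟶ P := Over.homMk (Limits.Sigma.desc s) (by
    show Limits.Sigma.desc s ≫ P.hom = Limits.Sigma.desc _
    rw [← Over.w π, reassoc_of% hσ]
    refine Limits.Sigma.hom_ext _ _ fun x => ?_
    rw [Limits.Sigma.ι_desc_assoc, Limits.Sigma.ι_desc])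
  have hp : ∀ x, Flat (f x) ∧ LocallyOfFinitePresentation (f x) := fun x => hR.2 (i x)
  have hι : ∀ x, Limits.Sigma.ι Z x ≫ g.left = f x := fun x => Limits.Sigma.ι_desc _ _
  refine ⟨V, g, p, Over.OverMorphism.ext hσ, ?_, ?_, ⟨fun x => ?_⟩⟩
  · exact (IsZariskiLocalAtSource.iff_of_openCover (P := @Flat) (sigmaOpenCover Z)).2
      fun x => by rw [show (sigmaOpenCover Z).f x = Limits.Sigma.ι Z x from rfl, hι]; exact (hp x).1
  · exact (IsZariskiLocalAtSource.iff_of_openCover (P := @LocallyOfFinitePresentation) (sigmaOpenCover Z)).2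
      fun x => by rw [show (sigmaOpenCover Z).f x = Limits.Sigma.ι Z x from rfl, hι]; exact (hp x).2
  · obtain ⟨z, hz⟩ := hx x
    exact ⟨Limits.Sigma.ι Z x z, ((congr($(hι x) z))).trans hz⟩

open Groth.Agent.AlgStLib.Quot in
/-- if the classifying stack is algebraic then the group is flat and locally of finite presentation -/
theorem flat_lfp_of_isAlgStack_BG (G : Over S) [GrpObj G]
    (h : AlgSt.IsAlgStack Scheme.fppfPrecoverage (AlgSt.BG Scheme.fppfPrecoverage G)) :
    Flat G.hom ∧ LocallyOfFinitePresentation G.hom := by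
  have hX := h.isStack.1
  let Bs : Over S := 𝟙_ (Over S)
  let e : FibCat.overCat Bs ⥤ᵇ AlgSt.BG Scheme.fppfPrecoverage G := qX (aX := AlgSt.trivAction G)
  have he : RepByAlgSp1 e :=
    (repByAlgSp1_overCat_iff Bs e).2 (repByAlgSp1_point hX h.diag (isAlgSpaceP_yon Bs) _)
  obtain ⟨U, x, hx, hxs⟩ := h.atlas
  haveI := respectsIso_surjective (S := S)
  have hxF : RepByAlgSpWith (LocP @Flat) x := AlgStLib.repWith_mono hx fun F T q _ hq =>
    fun U V a b k ha hb comm => by haveI : Smooth k.left := hq a b k ha hb comm; infer_instance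
  have hxP : RepByAlgSpWith (LocP @LocallyOfFinitePresentation) x := AlgStLib.repWith_mono hx fun F T q _ hq =>
    fun U V a b k ha hb comm => by haveI : Smooth k.left := hq a b k ha hb comm; infer_instance
  -- local trivialisations of the universal torsor
  obtain ⟨V, g, p, hp, hgf, hgp, hgs⟩ := exists_cover_section (torsor x).π (torsor x).loc
  let b₀ : V ⟶ U := p ≫ torsorτ x
  have hb : b₀ = g ≫ eqToHom (x.w_obj (StackCrit.top U)) := by
    show p ≫ (torsor x).π ≫ _ = _
    rw [← Category.assoc, hp]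
  let c : (torsor x).base.left ⟶ U.left := (eqToHom (x.w_obj (StackCrit.top U)) : (torsor x).base ⟶ U).left
  haveI : IsIso c := Functor.map_isIso (Over.forget S) (eqToHom (x.w_obj (StackCrit.top U)))
  have hbl : b₀.left = g.left ≫ c := congrArg Over.Hom.left hb
  haveI hb₁ : Flat b₀.left := by rw [hbl]; infer_instance
  haveI hb₂ : LocallyOfFinitePresentation b₀.left := by rw [hbl]; infer_instance
  haveI hb₃ : Surjective b₀.left := by rw [hbl]; infer_instance
  let a₀ : V ⟶ Bs := p ≫ (torsor x).φ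
  let η : Hom2 x e b₀ a₀ := ⟨(comparison x ⟨V, ⟨p⟩⟩).hom, (comparison_hom_base x ⟨V, ⟨p⟩⟩).trans (by rfl)⟩
  -- the trivialising cover is a cover of the base
  have ea : a₀.left = V.hom := (Category.comp_id _).symm.trans (Over.w a₀)
  haveI : Flat V.hom := prop_hom_of_section etST_flat (fun X Y Z s q hs f hf => flat_of_retract s q hs f) hX hxF
    (inferInstanceAs (Flat (𝟙 S))) (η.inv hX) hb₁
  haveI : LocallyOfFinitePresentation V.hom := prop_hom_of_section etST_lfp
    (fun X Y Z s q hs f hf => lfp_of_retract s q hs f) hX hxP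
    (inferInstanceAs (LocallyOfFinitePresentation (𝟙 S))) (η.inv hX) hb₂
  haveI : Surjective V.hom := ⟨fun s => by
    obtain ⟨D, hD⟩ := exists_pairSp hX e (AlgStLib.repByAlgSp1_of_with hxs)
    obtain ⟨T, a, b, θ, k, hk⟩ := D.isSurjectiveMor_iff.1 (hD _ inferInstance hxs) s
    obtain ⟨v, hv⟩ := b₀.left.surjective (b.left k)
    refine ⟨v, ?_⟩
    have e₁ : V.hom v = U.hom (b₀.left v) := (congrArg (fun m : V.left ⟶ S => m v) (Over.w b₀)).symm
    have e₂ : U.hom (b.left k) = T.hom k := congrArg (fun m : T.left ⟶ S => m k) (Over.w b)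
    have e₃ : T.hom k = Bs.hom (a.left k) := (congrArg (fun m : T.left ⟶ S => m k) (Over.w a)).symm
    rw [e₁, hv, e₂, e₃, hk]
    rfl⟩
  haveI : Flat a₀.left := by rw [ea]; infer_instance
  haveI : LocallyOfFinitePresentation a₀.left := by rw [ea]; infer_instance
  haveI : Surjective a₀.left := by rw [ea]; infer_instance
  have hE := repWith_of_local_iso hX he (repWith_flat_lfp hxF hxP) (η.inv hX)
  haveI := respectsIso_locP (S := S) (@Flat ⊓ @LocallyOfFinitePresentation)
  have hτ := prop_of_model_overCat hE (isEquivOver_fibreFun (aX := AlgSt.trivAction G) e)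
  rw [spMapOfOver_fibreFun] at hτ
  obtain ⟨h₁, h₂⟩ := AlgSp.locP_yon_map hτ
  have e₁ : G.hom = (ρ_ G).inv.left ≫ (torsorτ e).left := by
    refine ((Over.w (ρ_ G).inv).symm.trans ?_)
    refine congrArg ((ρ_ G).inv.left ≫ ·) ?_
    exact ((Category.comp_id _).symm.trans (Over.w (torsorτ e))).symm
  haveI : IsIso (ρ_ G).inv.left := Functor.map_isIso (Over.forget S) (ρ_ G).inv
  rw [e₁]
  haveI : Flat (torsorτ e).left := h₁
  haveI : LocallyOfFinitePresentation (torsorτ e).left := h₂
  exact ⟨inferInstance, inferInstance⟩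

end Groth.Agent.ArtinAtlas

end
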