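import Groth.Agent.ArtinAtlas.Sigma
import Groth.Agent.GerbLib.Basic
import Groth.Agent.AlgStLib.Rep

/-!
# Single covers from covering sieves, gluing isomorphisms on coproducts
-/

set_option autoImplicit false
set_option backward.isDefEq.respectTransparency false
set_option backward.isDefEq.respectTransparency.types false
set_option linter.style.haveILetI false
universe v₂ u₂ u

noncomputable section

namespace Groth.Agent.ArtinAtlas

open CategoryTheory CategoryTheory.Limits AlgebraicGeometry Opposite Groth.Agent.FibCatRep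
open Groth.Agent.AlgStLib (exists_point)

variable {S : Scheme.{u}} {𝒳 : BasedCategory.{v₂, u₂} (Over S)}

/-- covering sieves contain coproduct covers -/
theorem exists_sigma_cover {T : Over S} {R : Sieve T} (hR : R ∈ (QuotSh.J Scheme.fppfPrecoverage S) T) :
    ∃ (ι : Type u) (W : ι → Over S) (f : ∀ i, W i ⟶ T) (M : Over S) (inc : ∀ i, W i ⟶ M) (q : M ⟶ T),
      (∀ i, R (f i) ∧ Flat (f i).left ∧ LocallyOfFinitePresentation (f i).left) ∧
      (∀ t : T.left, ∃ i, t ∈ Set.range (f i).left) ∧ (∀ i, inc i ≫ q = f i) ∧ (∀ i, Mono (inc i)) ∧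
      (∀ {i j : ι} {V : Over S} (g : V ⟶ W i) (g' : V ⟶ W j), g ≫ inc i = g' ≫ inc j → i ≠ j → IsEmpty V.left) ∧
      Sieve.generate (Presieve.ofArrows W inc) ∈ (QuotSh.J Scheme.fppfPrecoverage S) M ∧
      Flat q.left ∧ LocallyOfFinitePresentation q.left ∧ Surjective q.left := by
  obtain ⟨P, hP, hle⟩ :=
    Precoverage.mem_toGrothendieck_iff_of_isStableUnderComposition.1 ((GrothendieckTopology.mem_over_iff _ R).1 hR)
  obtain ⟨hP₁, hP₂⟩ := hP
  have key : ∀ x : ↥T.left, ∃ (W : Scheme.{u}) (g : W ⟶ T.left), P g ∧ x ∈ Set.range g := fun x => by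
    obtain ⟨W, g, hg, hx⟩ := (Presieve.mem_comap_jointlySurjectivePrecoverage_iff (F := Scheme.forget)).1 hP₁ x
    exact ⟨W, g, hg, hx⟩
  choose W g hg hx using key
  let Z : ↥T.left → Over S := fun x => Over.mk (g x ≫ T.hom)
  let f : ∀ x, Z x ⟶ T := fun x => Over.homMk (g x)
  let M : Over S := Over.mk (Sigma.desc fun x => (Z x).hom)
  let inc : ∀ x, Z x ⟶ M := fun x => Over.homMk (Sigma.ι W x) (Sigma.ι_desc _ x)
  let q : M ⟶ T := Over.homMk (Sigma.desc g) (Sigma.hom_ext _ _ fun x => by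
    show Sigma.ι W x ≫ Sigma.desc g ≫ T.hom = Sigma.ι W x ≫ Sigma.desc _
    rw [Sigma.ι_desc_assoc]
    exact (Sigma.ι_desc (fun x => (Z x).hom) x).symm)
  have hop : ∀ x, IsOpenImmersion (inc x).left := fun x => inferInstanceAs (IsOpenImmersion (Sigma.ι W x))
  refine ⟨_, Z, f, M, inc, q, fun x => ⟨(Sieve.overEquiv_iff R (g x)).1 (hle _ _ (hg x)), hP₂ (hg x)⟩,
    fun t => ⟨t, hx t⟩, fun x => Over.OverMorphism.ext (Sigma.ι_desc _ x),
    fun x => (Over.forget S).mono_of_mono_map (inferInstanceAs (Mono (Sigma.ι W x))),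
    fun a a' e hij => isEmpty_of_commSq_sigmaι_of_ne (g := W) ⟨congrArg Over.Hom.left e⟩ hij,
    AlgSpLib.generate_ofArrows_mem_J inc
      (Scheme.zariskiPrecoverage_le_fppfPrecoverage _ (sigmaOpenCover W).mem₀), ?_, ?_, ?_⟩
  · exact IsZariskiLocalAtSource.sigmaDesc (P := @Flat) fun x => (hP₂ (hg x)).1
  · exact IsZariskiLocalAtSource.sigmaDesc (P := @LocallyOfFinitePresentation) fun x => (hP₂ (hg x)).2
  · refine ⟨fun t => ?_⟩
    obtain ⟨w, hw⟩ := hx t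
    refine ⟨Sigma.ι W t w, ?_⟩
    show (Sigma.ι W t ≫ Sigma.desc g) w = t
    rw [Sigma.ι_desc]
    exact hw

/-- isomorphisms between charts on the summands glue -/
theorem exists_glue_sigma (hS : Stk.IsStack (QuotSh.J Scheme.fppfPrecoverage S) 𝒳) {U₁ U₂ : Over S}
    {x : FibCat.overCat U₁ ⥤ᵇ 𝒳} {y : FibCat.overCat U₂ ⥤ᵇ 𝒳} {ι : Type u} {W : ι → Over S} {M : Over S}
    {inc : ∀ i, W i ⟶ M} (hmono : ∀ i, Mono (inc i))
    (hempty : ∀ {i j : ι} {V : Over S} (g : V ⟶ W i) (g' : V ⟶ W j), g ≫ inc i = g' ≫ inc j → i ≠ j →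
      IsEmpty V.left)
    (hR : Sieve.generate (Presieve.ofArrows W inc) ∈ (QuotSh.J Scheme.fppfPrecoverage S) M)
    (a : M ⟶ U₁) (b : M ⟶ U₂) (θ : ∀ i, Hom2 x y (inc i ≫ a) (inc i ≫ b)) :
    ∃ η : Hom2 x y a b, ∀ i, Hom2.Res (inc i) η (θ i) := by
  let G := BasedFunctor.comp (AlgSt.overMap a) x
  let G' := BasedFunctor.comp (AlgSt.overMap b) y
  let R := Sieve.generate (Presieve.ofArrows W inc)
  have hgen : ∀ {V : Over S} (c : V ⟶ M), R c → ∃ (i : ι) (g : V ⟶ W i), g ≫ inc i = c := by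
    rintro V c ⟨W', g, f, ⟨i⟩, h⟩
    exact ⟨i, g, h⟩
  choose ii gg hgg using @hgen
  have ψ : ∀ {V : Over S} (c : V ⟶ M) (hc : R c), ∃ ψ : Hom2 x y (c ≫ a) (c ≫ b),
      Hom2.Res (gg c hc) (θ (ii c hc)) ψ := fun c hc =>
    (Hom2.exists_res hS.1 _ _ _ _ (by rw [← Category.assoc, hgg]) (by rw [← Category.assoc, hgg])).exists
  choose ψ hψ using @ψ
  have hnat : ∀ {V V' : Over S} (k : V' ⟶ V) (c : V ⟶ M) (hc : R c),
      Hom2.Res k (ψ c hc) (ψ (k ≫ c) (R.downward_closed hc k)) := by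
    intro V V' k c hc
    obtain ⟨χ, hχ, -⟩ := Hom2.exists_res hS.1 (ψ c hc) k ((k ≫ c) ≫ a) ((k ≫ c) ≫ b)
      (Category.assoc _ _ _).symm (Category.assoc _ _ _).symm
    suffices χ = ψ (k ≫ c) (R.downward_closed hc k) by rwa [this] at hχ
    have h₁ := (hψ c hc).trans hχ
    have h₂ := hψ (k ≫ c) (R.downward_closed hc k)
    have e : (k ≫ gg c hc) ≫ inc (ii c hc) =
        gg (k ≫ c) (R.downward_closed hc k) ≫ inc (ii (k ≫ c) (R.downward_closed hc k)) := by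
      rw [hgg, Category.assoc, hgg]
    revert h₂ e
    generalize ψ (k ≫ c) (R.downward_closed hc k) = ψ'
    generalize gg (k ≫ c) (R.downward_closed hc k) = g'
    generalize ii (k ≫ c) (R.downward_closed hc k) = j at g' ⊢
    intro h₂ e
    by_cases hij : ii c hc = j
    · subst hij
      obtain rfl : k ≫ gg c hc = g' := (cancel_mono (inc (ii c hc))).1 e
      exact h₁.unique hS.1 h₂
    · haveI := hempty _ _ e hij
      obtain ⟨θ₀, hu⟩ := existsUnique_hom2_of_isEmpty hS (x := x) (y := y) ((k ≫ c) ≫ a) ((k ≫ c) ≫ b)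
      rw [hu χ, hu ψ']
  haveI : (Stk.resSieve R 𝒳).IsEquivalence := hS.2 R hR
  obtain ⟨η, hη, -⟩ := existsUnique_hom2 (G := G) (G' := G') (T := M) (R := R) hS.1
    (⟨inferInstance, inferInstance⟩ : Stk.IsPrestackFor R 𝒳) (fun c hc => (Hom2.toMap' (Hom2.toMap (ψ c hc)))) fun {V V'} k c hc =>
      ⟨rfl, rfl, (hnat k c hc).2.2⟩
  let η' : Hom2 x y (𝟙 M ≫ a) (𝟙 M ≫ b) := Hom2.ofMap' (Hom2.ofMap η)
  refine ⟨η'.cast (Category.id_comp a) (Category.id_comp b), fun i => ?_⟩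
  have hi : R (inc i) := ⟨W i, 𝟙 _, inc i, ⟨i⟩, Category.id_comp _⟩
  have h₁ : Hom2.Res (inc i) (η'.cast (Category.id_comp a) (Category.id_comp b)) (ψ (inc i) hi) := by
    obtain ⟨ha, hb, e⟩ := hη (inc i) hi
    exact Hom2.res_cast (k := inc i) (θ := η') (θ' := ψ (inc i) hi) ⟨by rw [Category.id_comp], by rw [Category.id_comp], e⟩ _ _ rfl rfl
  suffices ψ (inc i) hi = θ i by rwa [this] at h₁
  have h₂ := hψ (inc i) hi
  have e := hgg (inc i) hi
  revert h₂ e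
  generalize ψ (inc i) hi = ψ'
  generalize gg (inc i) hi = g'
  generalize ii (inc i) hi = j at g' ⊢
  intro h₂ e
  by_cases hij : j = i
  · subst hij
    obtain rfl : g' = 𝟙 _ := (cancel_mono (inc j)).1 (e.trans (Category.id_comp _).symm)
    exact h₂.unique hS.1 (Hom2.res_id (θ j))
  · haveI := hempty g' (𝟙 _) (e.trans (Category.id_comp _).symm) hij
    obtain ⟨θ₀, hu⟩ := existsUnique_hom2_of_isEmpty hS (x := x) (y := y) (inc i ≫ a) (inc i ≫ b)
    rw [hu ψ', hu (θ i)]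

/-- in a gerbe over the base points of charts are isomorphic after an fppf cover -/
theorem exists_iso_cover (hS : Stk.IsStack (QuotSh.J Scheme.fppfPrecoverage S) 𝒳)
    (hH : Gerb.LocSurjHom (QuotSh.J Scheme.fppfPrecoverage S) (FibCat.toSelf 𝒳)) {U₁ U₂ T : Over S}
    (x : FibCat.overCat U₁ ⥤ᵇ 𝒳) (y : FibCat.overCat U₂ ⥤ᵇ 𝒳) (a : T ⟶ U₁) (b : T ⟶ U₂) :
    ∃ (M : Over S) (q : M ⟶ T), Flat q.left ∧ LocallyOfFinitePresentation q.left ∧ Surjective q.left ∧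
      Nonempty (Hom2 x y (q ≫ a) (q ≫ b)) := by
  let c : 𝒳.p.obj (ob x a) ⟶ 𝒳.p.obj (ob y b) := eqToHom ((p_ob x a).trans (p_ob y b).symm)
  haveI : (FibCat.selfOver (Over S)).p.IsHomLift (𝟙 T) c :=
    IsHomLift.of_fac' _ _ _ (p_ob x a) (p_ob y b) (by
      show c = _
      simp [c])
  obtain ⟨R, hR, hl⟩ := GerbLib.locHom_at hH (U := T) (ob x a) (ob y b) c (p_ob x a) inferInstance
  obtain ⟨ι, W, f, M, inc, q, hf, hcv, hq, hmono, hempty, hRM, h₁, h₂, h₃⟩ := exists_sigma_cover hR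
  have loc : ∀ i, Nonempty (Hom2 x y (f i ≫ a) (f i ≫ b)) := by
    intro i
    obtain ⟨x₀, φ, ψ, hφ, hψ, -⟩ := hl (f i) (hf i).1
    haveI := hφ
    haveI := hψ
    haveI : 𝒳.p.IsHomLift (f i) (wm x (f i) (rfl : f i ≫ a = f i ≫ a)) :=
      IsHomLift.of_fac' _ _ _ (p_ob x _) (p_ob x a) (map_wm x (f i) rfl)
    haveI : 𝒳.p.IsHomLift (f i) (wm y (f i) (rfl : f i ≫ b = f i ≫ b)) :=
      IsHomLift.of_fac' _ _ _ (p_ob y _) (p_ob y b) (map_wm y (f i) rfl)
    obtain ⟨χ, hχ, -⟩ := GerbLib.exists_connect hS.1 (f i) φ (wm x (f i) (rfl : f i ≫ a = f i ≫ a))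
    obtain ⟨χ', hχ', -⟩ := GerbLib.exists_connect hS.1 (f i) (wm y (f i) (rfl : f i ≫ b = f i ≫ b)) ψ
    haveI := hχ
    haveI := hχ'
    exact ⟨⟨χ ≫ χ', by rw [Functor.map_comp, IsHomLift.fac' 𝒳.p (𝟙 (W i)) χ,
      IsHomLift.fac' 𝒳.p (𝟙 (W i)) χ']; simp⟩⟩
  let θ := fun i => (loc i).some
  obtain ⟨η, -⟩ := exists_glue_sigma hS hmono hempty hRM (q ≫ a) (q ≫ b) fun i =>
    (θ i).cast (by rw [← Category.assoc, hq]) (by rw [← Category.assoc, hq])
  exact ⟨M, q, h₁, h₂, h₃, ⟨η⟩⟩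

/-- a gerbe over the base has a point on an fppf cover of the base -/
theorem exists_point_cover {𝒳 : AlgSt.Cat S} (hS : Stk.IsStack (QuotSh.J Scheme.fppfPrecoverage S) 𝒳)
    (hO : Gerb.LocSurjObj (QuotSh.J Scheme.fppfPrecoverage S) (FibCat.toSelf 𝒳)) :
    ∃ (V : Over S) (_ : FibCat.overCat V ⥤ᵇ 𝒳),
      Flat V.hom ∧ LocallyOfFinitePresentation V.hom ∧ Surjective V.hom := by
  let B : Over S := Over.mk (𝟙 S)
  obtain ⟨R, hR, hl⟩ := GerbLib.locObj_at hO (U := B) B rfl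
  obtain ⟨ι, W, f, M, inc, q, hf, hcv, hq, hmono, hempty, hRM, h₁, h₂, h₃⟩ := exists_sigma_cover hR
  have loc : ∀ i, Nonempty (FibCat.overCat (W i) ⥤ᵇ 𝒳) := by
    intro i
    obtain ⟨x₀, m, hm⟩ := hl (f i) (hf i).1
    haveI := hm
    have h : 𝒳.p.obj x₀ = W i :=
      GerbLib.obj_over (FibCat.toSelf 𝒳) (IsHomLift.domain_eq (FibCat.selfOver (Over S)).p (f i) m)
    obtain ⟨x, -, -⟩ := exists_point hS.1 x₀
    exact ⟨BasedFunctor.comp (AlgSt.ofOverCat (W i))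
      (BasedFunctor.comp (Stk.ofPshMap ((AlgSp.pyon S).map (eqToHom h.symm))) x)⟩
  let c := fun i => (loc i).some
  obtain ⟨M', inc', G, -, hop, hcov, -⟩ := exists_sigma_chart hS W c
  have hw : ∀ i, (inc' i).left ≫ M'.hom = (f i).left := fun i => by
    rw [Over.w (inc' i)]
    simpa [B] using (Over.w (f i)).symm
  let 𝒰 : M'.left.OpenCover := Scheme.Cover.mkOfCovers ι (fun i => (W i).left) (fun i => (inc' i).left)
    (fun m => by obtain ⟨i, w, hw⟩ := hcov m; exact ⟨i, w, hw⟩) hop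
  refine ⟨M', G, ?_, ?_, ⟨fun t => ?_⟩⟩
  · refine IsZariskiLocalAtSource.of_openCover (P := @Flat) 𝒰 fun i => ?_
    show Flat ((inc' i).left ≫ M'.hom)
    rw [hw]
    exact (hf i).2.1
  · refine IsZariskiLocalAtSource.of_openCover (P := @LocallyOfFinitePresentation) 𝒰 fun i => ?_
    show LocallyOfFinitePresentation ((inc' i).left ≫ M'.hom)
    rw [hw]
    exact (hf i).2.2
  · obtain ⟨i, w, hw'⟩ := hcv t
    exact ⟨(inc' i).left w, (congrArg (fun k : (W i).left ⟶ S => k w) (hw i)).trans hw'⟩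

end Groth.Agent.ArtinAtlas

end
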