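import Groth.Agent.ArtinAtlas.Atlas
import Groth.Agent.Grpd.FlatComp
import Groth.Agent.FppfSource.Scheme

/-!
# Properties of the base of an atlas of a neutral gerbe
-/

set_option autoImplicit false
set_option backward.isDefEq.respectTransparency false
set_option backward.isDefEq.respectTransparency.types false
set_option linter.style.haveILetI false
universe v₂ u₂ u

noncomputable section

namespace Groth.Agent.ArtinAtlas

open CategoryTheory CategoryTheory.Limits AlgebraicGeometry Opposite Groth.Agent.AlgSpLib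
open _root_.AlgSp _root_.AlgSt

section retract

variable {X Y Z : Scheme.{u}}

/-- the base of a flat retraction is flat -/
theorem flat_of_retract (s : Y ⟶ X) (p : X ⟶ Y) (hs : s ≫ p = 𝟙 Y) (f : Y ⟶ Z) [Flat (p ≫ f)] : Flat f := by
  refine Flat.of_stalkMap _ fun v => ?_
  obtain ⟨y, rfl⟩ : ∃ y, p y = v := ⟨s v, congrArg (fun k : Y ⟶ Y => k v) hs⟩
  obtain ⟨w, hw⟩ : ∃ w, s w = s (p y) := ⟨p y, rfl⟩
  have h := Flat.stalkMap (p ≫ f) (s (p y))
  have e : p (s (p y)) = p y := congrArg (fun k : Y ⟶ Y => k (p y)) hs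
  revert h
  generalize hx : s (p y) = x₀
  intro h
  subst hx
  rw [Scheme.Hom.stalkMap_comp] at h
  have key : ∀ (v : Y) (hv : p (s v) = v), RingHom.Flat ((f.stalkMap (p (s v)) ≫ p.stalkMap (s v))).hom →
      RingHom.Flat (f.stalkMap (p (s v))).hom := by
    intro v hv hfl
    haveI : IsIso ((s ≫ p).stalkMap v) := by rw [hs]; infer_instance
    rw [Scheme.Hom.stalkMap_comp] at this
    algebraize [(f.stalkMap (p (s v))).hom, (p.stalkMap (s v)).hom,
      (p.stalkMap (s v)).hom.comp (f.stalkMap (p (s v))).hom]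
    haveI : Module.Flat (Z.presheaf.stalk (f (p (s v)))) (X.presheaf.stalk (s v)) := hfl
    let i : X.presheaf.stalk (s v) ⟶ Y.presheaf.stalk (p (s v)) :=
      s.stalkMap v ≫ CategoryTheory.inv (p.stalkMap (s v) ≫ s.stalkMap v)
    have hi : p.stalkMap (s v) ≫ i = 𝟙 _ := by
      simp only [i, ← Category.assoc, IsIso.hom_inv_id]
    exact Module.Flat.of_retract
      ((IsScalarTower.toAlgHom (Z.presheaf.stalk (f (p (s v)))) (Y.presheaf.stalk (p (s v)))
        (X.presheaf.stalk (s v))).toLinearMap)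
      ({ toFun := i.hom
         map_add' := map_add _
         map_smul' := fun r z => by
           rw [Algebra.smul_def, map_mul, Algebra.smul_def]
           congr 1
           exact congrArg (fun k : Y.presheaf.stalk (p (s v)) ⟶ _ => k.hom (algebraMap _ _ r)) hi } :
        X.presheaf.stalk (s v) →ₗ[Z.presheaf.stalk (f (p (s v)))] Y.presheaf.stalk (p (s v)))
      (LinearMap.ext fun z => congrArg (fun k : Y.presheaf.stalk (p (s v)) ⟶ _ => k.hom z) hi)
  exact e ▸ key (p y) e h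

/-- the base of a finitely presented algebra retraction is finitely presented -/
theorem finitePresentation_of_retract {A B C : Type u} [CommRing A] [CommRing B] [CommRing C] [Algebra A B]
    [Algebra A C] [Algebra.FinitePresentation A C] (p : B →ₐ[A] C) (s : C →ₐ[A] B) (h : s.comp p = AlgHom.id A B) :
    Algebra.FinitePresentation A B := by
  have hsur : Function.Surjective s := fun b => ⟨p b, AlgHom.congr_fun h b⟩
  obtain ⟨n, π, hπ, hker⟩ := Algebra.FinitePresentation.out (R := A) (A := C)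
  choose w hw using fun i => hπ (p (s (π (MvPolynomial.X i))))
  let J : Ideal C := Ideal.span (Set.range fun i : Fin n => π (MvPolynomial.X i) - π (w i))
  have hJ : RingHom.ker s.toRingHom = J := by
    refine le_antisymm ?_ (Ideal.span_le.2 ?_)
    · let q : C →ₐ[A] C ⧸ J := Ideal.Quotient.mkₐ A J
      have e : q.comp ((p.comp s).comp π) = q.comp π := by
        refine MvPolynomial.algHom_ext fun i => ?_
        show q (p (s (π (MvPolynomial.X i)))) = q (π (MvPolynomial.X i))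
        rw [← hw i]
        refine ((Ideal.Quotient.eq).2 ?_).symm
        exact Ideal.subset_span ⟨i, rfl⟩
      intro z hz
      obtain ⟨z, rfl⟩ := hπ z
      have h' : q (p (s (π z))) = q (π z) := AlgHom.congr_fun e z
      rw [show s (π z) = 0 from hz, map_zero, map_zero] at h'
      exact (Ideal.Quotient.eq_zero_iff_mem).1 h'.symm
    · rintro _ ⟨i, rfl⟩
      show s (π (MvPolynomial.X i) - π (w i)) = 0
      rw [map_sub, hw i, show s (p (s (π (MvPolynomial.X i)))) = s (π (MvPolynomial.X i)) from AlgHom.congr_fun h _,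
        sub_self]
  refine Algebra.FinitePresentation.of_surjective hsur ?_
  show (RingHom.ker s.toRingHom).FG
  rw [hJ]
  classical
  exact ⟨(Finset.univ).image fun i : Fin n => π (MvPolynomial.X i) - π (w i), by simp [J]⟩

/-- the base of a finitely presented retraction is finitely presented -/
theorem lfp_of_retract (s : Y ⟶ X) (p : X ⟶ Y) (hs : s ≫ p = 𝟙 Y) (f : Y ⟶ Z)
    [LocallyOfFinitePresentation (p ≫ f)] : LocallyOfFinitePresentation f := by
  have key : ∀ v : Y, ∃ D : Y.Opens, v ∈ D ∧ LocallyOfFinitePresentation (D.ι ≫ f) := by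
    intro v
    have hsv : p (s v) = v := congrArg (fun k : Y ⟶ Y => k v) hs
    obtain ⟨U, hU, hvU, -⟩ := exists_isAffineOpen_mem_and_subset (show f v ∈ (⊤ : Z.Opens) from trivial)
    obtain ⟨D₀, hD₀, hvD₀, hD₀U⟩ := exists_isAffineOpen_mem_and_subset (show v ∈ f ⁻¹ᵁ U from hvU)
    obtain ⟨W, hW, hvW, hWD⟩ := exists_isAffineOpen_mem_and_subset
      (show s v ∈ p ⁻¹ᵁ D₀ from show p (s v) ∈ D₀ by rw [hsv]; exact hvD₀)
    obtain ⟨h, hhle, hvh⟩ := hD₀.exists_basicOpen_le (V := s ⁻¹ᵁ W) ⟨v, hvW⟩ hvD₀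
    let D := Y.basicOpen h
    let W' : X.Opens := W ⊓ p ⁻¹ᵁ D
    have hW' : IsAffineOpen W' := by
      have e : W' = X.basicOpen ((X.presheaf.map (homOfLE hWD).op) (p.app D₀ h)) := by
        rw [Scheme.basicOpen_res, ← Scheme.preimage_basicOpen]
      rw [e]
      exact hW.basicOpen _
    have hsW : D ≤ s ⁻¹ᵁ W' := fun z hz => ⟨hhle hz, show p (s z) ∈ D by
      rw [show p (s z) = z from congrArg (fun k : Y ⟶ Y => k z) hs]; exact hz⟩
    have hDU : D ≤ f ⁻¹ᵁ U := le_trans (Y.basicOpen_le h) hD₀U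
    let p₁ : W'.toScheme ⟶ D.toScheme := p.resLE D W' inf_le_right
    let s₁ : D.toScheme ⟶ W'.toScheme := s.resLE W' D hsW
    have hs₁ : s₁ ≫ p₁ = 𝟙 _ := by
      rw [← cancel_mono D.ι, Category.assoc, Scheme.Hom.resLE_comp_ι, Scheme.Hom.resLE_comp_ι_assoc, hs,
        Category.comp_id, Category.id_comp]
    let f₁ := f.resLE U D hDU
    haveI : IsAffine D.toScheme := hD₀.basicOpen h
    haveI : IsAffine W'.toScheme := hW'
    haveI : IsAffine U.toScheme := hU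
    have hp₁ : LocallyOfFinitePresentation (p₁ ≫ f₁) := by
      refine prop_of_comp_mono @LocallyOfFinitePresentation _ U.ι ?_
      rw [Category.assoc, Scheme.Hom.resLE_comp_ι, Scheme.Hom.resLE_comp_ι_assoc]
      exact IsZariskiLocalAtSource.comp ‹_› _
    rw [HasRingHomProperty.iff_of_isAffine (P := @LocallyOfFinitePresentation), Scheme.Hom.comp_appTop,
      CommRingCat.hom_comp] at hp₁
    have hf₁ : LocallyOfFinitePresentation f₁ := by
      rw [HasRingHomProperty.iff_of_isAffine (P := @LocallyOfFinitePresentation)]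
      have hsp : s₁.appTop.hom.comp p₁.appTop.hom = RingHom.id _ := by
        rw [← CommRingCat.hom_comp, ← Scheme.Hom.comp_appTop, hs₁]
        rfl
      algebraize [f₁.appTop.hom, p₁.appTop.hom.comp f₁.appTop.hom]
      exact finitePresentation_of_retract (AlgHom.mk p₁.appTop.hom fun r => rfl)
        (AlgHom.mk s₁.appTop.hom fun r => RingHom.congr_fun hsp _) (AlgHom.ext fun z => RingHom.congr_fun hsp z)
    refine ⟨D, hvh, ?_⟩
    rw [← Scheme.Hom.resLE_comp_ι f hDU]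
    haveI := hf₁
    exact inferInstanceAs (LocallyOfFinitePresentation (f₁ ≫ U.ι))
  choose D hD hDf using key
  rw [IsZariskiLocalAtSource.iff_of_iSup_eq_top (P := @LocallyOfFinitePresentation) D
    (eq_top_iff.2 fun v _ => TopologicalSpace.Opens.mem_iSup.2 ⟨v, hD v⟩)]
  exact hDf

end retract

variable {S : Scheme.{u}} {𝒳 : BasedCategory.{v₂, u₂} (Over S)} {U₁ U₂ U₃ : Over S}
  {x : FibCat.overCat U₁ ⥤ᵇ 𝒳} {y : FibCat.overCat U₂ ⥤ᵇ 𝒳} {z : FibCat.overCat U₃ ⥤ᵇ 𝒳}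

/-- the inverse of a liftable isomorphism is liftable -/
theorem Liftable.inv (hX : FibCat.IsFibGrpd 𝒳.p) {C : Over S} {a : C ⟶ U₁} {b : C ⟶ U₂} {θ : Hom2 x y a b}
    (h : Liftable θ) : Liftable (θ.inv hX) := by
  intro T b' a' η
  obtain ⟨W, l, q, hq, hlq, hu⟩ := h (η.inv hX)
  have inv_inv : ∀ {V₁ V₂ : Over S} {p : FibCat.overCat V₁ ⥤ᵇ 𝒳} {q : FibCat.overCat V₂ ⥤ᵇ 𝒳} {T : Over S}
      {s : T ⟶ V₁} {t : T ⟶ V₂} (ζ : Hom2 p q s t), (ζ.inv hX).inv hX = ζ := fun ζ => by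
    have := congrArg (fun k => Hom2.comp k ζ) (Hom2.inv_comp hX (ζ.inv hX))
    rwa [Hom2.comp_assoc, Hom2.inv_comp, Hom2.comp_refl, Hom2.refl_comp] at this
  have key : ∀ {T' : Over S} (c : T' ⟶ C) (g : T' ⟶ T),
      SameRes y x c g (θ.inv hX) η ↔ SameRes x y c g θ (η.inv hX) := by
    intro T' c g
    constructor
    · rintro ⟨p, q, χ, h₁, h₂⟩
      have := Hom2.res_inv hX h₁
      rw [inv_inv] at this
      exact ⟨_, _, _, this, Hom2.res_inv hX h₂⟩
    · rintro ⟨p, q, χ, h₁, h₂⟩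
      have := Hom2.res_inv hX h₂
      rw [inv_inv] at this
      exact ⟨_, _, _, Hom2.res_inv hX h₁, this⟩
  exact ⟨W, l, q, hq, (key l q).2 hlq, fun c g hc => hu c g ((key c g).1 hc)⟩

/-- the first point of a liftable isomorphism is as good as the second chart -/
theorem prop_of_liftable {P : MorphismProperty Scheme.{u}} (hP : EtST P) [IsZariskiLocalAtSource P] [P.RespectsIso]
    (hX : FibCat.IsFibGrpd 𝒳.p) (hy : RepByAlgSpWith (LocP P) y) {C : Over S} {a : C ⟶ U₁} {b : C ⟶ U₂}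
    {θ : Hom2 x y a b} (h : Liftable θ) : P a.left := by
  haveI := respectsIso_locP (S := S) P
  obtain ⟨D, hD⟩ := exists_pairSp hX x (AlgStLib.repByAlgSp1_of_with hy)
  refine prop_of_etale_cover hP _ fun c => ?_
  obtain ⟨Φ, -, W, l, q, -, hlq, w, hw⟩ := D.exists_affine_chart hX θ c
  obtain ⟨W', l', q', hl', hq', hs, hu⟩ := Liftable.exists_lifts₂ hX (Chart.liftable hX Φ) h
  obtain ⟨w', ⟨-, hw'⟩, -⟩ := hu l q hlq
  refine ⟨W'.left, q'.left, hq', ⟨w'.left w, ?_⟩, ?_⟩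
  · rw [← hw]
    exact congrArg (fun k : W ⟶ C => k.left w) hw'
  · rw [← Over.comp_left, ← hs.endpoints.1]
    exact hP.precomp _ _ hl' (Chart.prop_a _ (hD _ inferInstance hy) Φ)

variable {C R Q : Over S} {a : C ⟶ U₁} {b : C ⟶ U₂} {θ₁ : Hom2 x y a b} {a' : R ⟶ U₁} {b' : R ⟶ U₃}
  {θ₂ : Hom2 x z a' b'} {qM : Q ⟶ U₂} {qV : Q ⟶ U₃} {θ₃ : Hom2 y z qM qV}

/-- triangles are lifts to the second side of the composite of the other two -/
theorem sameRes_iff_tri₂ (hX : FibCat.IsFibGrpd 𝒳.p) {P : Over S} {pC : P ⟶ C} {pQ : P ⟶ Q} {t₀ : P ⟶ U₁}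
    {m₀ : P ⟶ U₂} {v₀ : P ⟶ U₃} {α₀ : Hom2 x y t₀ m₀} {β₀ : Hom2 y z m₀ v₀} (hα : Hom2.Res pC θ₁ α₀)
    (hβ : Hom2.Res pQ θ₃ β₀) {V : Over S} (cR : V ⟶ R) (w : V ⟶ P) :
    SameRes x z cR w θ₂ (α₀.comp β₀) ↔ Tri (w ≫ pC) cR (w ≫ pQ) θ₁ θ₂ θ₃ := by
  constructor
  · rintro ⟨t, v, γ, h₁, h₂⟩
    obtain ⟨α, hα', -⟩ := Hom2.exists_res hX α₀ w t (w ≫ m₀) h₂.1 rfl
    obtain ⟨β, hβ', -⟩ := Hom2.exists_res hX β₀ w (w ≫ m₀) v rfl h₂.2.1
    exact ⟨_, _, _, α, β, γ, hα.trans hα', hβ.trans hβ', h₁, (Hom2.res_comp hα' hβ').unique hX h₂⟩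
  · rintro ⟨t, m, v, α, β, γ, h₁, h₃, h₂, rfl⟩
    exact ⟨t, v, _, h₂, Hom2.res_comp (hα.of_comp hX h₁) (hβ.of_comp hX h₃)⟩

/-- a chart which is locally isomorphic to a flat chart is flat and locally finitely presented -/
theorem repWith_of_local_iso (hX : FibCat.IsFibGrpd 𝒳.p) (hy : RepByAlgSp1 y)
    (hz : RepByAlgSpWith (LocP (@Flat ⊓ @LocallyOfFinitePresentation)) z) (η : Hom2 y z qM qV)
    [Flat qM.left] [LocallyOfFinitePresentation qM.left] [Surjective qM.left] [Flat qV.left]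
    [LocallyOfFinitePresentation qV.left] :
    RepByAlgSpWith (LocP (@Flat ⊓ @LocallyOfFinitePresentation)) y := by
  haveI := respectsIso_locP (S := S) (@Flat ⊓ @LocallyOfFinitePresentation)
  refine repWith_locP_of_charts etST_flat_lfp hX hy fun T x' D Φ => ?_
  obtain ⟨D₁, hD₁⟩ := exists_pairSp hX x' (AlgStLib.repByAlgSp1_of_with hz)
  have hD₁' := hD₁ _ inferInstance hz
  let CV := pullback Φ.b qM
  let π₁ : CV ⟶ Φ.C := pullback.fst Φ.b qM
  let π₂ : CV ⟶ Q := pullback.snd Φ.b qM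
  have sqC : IsPullback π₁.left π₂.left Φ.b.left qM.left :=
    (IsPullback.of_hasPullback Φ.b qM).map (Over.forget S)
  haveI : Surjective π₁.left := MorphismProperty.of_isPullback (P := @Surjective) sqC.flip ‹_›
  haveI : Flat π₁.left := MorphismProperty.of_isPullback (P := @Flat) sqC.flip ‹_›
  haveI : LocallyOfFinitePresentation π₁.left :=
    MorphismProperty.of_isPullback (P := @LocallyOfFinitePresentation) sqC.flip ‹_›
  obtain ⟨α₀, hα₀, -⟩ := Hom2.exists_res hX Φ.θ π₁ (π₁ ≫ Φ.a) (π₁ ≫ Φ.b) rfl rfl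
  obtain ⟨β₀, hβ₀, -⟩ := Hom2.exists_res hX η π₂ (π₁ ≫ Φ.b) (π₂ ≫ qV)
    (show π₂ ≫ qM = π₁ ≫ Φ.b from pullback.condition.symm) rfl
  have main : (@Flat ⊓ @LocallyOfFinitePresentation : MorphismProperty Scheme.{u}) (π₁.left ≫ Φ.a.left) := by
    refine prop_of_etale_cover etST_flat_lfp _ fun c => ?_
    obtain ⟨Ψ, -, W₀, l₀, q₀, -, hlq, w₀, hw₀⟩ := D₁.exists_affine_chart hX (α₀.comp β₀) c
    obtain ⟨W₁, r₁, m₁, hm₁, hs₁, hu₁⟩ := Chart.liftable hX Ψ (α₀.comp β₀)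
    have tri₁ := (sameRes_iff_tri₂ (θ₂ := Ψ.θ) hX hα₀ hβ₀ r₁ m₁).1 hs₁
    let PQ := pullback qV Ψ.b
    let pQ : PQ ⟶ Q := pullback.fst qV Ψ.b
    let pR : PQ ⟶ Ψ.C := pullback.snd qV Ψ.b
    obtain ⟨β₁, hβ₁, -⟩ := Hom2.exists_res hX η pQ (pQ ≫ qM) (pR ≫ Ψ.b) rfl pullback.condition
    obtain ⟨γ₁, hγ₁, -⟩ := Hom2.exists_res hX Ψ.θ pR (pR ≫ Ψ.a) (pR ≫ Ψ.b) rfl rfl
    obtain ⟨W₂, r₂, m₂, hm₂, hs₂, hu₂⟩ := Chart.liftable hX Φ (γ₁.comp (β₁.inv hX))
    have tri₂ := (sameRes_iff_tri₁ hX hγ₁ hβ₁ r₂ m₂).1 hs₂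
    have hb₁ : (m₁ ≫ π₂) ≫ qV = r₁ ≫ Ψ.b := by
      rw [hs₁.endpoints.2, Category.assoc]
    have hb₂ : r₂ ≫ Φ.b = (m₂ ≫ pQ) ≫ qM := by
      rw [hs₂.endpoints.2, Category.assoc]
    let k₁ : W₁ ⟶ PQ := pullback.lift (m₁ ≫ π₂) r₁ hb₁
    let k₂ : W₂ ⟶ CV := pullback.lift r₂ (m₂ ≫ pQ) hb₂
    obtain ⟨d, ⟨hd₁, hd₂⟩, -⟩ := hu₂ (m₁ ≫ π₁) k₁ ((sameRes_iff_tri₁ hX hγ₁ hβ₁ _ _).2 (by
      rw [show k₁ ≫ pR = r₁ from pullback.lift_snd _ _ _, show k₁ ≫ pQ = m₁ ≫ π₂ from pullback.lift_fst _ _ _]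
      exact tri₁))
    obtain ⟨e, ⟨he₁, he₂⟩, -⟩ := hu₁ (m₂ ≫ pR) k₂ ((sameRes_iff_tri₂ (θ₂ := Ψ.θ) hX hα₀ hβ₀ _ _).2 (by
      rw [show k₂ ≫ π₁ = r₂ from pullback.lift_fst _ _ _, show k₂ ≫ π₂ = m₂ ≫ pQ from pullback.lift_snd _ _ _]
      exact tri₂))
    have hde : d ≫ e = 𝟙 W₁ := by
      refine (hu₁ r₁ m₁ hs₁).unique ⟨?_, ?_⟩ ⟨Category.id_comp _, Category.id_comp _⟩
      · rw [Category.assoc, he₁, ← Category.assoc, hd₂]
        exact pullback.lift_snd _ _ _
      · rw [Category.assoc, he₂]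
        refine pullback.hom_ext ?_ ?_
        · rw [Category.assoc]
          exact (congrArg (d ≫ ·) (pullback.lift_fst _ _ _)).trans hd₁
        · rw [Category.assoc]
          refine (congrArg (d ≫ ·) (pullback.lift_snd _ _ _)).trans ?_
          rw [← Category.assoc, hd₂]
          exact pullback.lift_fst _ _ _
    have hed : e ≫ d = 𝟙 W₂ := by
      refine (hu₂ r₂ m₂ hs₂).unique ⟨?_, ?_⟩ ⟨Category.id_comp _, Category.id_comp _⟩
      · rw [Category.assoc, hd₁, ← Category.assoc, he₂]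
        exact pullback.lift_fst _ _ _
      · rw [Category.assoc, hd₂]
        refine pullback.hom_ext ?_ ?_
        · rw [Category.assoc]
          refine (congrArg (e ≫ ·) (pullback.lift_fst _ _ _)).trans ?_
          rw [← Category.assoc, he₂]
          exact pullback.lift_snd _ _ _
        · rw [Category.assoc]
          exact (congrArg (e ≫ ·) (pullback.lift_snd _ _ _)).trans he₁
    haveI : IsIso d := (Iso.mk d e hde hed).isIso_hom
    haveI : IsIso d.left := inferInstanceAs (IsIso ((Over.forget S).map d))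
    have sqQ : IsPullback pQ.left pR.left qV.left Ψ.b.left :=
      (IsPullback.of_hasPullback qV Ψ.b).map (Over.forget S)
    obtain ⟨hfl, hfp⟩ := Chart.prop_a _ hD₁' Ψ
    haveI : Flat Ψ.a.left := hfl
    haveI : LocallyOfFinitePresentation Ψ.a.left := hfp
    haveI : Flat pR.left := MorphismProperty.of_isPullback (P := @Flat) sqQ ‹_›
    haveI : LocallyOfFinitePresentation pR.left :=
      MorphismProperty.of_isPullback (P := @LocallyOfFinitePresentation) sqQ ‹_›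
    haveI := hm₂
    obtain ⟨w', ⟨-, hw'⟩, -⟩ := hu₁ l₀ q₀ hlq
    refine ⟨W₁.left, m₁.left, hm₁, ⟨w'.left w₀, ?_⟩, ?_⟩
    · rw [← hw₀]
      exact congrArg (fun k : W₀ ⟶ CV => k.left w₀) hw'
    · have e₁ : m₁ ≫ π₁ ≫ Φ.a = d ≫ m₂ ≫ pR ≫ Ψ.a := by
        rw [← Category.assoc m₁, ← hd₁, Category.assoc, hs₂.endpoints.1]
      rw [← Over.comp_left, ← Over.comp_left, e₁]
      exact ⟨inferInstanceAs (Flat (d.left ≫ m₂.left ≫ pR.left ≫ Ψ.a.left)),
        inferInstanceAs (LocallyOfFinitePresentation (d.left ≫ m₂.left ≫ pR.left ≫ Ψ.a.left))⟩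
  haveI := main.1
  haveI := main.2
  exact ⟨GrpdLib.flat_of_flat_comp π₁.left Φ.a.left, FppfSource.lfp π₁.left Φ.a.left⟩

/-- a scheme with a section into the isomorphisms between a good chart and a good point has the property -/
theorem prop_hom_of_section {P : MorphismProperty Scheme.{u}} (hP : EtST P) [IsZariskiLocalAtSource P] [P.RespectsIso]
    (hret : ∀ ⦃X Y Z : Scheme.{u}⦄ (s : Y ⟶ X) (p : X ⟶ Y), s ≫ p = 𝟙 Y → ∀ f : Y ⟶ Z, P (p ≫ f) → P f)
    (hX : FibCat.IsFibGrpd 𝒳.p) (hy : RepByAlgSpWith (LocP P) y) (h₁ : P U₁.hom) {V : Over S} {a₀ : V ⟶ U₁}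
    {b₀ : V ⟶ U₂} (η : Hom2 x y a₀ b₀) (hb : P b₀.left) : P V.hom := by
  haveI := respectsIso_locP (S := S) P
  haveI := hP.comp
  haveI := hP.baseChange
  obtain ⟨D, hD⟩ := exists_pairSp hX x (AlgStLib.repByAlgSp1_of_with hy)
  refine prop_of_etale_cover hP _ fun v => ?_
  obtain ⟨Φ, -, W, l, q, hq, hlq, w, hw⟩ := D.exists_affine_chart hX η v
  haveI := hq
  have hl : l ≫ Φ.b = q ≫ b₀ := hlq.endpoints.2
  refine ⟨W.left, q.left, hq, ⟨w, hw⟩, ?_⟩
  have sq := IsPullback.of_hasPullback Φ.b (q ≫ b₀)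
  have sq' := sq.map (Over.forget S)
  have hqb : P (q ≫ b₀).left := hP.precomp _ _ hq hb
  refine hret (sq.lift l (𝟙 W) (by rw [Category.id_comp]; exact hl)).left (pullback.snd Φ.b (q ≫ b₀)).left
    (congrArg Over.Hom.left (sq.lift_snd _ _ _)) _ ?_
  rw [Over.w q]
  have e : (pullback.snd Φ.b (q ≫ b₀)).left ≫ W.hom = (pullback.fst Φ.b (q ≫ b₀)).left ≫ Φ.a.left ≫ U₁.hom := by
    rw [Over.w, Over.w Φ.a, Over.w]
  rw [e]
  exact P.comp_mem _ _ (MorphismProperty.of_isPullback (P := P) sq'.flip hqb)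
    (P.comp_mem _ _ (Chart.prop_a _ (hD _ inferInstance hy) Φ) h₁)

/-- the source of a smooth chart of a stack with a good point is smooth over the base -/
theorem smooth_hom_of_chart (hX : FibCat.IsFibGrpd 𝒳.p) (hx : RepByAlgSpWith (LocP @Smooth) x)
    (hy : RepByAlgSpWith (LocP (@Flat ⊓ @LocallyOfFinitePresentation)) y) (hys : RepByAlgSpWith IsSurjectiveMor y)
    [Smooth U₂.hom] : Smooth U₁.hom := by
  haveI := respectsIso_locP (S := S) (@Flat ⊓ @LocallyOfFinitePresentation)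
  haveI := respectsIso_surjective (S := S)
  obtain ⟨D, hD⟩ := exists_pairSp hX x (AlgStLib.repByAlgSp1_of_with hy)
  have hs : IsSurjectiveMor D.pr₁ := hD _ inferInstance hys
  obtain ⟨C₀, p, hp, hps⟩ := D.isAlgSpace.atlas
  obtain ⟨a, b, θ, hθ⟩ := D.exists_cl (sec p)
  let Φ : Chart D := ⟨C₀, p, hp, a, b, θ, hθ⟩
  haveI : Smooth b.left := prop_of_liftable etST_smooth hX hx (Liftable.inv hX (Chart.liftable hX Φ))
  obtain ⟨hfl, hfp⟩ := Chart.prop_a _ (hD _ inferInstance hy) Φ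
  haveI : Flat a.left := hfl
  haveI : LocallyOfFinitePresentation a.left := hfp
  have e : p ≫ D.pr₁ = (yon S).map a := sec_injective (by
    rw [sec_map]
    exact (ULift.ext _ _ ((D.pr₁_eq hθ).trans (Category.id_comp a).symm) :
      _ = (sec ((yon S).map a) : ULift.{u + 1} (C₀ ⟶ U₁))))
  haveI : Surjective a.left := ⟨fun t => by
    obtain ⟨q, hq⟩ := hs (Points.ofScheme U₁ t)
    obtain ⟨k, rfl⟩ := AlgSpLib.ofPt_surjective hps q
    rw [Points.map_ofPt, e, AlgSpLib.ofScheme_map] at hq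
    exact ⟨k, (Points.schemeEquiv U₁).injective hq⟩⟩
  haveI : Smooth (a.left ≫ U₁.hom) := by
    rw [Over.w a, ← Over.w b]
    infer_instance
  exact FppfSource.smooth a.left U₁.hom

end Groth.Agent.ArtinAtlas

end
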