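import Groth.Agent.ArtinAtlas.BandedCover
import Groth.Agent.ArtinAtlas.Presentation
import Groth.Agent.ArtinAtlas.Neutral
import Groth.Agent.AlgStLib.LocQ
import Groth.Agent.AlgStLib.LocQClasses
import Groth.Agent.AlgStLib.Stacks
import Groth.Agent.AlgStLib.QC2
import Groth.Agent.AlgStLib.GerbeProps
import Groth.Agent.AlgSpLib.Singleton
import Groth.Prelude.Def_StGerb

/-!
# Gerbes banded by a group scheme
-/

set_option autoImplicit false
set_option backward.isDefEq.respectTransparency false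
set_option backward.isDefEq.respectTransparency.types false
set_option linter.style.haveILetI false
universe u

noncomputable section

namespace Groth.Agent.ArtinAtlas

open CategoryTheory CategoryTheory.Limits AlgebraicGeometry Opposite Groth.Agent.FibCatRep
  Groth.Agent.FibCat2Misc Groth.Agent.AlgSpLib Groth.Agent.StkBasic Groth.Agent.AlgStLib
open _root_.AlgSp _root_.AlgSt

variable {X : Scheme.{u}} {A : Over X} [GrpObj A] {𝒳 : AlgSt.Cat X}

section band

variable (β : Gerb.Banding 𝒳 (yonedaGrpObj A))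

/-- the point of the group under a pair -/
def bandElt (o : (FibCat.fp (FibCat.toSelf 𝒳) (FibCat.toSelf (Stk.ofPsh ((pyon X).obj A)))).obj) :
    (yonedaGrpObj A).obj (op (𝒳.p.obj o.obj.fst)) :=
  (eqToHom (fp_obj_eq o).symm ≫ o.obj.snd.sec.down : 𝒳.p.obj o.obj.fst ⟶ A)

/-- a banding maps the product with the group to the inertia -/
def bandFun : FibCat.fp (FibCat.toSelf 𝒳) (FibCat.toSelf (Stk.ofPsh ((pyon X).obj A))) ⥤ᵇ
    FibCat.inertia (FibCat.toSelf 𝒳) where
  toFunctor :=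
    { obj := fun o => ⟨o.obj.fst, Functor.Fiber.fiberInclusion.mapIso (β.iso o.obj.fst (bandElt o)),
        (map_of_fiber (β.iso o.obj.fst (bandElt o)).hom).trans (eqToHom_refl _ _)⟩
      map := fun {o o'} m => ⟨m.hom.fst, by
        have e : (yonedaGrpObj A).map (𝒳.p.map m.hom.fst).op (bandElt o') = bandElt o := by
          show (𝒳.p.map m.hom.fst ≫ eqToHom _ ≫ o'.obj.snd.sec.down : 𝒳.p.obj o.obj.fst ⟶ A) =
            eqToHom _ ≫ o.obj.snd.sec.down
          have h₁ : (m.hom.snd : o.obj.snd ⟶ o'.obj.snd).hom =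
              eqToHom (fp_obj_eq o) ≫ 𝒳.p.map m.hom.fst ≫ eqToHom (fp_obj_eq o').symm := map_snd m
          have h₂ : (m.hom.snd : o.obj.snd ⟶ o'.obj.snd).hom ≫ o'.obj.snd.sec.down = o.obj.snd.sec.down :=
            congrArg ULift.down m.hom.snd.map_sec
          rw [← h₂, h₁]
          simp
        have h := β.natural m.hom.fst (bandElt o')
        rw [e] at h
        exact h⟩
      map_id := fun o => FibCat.InertiaObj.hom_ext rfl
      map_comp := fun m m' => FibCat.InertiaObj.hom_ext rfl }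
  w := rfl

theorem isEquivOver_bandFun (h𝒳 : FibCat.IsFibGrpd 𝒳.p) : FibCat.IsEquivOver (bandFun β) := by
  haveI : (bandFun β).toFunctor.Faithful := ⟨fun {o o'} m m' h => by
    have h₁ : m.hom.fst = m'.hom.fst := congrArg (fun t => t.hom) h
    refine ObjectProperty.hom_ext _ (CategoricalPullback.hom_ext h₁ (Stk.EltObj.hom_ext ?_))
    exact (map_snd m).trans ((by rw [h₁] : _ = _).trans (map_snd m').symm)⟩
  haveI : (bandFun β).toFunctor.Full := ⟨fun {o o'} n => by
    let φ : o.obj.fst ⟶ o'.obj.fst := n.hom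
    have hc : (β.iso o.obj.fst (bandElt o)).hom.1 ≫ φ = φ ≫ (β.iso o'.obj.fst (bandElt o')).hom.1 := n.comm
    have he : (yonedaGrpObj A).map (𝒳.p.map φ).op (bandElt o') = bandElt o :=
      (β.iso o.obj.fst).injective (Aut.ext (Functor.Fiber.hom_ext (cancel h𝒳 φ
        (((map_of_fiber _).trans (eqToHom_refl _ _)).trans ((map_of_fiber _).trans (eqToHom_refl _ _)).symm)
        ((β.natural φ (bandElt o')).trans hc.symm))))
    let s : o.obj.snd ⟶ o'.obj.snd :=
      ⟨eqToHom (fp_obj_eq o) ≫ 𝒳.p.map φ ≫ eqToHom (fp_obj_eq o').symm, congrArg ULift.up (by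
        have h : 𝒳.p.map φ ≫ eqToHom (fp_obj_eq o').symm ≫ o'.obj.snd.sec.down =
            eqToHom (fp_obj_eq o).symm ≫ o.obj.snd.sec.down := he
        show (eqToHom (fp_obj_eq o) ≫ 𝒳.p.map φ ≫ eqToHom (fp_obj_eq o').symm) ≫ o'.obj.snd.sec.down =
          o.obj.snd.sec.down
        rw [Category.assoc, Category.assoc]
        exact (congrArg (eqToHom (fp_obj_eq o) ≫ ·) h).trans (by simp))⟩
    refine ⟨ObjectProperty.homMk ⟨φ, s, ?_⟩, FibCat.InertiaObj.hom_ext rfl⟩
    obtain ⟨q, hq⟩ := map_iso_hom o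
    obtain ⟨q', hq'⟩ := map_iso_hom o'
    change o.obj.iso.hom = eqToHom q at hq
    change o'.obj.iso.hom = eqToHom q' at hq'
    show 𝒳.p.map φ ≫ o'.obj.iso.hom = o.obj.iso.hom ≫ s.hom
    rw [hq, hq']
    simp [s]⟩
  refine isEquivOver_of_fullyFaithful _ fun ι => ?_
  let α : Gerb.AutO ι.pt :=
    { hom := fibHom _ _ ι.aut.hom (ι.map_aut.trans (eqToHom_refl _ _).symm)
      inv := fibHom _ _ ι.aut.inv (by
        have h : 𝒳.p.map ι.aut.hom = 𝟙 _ := ι.map_aut
        rw [eqToHom_refl, ← cancel_epi (𝒳.p.map ι.aut.hom), ← Functor.map_comp, Iso.hom_inv_id,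
          CategoryTheory.Functor.map_id, h, Category.id_comp])
      hom_inv_id := Functor.Fiber.hom_ext ι.aut.hom_inv_id
      inv_hom_id := Functor.Fiber.hom_ext ι.aut.inv_hom_id }
  obtain ⟨γ, hγ⟩ := (β.iso ι.pt).surjective α
  let o : (FibCat.fp (FibCat.toSelf 𝒳) (FibCat.toSelf (Stk.ofPsh ((pyon X).obj A)))).obj :=
    ⟨⟨ι.pt, ⟨𝒳.p.obj ι.pt, ⟨(show 𝒳.p.obj ι.pt ⟶ A from γ)⟩⟩, Iso.refl (𝒳.p.obj ι.pt)⟩,
      fpProp_of_map _ _ _ rfl (((FibCat.selfOver (Over X)).p.map_id _).trans (eqToHom_refl _ _).symm)⟩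
  have ho : bandElt o = γ := by
    show eqToHom _ ≫ (show 𝒳.p.obj ι.pt ⟶ A from γ) = _
    rw [eqToHom_refl, Category.id_comp]
  have hh : ((bandFun β).obj o).aut.hom = ι.aut.hom := by
    show (β.iso ι.pt (bandElt o)).hom.1 = _
    rw [ho, hγ]
    rfl
  refine ⟨o, ⟨⟨𝟙 _, ?_⟩, ⟨𝟙 _, ?_⟩, FibCat.InertiaObj.hom_ext (Category.id_comp _),
    FibCat.InertiaObj.hom_ext (Category.id_comp _)⟩, rfl, 𝒳.p.map_id _⟩
  · exact ((Category.comp_id _).trans hh).trans (Category.id_comp _).symm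
  · exact ((Category.comp_id _).trans hh.symm).trans (Category.id_comp _).symm

include β in
/-- properties of the group pass to the inertia -/
theorem repWith_inertia_of_banding (h𝒳 : FibCat.IsFibGrpd 𝒳.p) {Q : MorphismProperty (Sp X)}
    (hA : RepByAlgSpWith Q (FibCat.toSelf (Stk.ofPsh ((pyon X).obj A)))) :
    RepByAlgSpWith Q (FibCat.inertiaToBase (FibCat.toSelf 𝒳)) :=
  (repWith_iff_of_equiv Q (FibCat.inertiaToBase (FibCat.toSelf 𝒳))
    (FibCat.fpFst (FibCat.toSelf 𝒳) (FibCat.toSelf (Stk.ofPsh ((pyon X).obj A)))) (bandFun β) (BasedFunctor.id _)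
    (isEquivOver_bandFun β h𝒳) isEquivOver_id (Iso.refl _)).2 (repWith_fpFst Q _ (FibCat.toSelf 𝒳) hA)

end band

/-- properties of schemes over the base as properties of their structure functors -/
theorem repWith_toSelf_of_map {Q : MorphismProperty (Sp X)} (hb : BCStable Q) (U : Over X)
    (h : Q ((yon X).map (Over.homMk U.hom (Category.comp_id _) : U ⟶ base X))) :
    RepByAlgSpWith Q (FibCat.toSelf (Stk.ofPsh ((pyon X).obj U))) :=
  (repWith_iff_of_equiv Q (FibCat.toSelf (Stk.ofPsh ((pyon X).obj U)))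
    (Stk.ofPshMap ((yon X).map (Over.homMk U.hom (Category.comp_id _) : U ⟶ base X)).hom)
    (BasedFunctor.id _) (FibCat.toSelf (Stk.ofPsh ((pyon X).obj (base X)))) isEquivOver_id
    isEquivOver_toSelf_base (eqToIso (AlgStLib.comp_toSelf _))).2
    (repWith_ofSpMap hb (V := spOf U) (W := spOf (base X)) (ObjectProperty.homMk ((yon X).map _)) h)

/-- in a gerbe over the base pairs of objects lift to the diagonal -/
theorem lifts_diag (hS : Stk.IsStack (Jf X) 𝒳)
    (hH : Gerb.LocSurjHom (QuotSh.J Scheme.fppfPrecoverage X) (FibCat.toSelf 𝒳)) :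
    LiftsP (FibCat.diag (FibCat.toSelf 𝒳)) := by
  intro U y
  let t := FibCat.toSelf 𝒳
  let y₁ := BasedFunctor.comp y (FibCat.fpFst t t)
  let y₂ := BasedFunctor.comp y (FibCat.fpSnd t t)
  obtain ⟨M, q, h₁, h₂, h₃, ⟨θ⟩⟩ := exists_iso_cover hS hH (BasedFunctor.comp (AlgSt.ofOverCat U) y₁)
    (BasedFunctor.comp (AlgSt.ofOverCat U) y₂) (𝟙 U) (𝟙 U)
  let g := Stk.ofPshMap ((pyon X).map q)
  obtain ⟨i⟩ : Nonempty (BasedFunctor.comp g y₁ ≅ BasedFunctor.comp g y₂) := by
    have ho : g.obj (pt M) = (AlgSt.ofOverCat U).obj (Over.mk (q ≫ 𝟙 U)) :=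
      congrArg (fun k : M ⟶ U => (⟨M, ⟨k⟩⟩ : (Stk.ofPsh ((pyon X).obj U)).obj))
        ((Category.id_comp q).trans (Category.comp_id q).symm)
    obtain ⟨i₀⟩ := nonempty_iso_of_top hS.1 (BasedFunctor.comp (AlgSt.ofOverCat M) (BasedFunctor.comp g y₁))
      (BasedFunctor.comp (AlgSt.ofOverCat M) (BasedFunctor.comp g y₂))
      (eqToHom (congrArg y₁.obj ho) ≫ θ.hom ≫ eqToHom (congrArg y₂.obj ho).symm) (by
      simp only [Functor.map_comp, θ.map, eqToHom_map, eqToHom_trans])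
    exact ⟨(Stk.restr (AlgSt.toOverCat M) 𝒳).mapIso i₀⟩
  refine ⟨M, q, h₁, h₃, h₂, BasedFunctor.comp g y₁, ⟨?_⟩⟩
  exact GerbeMor.fpExtSelf (Iso.refl _) i

section gerbe

variable (hS : Stk.IsStack (Jf X) 𝒳)
  (hH : Gerb.LocSurjHom (QuotSh.J Scheme.fppfPrecoverage X) (FibCat.toSelf 𝒳))
  (β : Gerb.Banding 𝒳 (yonedaGrpObj A))
include hS hH β

theorem repByAlgSp1_diag_of_banding : RepByAlgSp1 (FibCat.diag (FibCat.toSelf 𝒳)) := by
  have hI := repWith_inertia_of_banding β hS.1 (Q := ⊤)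
    (repWith_toSelf_of_map (fun _ _ _ _ _ _ _ _ _ _ _ _ _ _ => trivial) A trivial)
  refine repByAlgSp1_of_lifts_faithful hS (isStack_fp hS hS (isPrestack_of_isStack isAlgStack_selfOver) _ _)
    (small_diag hS) (lifts_diag hS hH) (repByAlgSp1_of_with (Q := ⊤) ?_)
  exact (repWith_iff_of_equiv ⊤ (FibCat.fpFst (FibCat.diag (FibCat.toSelf 𝒳)) (FibCat.diag (FibCat.toSelf 𝒳)))
    (FibCat.inertiaToBase (FibCat.toSelf 𝒳)) (inertiaFun _) (BasedFunctor.id _) (isEquivOver_inertiaFun _)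
    isEquivOver_id (Iso.refl _)).2 hI

/-- the diagonal of a banded gerbe has the properties of the band -/
theorem repWith_diag_of_banding {Q : MorphismProperty (Sp X)} (hQ : Cls Q)
    (h : Q ((yon X).map (Over.homMk A.hom (Category.comp_id _) : A ⟶ base X))) :
    RepByAlgSpWith Q (FibCat.diag (FibCat.toSelf 𝒳)) :=
  repWith_of_liftsP hQ.bc hQ.loc (repByAlgSp1_diag_of_banding hS hH β) (lifts_diag hS hH)
    ((repWith_iff_of_equiv Q (FibCat.fpFst (FibCat.diag (FibCat.toSelf 𝒳)) (FibCat.diag (FibCat.toSelf 𝒳)))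
      (FibCat.inertiaToBase (FibCat.toSelf 𝒳)) (inertiaFun _) (BasedFunctor.id _) (isEquivOver_inertiaFun _)
      isEquivOver_id (Iso.refl _)).2 (repWith_inertia_of_banding β hS.1 (repWith_toSelf_of_map hQ.bc A h)))

/-- charts of a banded gerbe -/
theorem repWith_chart_of_banding {Q : MorphismProperty (Sp X)} (hQ : Cls Q)
    (hA : Q ((yon X).map (Over.homMk A.hom (Category.comp_id _) : A ⟶ base X))) {V : Over X}
    (hV : Q ((yon X).map (Over.homMk V.hom (Category.comp_id _) : V ⟶ base X)))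
    (z : Stk.ofPsh ((pyon X).obj V) ⥤ᵇ 𝒳) : RepByAlgSpWith Q z := by
  let t := FibCat.toSelf 𝒳
  let tV := FibCat.toSelf (Stk.ofPsh ((pyon X).obj V))
  let e : BasedFunctor.comp (BasedFunctor.id _) tV ≅ BasedFunctor.comp z t := eqToIso (comp_toSelf' z).symm
  have h₁ := repWith_graph (p := tV) (q := t) z e (repWith_diag_of_banding hS hH β hQ hA)
  have h₂ := repWith_fpSnd Q tV t (repWith_toSelf_of_map hQ.bc V hV)
  have h₃ := repWith_comp (Stk.isFibGrpd_ofPsh _) (isFibGrpd_fp (Stk.isFibGrpd_ofPsh _) hS.1 isFibGrpd_selfOver tV t)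
    hQ.bc hQ.comp hQ.loc h₁ h₂
  exact repWith_congr Q (Iso.refl _) h₃

end gerbe

/-- quasi-compact separated morphisms -/
theorem cls_qc_separated : Cls (AlgSp.IsQuasiCompactMor ⊓ AlgSp.IsSeparatedMor : MorphismProperty (Sp X)) :=
  ⟨fun _ _ _ _ _ _ _ _ _ _ _ _ sq h => ⟨fun _ _ hW hWq _ _ _ sq' => h.1 hW hWq _ _ _ (sq'.paste_horiz sq),
      isSeparatedMor_baseChange sq h.2⟩,
    fun _ _ _ _ hY hZ _ _ ha hb => ⟨isQuasiCompactMor_comp hY hZ ha.1 hb.1, isSeparatedMor_comp ha.2 hb.2⟩,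
    isLocalOnBase_fppf (isLocalOnBase_and isLocalOnBase_isQuasiCompactMor isLocalOnBase_isSeparatedMor)⟩

/-- the source of a smooth chart of a stack with a good point is locally of finite presentation over the base -/
theorem lfp_hom_of_chart {S : Scheme.{u}} {𝒴 : AlgSt.Cat S} {U₁ U₂ : Over S} {x : FibCat.overCat U₁ ⥤ᵇ 𝒴}
    {y : FibCat.overCat U₂ ⥤ᵇ 𝒴} (hX : FibCat.IsFibGrpd 𝒴.p) (hx : RepByAlgSpWith (LocP @Smooth) x)
    (hy : RepByAlgSpWith (LocP (@Flat ⊓ @LocallyOfFinitePresentation)) y) (hys : RepByAlgSpWith IsSurjectiveMor y)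
    [LocallyOfFinitePresentation U₂.hom] : LocallyOfFinitePresentation U₁.hom := by
  haveI := respectsIso_locP (S := S) (@Flat ⊓ @LocallyOfFinitePresentation)
  haveI := respectsIso_surjective (S := S)
  have hx' : RepByAlgSpWith (LocP @LocallyOfFinitePresentation) x :=
    repWith_mono hx fun _ _ _ _ h => locP_mono (fun _ _ f hf => by haveI := hf; infer_instance) _ h
  obtain ⟨D, hD⟩ := exists_pairSp hX x (AlgStLib.repByAlgSp1_of_with hy)
  have hs : IsSurjectiveMor D.pr₁ := hD _ inferInstance hys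
  obtain ⟨C₀, p, hp, hps⟩ := D.isAlgSpace.atlas
  obtain ⟨a, b, θ, hθ⟩ := D.exists_cl (sec p)
  let Φ : Chart D := ⟨C₀, p, hp, a, b, θ, hθ⟩
  haveI : LocallyOfFinitePresentation b.left :=
    prop_of_liftable etST_lfp hX hx' (Liftable.inv hX (Chart.liftable hX Φ))
  obtain ⟨hfl, hfp⟩ := Chart.prop_a _ (hD _ inferInstance hy) Φ
  haveI : Flat a.left := hfl
  haveI : LocallyOfFinitePresentation a.left := hfp
  have e : p ≫ D.pr₁ = (yon S).map a := sec_injective (by
    rw [sec_map]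
    exact (ULift.ext _ _ ((D.pr₁_eq hθ).trans (Category.id_comp a).symm) :
      _ = (sec ((yon S).map a) : ULift.{u + 1} (C₀ ⟶ U₁))))
  haveI : Surjective a.left := ⟨fun t => by
    obtain ⟨q, hq⟩ := hs (Points.ofScheme U₁ t)
    obtain ⟨k, rfl⟩ := AlgSpLib.ofPt_surjective hps q
    rw [Points.map_ofPt, e, AlgSpLib.ofScheme_map] at hq
    exact ⟨k, (Points.schemeEquiv U₁).injective hq⟩⟩
  haveI : LocallyOfFinitePresentation (a.left ≫ U₁.hom) := by
    rw [Over.w a, ← Over.w b]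
    infer_instance
  exact FppfSource.lfp a.left U₁.hom

end Groth.Agent.ArtinAtlas

end
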