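import Groth.Agent.ArtinAtlas.Moduli

/-!
# Calculus of pullbacks of frames and data
-/

set_option autoImplicit false
set_option backward.isDefEq.respectTransparency false
set_option backward.isDefEq.respectTransparency.types false
set_option linter.style.haveILetI false
universe v₂ u₂ u

noncomputable section

namespace Groth.Agent.ArtinAtlas

open CategoryTheory CategoryTheory.Limits AlgebraicGeometry CommRingCat

variable {ι : Type} [Fintype ι] [DecidableEq ι] {S : Scheme.{u}} {R₀ : Type u} [CommRing R₀]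
  {j : Spec (CommRingCat.of R₀) ⟶ S} {T T' T'' : Type u} [CommRing T] [CommRing T'] [CommRing T'']
  {σ : R₀ →+* T} {σ' : R₀ →+* T'} {σ'' : R₀ →+* T''}

theorem spMap_comp {t : Tab ι T} {t' : Tab ι T'} {t'' : Tab ι T''} (f : T →+* T') (hσ : f.comp σ = σ')
    (h : t.map f = t') (g : T' →+* T'') (hσ' : g.comp σ' = σ'') (h' : t'.map g = t'') :
    spMap (j := j) g hσ' h' ≫ spMap f hσ h =
      spMap (g.comp f) (by rw [RingHom.comp_assoc, hσ, hσ']) (by rw [← h', ← h, Tab.map_map]) := by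
  rw [ovMap_comp]
  exact ovMap_congr _ (RingHom.ext fun x => Tab.hom_hom f h g h' x)

section dat

variable {A C₂ : Type u} [CommRing A] [Algebra R₀ A] [CommRing C₂] {a₂ b₂ : A →+* C₂}

theorem IsPull.of_comp {f : T →+* T'} {g : T' →+* T''} {d : Dat ι a₂ b₂ σ} {d' : Dat ι a₂ b₂ σ'}
    {d'' : Dat ι a₂ b₂ σ''} (h : IsPull f d d') (h' : IsPull (g.comp f) d d'') : IsPull g d' d'' where
  hσ := by rw [← h.hσ, ← RingHom.comp_assoc, h'.hσ]
  ht := by rw [← h.ht, Tab.map_map, h'.ht]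
  hw := RingHom.ext fun x => by
    rw [h'.hw, RingHom.comp_apply, RingHom.comp_apply, h.hw, RingHom.comp_apply, Tab.hom_hom]
  hg := RingHom.ext fun x => by
    rw [h'.hg, RingHom.comp_apply, RingHom.comp_apply, h.hg, RingHom.comp_apply, Tab.hom_hom]

end dat

section fr

variable {A P : Type u} [CommRing A] [Algebra R₀ A] [CommRing P] [Algebra A P] {t : Tab ι T} {t' : Tab ι T'}
  {t'' : Tab ι T''}

theorem IsPullFr.trans {f : T →+* T'} {g : T' →+* T''} {p : Fr A P σ t} {p' : Fr A P σ' t'} {p'' : Fr A P σ'' t''}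
    (h : IsPullFr f p p') (h' : IsPullFr g p' p'') : IsPullFr (g.comp f) p p'' where
  hσ := by rw [RingHom.comp_assoc, h.hσ, h'.hσ]
  ht := by rw [← h'.ht, ← h.ht, Tab.map_map]
  hstr := by rw [h'.hstr, h.hstr, RingHom.comp_assoc]
  hφ := RingHom.ext fun x => by
    rw [h'.hφ, RingHom.comp_apply, h.hφ, RingHom.comp_apply, Tab.hom_hom]; rfl

theorem IsPullFr.of_comp {f : T →+* T'} {g : T' →+* T''} {p : Fr A P σ t} {p' : Fr A P σ' t'} {p'' : Fr A P σ'' t''}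
    (h : IsPullFr f p p') (h' : IsPullFr (g.comp f) p p'') : IsPullFr g p' p'' where
  hσ := by rw [← h.hσ, ← RingHom.comp_assoc, h'.hσ]
  ht := by rw [← h.ht, Tab.map_map, h'.ht]
  hstr := by rw [h'.hstr, h.hstr, RingHom.comp_assoc]
  hφ := RingHom.ext fun x => by
    rw [h'.hφ, RingHom.comp_apply, RingHom.comp_apply, h.hφ, RingHom.comp_apply, Tab.hom_hom]

theorem Fr.exists_pull (p : Fr A P σ t) (f : T →+* T') (hσ : f.comp σ = σ') (ht : t.map f = t') :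
    ∃ p' : Fr A P σ' t', IsPullFr f p p' :=
  ⟨⟨f.comp p.str, by rw [RingHom.comp_assoc, p.str_comm, hσ], (Tab.hom f ht).comp p.φ, by
    rw [RingHom.comp_assoc, p.φA, ← RingHom.comp_assoc, ← RingHom.comp_assoc,
      show (Tab.hom f ht).comp (algebraMap T t.Alg) = (algebraMap T' t'.Alg).comp f from
        RingHom.ext (Tab.hom_algebraMap f ht)]⟩, hσ, ht, rfl, rfl⟩

variable {𝒳 : BasedCategory.{v₂, u₂} (Over S)} (hX : FibCat.IsFibGrpd 𝒳.p) {bP : A →+* P}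
  {hab : bP.comp (algebraMap R₀ A) = (algebraMap A P).comp (algebraMap R₀ A)}
  {x₁ : FibCat.overCat (ovR j (algebraMap R₀ A)) ⥤ᵇ 𝒳} (θP : Hom2 x₁ x₁ (pA j A P) (pB j hab))
  {M : Over S} {c : FibCat.overCat M ⥤ᵇ 𝒳}

include hX

theorem IsPullFr.spMap_wbar {f : T →+* T'} {p : Fr A P σ t} {p' : Fr A P σ' t'} (h : IsPullFr f p p') :
    spMap (j := j) f h.hσ h.ht ≫ p.wbar hab = p'.wbar hab := by
  rw [ovMap_comp]
  exact ovMap_congr _ (by rw [h.hφ, RingHom.comp_assoc])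

theorem IsPullFr.ovMap_sbar {f : T →+* T'} {p : Fr A P σ t} {p' : Fr A P σ' t'} (h : IsPullFr f p p') :
    ovMap (j := j) f h.hσ ≫ p.sbar = p'.sbar := by
  rw [ovMap_comp]
  exact ovMap_congr _ h.hstr.symm

omit hX in
theorem qT_ovMap {f : T →+* T'} (hσ : f.comp σ = σ') (ht : t.map f = t') :
    qT j σ' t' ≫ ovMap f hσ = spMap f hσ ht ≫ qT j σ t := by
  rw [ovMap_comp, ovMap_comp]
  exact ovMap_congr _ (RingHom.ext (Tab.hom_algebraMap f ht)).symm

/-- descended isomorphisms restrict to descended isomorphisms -/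
theorem Fr.desc_pull {f : T →+* T'} {p : Fr A P σ t} {p' : Fr A P σ' t'} (h : IsPullFr f p p')
    {mb : ovR j σ ⟶ M} {mb' : ovR j σ' ⟶ M}
    {φB : Hom2 c x₁ (qT j σ t ≫ mb) (p.wbar hab)} {φB' : Hom2 c x₁ (qT j σ' t' ≫ mb') (p'.wbar hab)}
    (hφ : Hom2.Res (spMap f h.hσ h.ht) φB φB') {ψ : Hom2 c x₁ mb p.sbar} {ψ' : Hom2 c x₁ mb' p'.sbar}
    (hψ : Hom2.Res (ovMap f h.hσ) ψ ψ')
    (hc : ∀ χ : Hom2 c x₁ (qT j σ t ≫ mb) (qT j σ t ≫ p.sbar),
      Hom2.Res (qT j σ t) ψ χ → χ.comp (p.θ hX θP) = φB)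
    (χ' : Hom2 c x₁ (qT j σ' t' ≫ mb') (qT j σ' t' ≫ p'.sbar)) (hχ' : Hom2.Res (qT j σ' t') ψ' χ') :
    χ'.comp (p'.θ hX θP) = φB' := by
  obtain ⟨χ, hχ, -⟩ := Hom2.exists_res hX ψ (qT j σ t) (qT j σ t ≫ mb) (qT j σ t ≫ p.sbar) rfl rfl
  obtain ⟨χ'', hχ'', -⟩ := Hom2.exists_res hX χ (spMap f h.hσ h.ht) (qT j σ' t' ≫ mb') (qT j σ' t' ≫ p'.sbar)
    hφ.1 (by rw [← Category.assoc, ← qT_ovMap (j := j) h.hσ h.ht, Category.assoc, h.ovMap_sbar hX])
  have e := hχ.trans hχ''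
  rw [← qT_ovMap (j := j) h.hσ h.ht] at e
  obtain rfl := e.unique hX (hψ.trans hχ')
  have r := Hom2.res_comp hχ'' (h.res_θ hX θP)
  rw [hc χ hχ] at r
  exact r.unique hX hφ

end fr

end Groth.Agent.ArtinAtlas

end
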