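import Groth.Agent.ArtinAtlas.PairSp
import Groth.Agent.AlgSpLib.Basic

/-!
# Charts and equalisers of spaces of isomorphisms
-/

set_option autoImplicit false
set_option backward.isDefEq.respectTransparency false
set_option backward.isDefEq.respectTransparency.types false
set_option linter.style.haveILetI false
universe v₂ u₂ u

noncomputable section

namespace Groth.Agent.ArtinAtlas

open CategoryTheory CategoryTheory.Limits AlgebraicGeometry Opposite Groth.Agent.AlgSpLib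
open _root_.AlgSp _root_.AlgSt

variable {S : Scheme.{u}}

/-- the section of a map out of a scheme -/
def sec {F : Sp S} {T : Over S} (g : (yon S).obj T ⟶ F) : F.obj.obj (op T) := g.hom.app (op T) ⟨𝟙 T⟩

theorem sec_comp {F : Sp S} {T T' : Over S} (h : T' ⟶ T) (g : (yon S).obj T ⟶ F) :
    sec ((yon S).map h ≫ g) = F.obj.map h.op (sec g) := by
  have := congrArg (fun k => k (⟨𝟙 T⟩ : ULift.{u + 1} (T ⟶ T))) (g.hom.naturality h.op)
  refine Eq.trans ?_ this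
  show g.hom.app (op T') ⟨𝟙 T' ≫ h⟩ = g.hom.app (op T') ⟨h ≫ 𝟙 T⟩
  rw [Category.id_comp, Category.comp_id]

theorem sec_map {F G : Sp S} {T : Over S} (g : (yon S).obj T ⟶ F) (a : F ⟶ G) :
    sec (g ≫ a) = a.hom.app (op T) (sec g) := rfl

theorem sec_injective {F : Sp S} {T : Over S} : Function.Injective (sec (F := F) (T := T)) := fun g g' h => by
  apply ObjectProperty.hom_ext
  ext V x
  obtain ⟨x⟩ := x
  have n : ∀ k : (yon S).obj T ⟶ F, k.hom.app V ⟨x⟩ = F.obj.map x.op (sec k) := fun k => by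
    rw [← sec_comp]
    show k.hom.app V ⟨x⟩ = k.hom.app V ⟨𝟙 _ ≫ x⟩
    rw [Category.id_comp]
  exact (n g).trans ((congrArg (fun t => F.obj.map x.op t) h).trans (n g').symm)

theorem sec_surjective {F : Sp S} {T : Over S} (p : F.obj.obj (op T)) : ∃ g : (yon S).obj T ⟶ F, sec g = p := by
  refine ⟨ObjectProperty.homMk
    { app := fun V => ↾fun x => F.obj.map x.down.op p
      naturality := fun V V' f => by
        ext x
        show F.obj.map (f.unop ≫ x.down).op p = F.obj.map f (F.obj.map x.down.op p)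
        rw [op_comp, Functor.map_comp]; rfl }, ?_⟩
  show F.obj.map (𝟙 T).op p = p
  simp

variable {𝒳 : BasedCategory.{v₂, u₂} (Over S)} {U₁ U₂ : Over S} {x : FibCat.overCat U₁ ⥤ᵇ 𝒳}
  {y : FibCat.overCat U₂ ⥤ᵇ 𝒳}

variable (x y) in
/-- two isomorphisms over one scheme have the same restriction along a morphism -/
def SameRes {T T₁ T₂ : Over S} (g₁ : T ⟶ T₁) (g₂ : T ⟶ T₂) {a₁ : T₁ ⟶ U₁} {b₁ : T₁ ⟶ U₂} (θ₁ : Hom2 x y a₁ b₁)
    {a₂ : T₂ ⟶ U₁} {b₂ : T₂ ⟶ U₂} (θ₂ : Hom2 x y a₂ b₂) : Prop :=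
  ∃ (a : T ⟶ U₁) (b : T ⟶ U₂) (θ : Hom2 x y a b), Hom2.Res g₁ θ₁ θ ∧ Hom2.Res g₂ θ₂ θ

theorem SameRes.precomp (hX : FibCat.IsFibGrpd 𝒳.p) {T' T T₁ T₂ : Over S} {g₁ : T ⟶ T₁} {g₂ : T ⟶ T₂}
    {a₁ : T₁ ⟶ U₁} {b₁ : T₁ ⟶ U₂} {θ₁ : Hom2 x y a₁ b₁} {a₂ : T₂ ⟶ U₁} {b₂ : T₂ ⟶ U₂} {θ₂ : Hom2 x y a₂ b₂}
    (h : SameRes x y g₁ g₂ θ₁ θ₂) (f : T' ⟶ T) : SameRes x y (f ≫ g₁) (f ≫ g₂) θ₁ θ₂ := by
  obtain ⟨a, b, θ, h₁, h₂⟩ := h
  exact ⟨_, _, θ.res hX f, h₁.trans (θ.res_spec hX f), h₂.trans (θ.res_spec hX f)⟩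

/-- equal sections are equal restrictions -/
theorem PairSp.sec_eq_iff (hX : FibCat.IsFibGrpd 𝒳.p) (D : PairSp x y) {T T₁ T₂ : Over S} {p₁ : D.F.obj.obj (op T₁)}
    {p₂ : D.F.obj.obj (op T₂)} {a₁ : T₁ ⟶ U₁} {b₁ : T₁ ⟶ U₂} {θ₁ : Hom2 x y a₁ b₁} {a₂ : T₂ ⟶ U₁} {b₂ : T₂ ⟶ U₂}
    {θ₂ : Hom2 x y a₂ b₂} (h₁ : D.Cl p₁ θ₁) (h₂ : D.Cl p₂ θ₂) (g₁ : T ⟶ T₁) (g₂ : T ⟶ T₂) :
    D.F.obj.map g₁.op p₁ = D.F.obj.map g₂.op p₂ ↔ SameRes x y g₁ g₂ θ₁ θ₂ := by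
  refine ⟨fun h => ?_, fun ⟨a, b, θ, r₁, r₂⟩ =>
    (D.existsUnique θ).unique (D.natural g₁ h₁ r₁) (D.natural g₂ h₂ r₂)⟩
  have c₁ := D.natural g₁ h₁ (θ₁.res_spec hX g₁)
  have c₂ := D.natural g₂ h₂ (θ₂.res_spec hX g₂)
  rw [h] at c₁
  have e := (θ₂.res_spec hX g₂).trans (D.unique c₂ c₁)
  rw [Category.id_comp] at e
  exact ⟨_, _, _, θ₁.res_spec hX g₁, e⟩

/-- a chart of the space of isomorphisms -/
structure Chart (D : PairSp x y) where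
  /-- the scheme -/
  C : Over S
  /-- the map -/
  p : (yon S).obj C ⟶ D.F
  etale : RepWith @Etale p
  /-- first point -/
  a : C ⟶ U₁
  /-- second point -/
  b : C ⟶ U₂
  /-- the isomorphism over the chart -/
  θ : Hom2 x y a b
  cl : D.Cl (sec p) θ

/-- lifts to a chart form an etale scheme -/
theorem Chart.exists_lifts (hX : FibCat.IsFibGrpd 𝒳.p) {D : PairSp x y} (Φ : Chart D) {T : Over S} {a : T ⟶ U₁}
    {b : T ⟶ U₂} (η : Hom2 x y a b) :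
    ∃ (W : Over S) (l : W ⟶ Φ.C) (q : W ⟶ T), Etale q.left ∧ SameRes x y l q Φ.θ η ∧
      ∀ {T' : Over S} (c : T' ⟶ Φ.C) (g : T' ⟶ T), SameRes x y c g Φ.θ η → ∃! w : T' ⟶ W, w ≫ l = c ∧ w ≫ q = g := by
  obtain ⟨p₀, hp₀, -⟩ := D.existsUnique η
  obtain ⟨ξ, hξ⟩ := sec_surjective p₀
  subst hξ
  obtain ⟨W, l, q, sq, hq⟩ := D.isAlgSpace.exists_chart_pullback Φ.etale ξ
  have key : ∀ {T' : Over S} (c : T' ⟶ Φ.C) (g : T' ⟶ T),
      SameRes x y c g Φ.θ η ↔ (yon S).map c ≫ Φ.p = (yon S).map g ≫ ξ := fun c g => by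
    rw [← D.sec_eq_iff hX Φ.cl hp₀ c g, ← sec_comp, ← sec_comp]
    exact sec_injective.eq_iff
  refine ⟨W, l, q, hq, (key l q).2 sq.w, fun {T'} c g h => ?_⟩
  obtain ⟨w, hw⟩ := exists_map_eq (sq.lift _ _ ((key c g).1 h))
  refine ⟨w, ⟨(yon S).map_injective (by rw [Functor.map_comp, hw, sq.lift_fst]),
    (yon S).map_injective (by rw [Functor.map_comp, hw, sq.lift_snd])⟩, fun w' h' => (yon S).map_injective ?_⟩
  rw [hw]
  exact sq.hom_ext (by rw [sq.lift_fst, ← Functor.map_comp, h'.1]) (by rw [sq.lift_snd, ← Functor.map_comp, h'.2])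

/-- every point is in the image of an affine chart -/
theorem PairSp.exists_affine_chart (hX : FibCat.IsFibGrpd 𝒳.p) (D : PairSp x y) {T : Over S} {a : T ⟶ U₁}
    {b : T ⟶ U₂} (η : Hom2 x y a b) (s : ↥T.left) :
    ∃ (Φ : Chart D) (_ : IsAffine Φ.C.left) (W : Over S) (l : W ⟶ Φ.C) (q : W ⟶ T), Etale q.left ∧
      SameRes x y l q Φ.θ η ∧ s ∈ Set.range q.left := by
  obtain ⟨C₀, p₀, hp, hsurj⟩ := D.isAlgSpace.atlas
  obtain ⟨p₁, hp₁, -⟩ := D.existsUnique η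
  obtain ⟨ξ, hξ⟩ := sec_surjective p₁
  subst hξ
  obtain ⟨W, l, q, sq, hq⟩ := D.isAlgSpace.exists_chart_pullback (repWith_inf_iff.2 ⟨hp, hsurj⟩) ξ
  obtain ⟨w, hw⟩ := hq.2.surj s
  obtain ⟨V, hV, hVw, -⟩ := exists_isAffineOpen_mem_and_subset (X := C₀.left) (x := l.left w) (U := ⊤) trivial
  let C : Over S := Over.mk (V.ι ≫ C₀.hom)
  let j : C ⟶ C₀ := Over.homMk V.ι
  have hj : RepWith @Etale ((yon S).map j) := (repWith_yon_map_iff _ _).2 (inferInstanceAs (Etale V.ι))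
  obtain ⟨a₀, b₀, θ₀, h₀⟩ := D.exists_cl (sec ((yon S).map j ≫ p₀))
  let Φ : Chart D := ⟨C, (yon S).map j ≫ p₀, AlgSpLib.repWith_comp hj hp, a₀, b₀, θ₀, h₀⟩
  have hp' : Φ.p = (yon S).map j ≫ p₀ := rfl
  let O : W.left.Opens := l.left ⁻¹ᵁ V
  let W' : Over S := Over.mk (O.ι ≫ W.hom)
  let i : W' ⟶ W := Over.homMk O.ι
  let l' : W' ⟶ Φ.C := Over.homMk (l.left ∣_ V) (by
    show (l.left ∣_ V) ≫ V.ι ≫ C₀.hom = O.ι ≫ W.hom
    rw [morphismRestrict_ι_assoc, Over.w l])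
  refine ⟨Φ, hV, W', l', i ≫ q, ?_, (D.sec_eq_iff hX Φ.cl hp₁ _ _).1 ?_, ⟨⟨w, hVw⟩, hw⟩⟩
  · haveI : Etale q.left := hq.1
    exact inferInstanceAs (Etale (O.ι ≫ q.left))
  · rw [← sec_comp, ← sec_comp, hp', ← Category.assoc, ← Functor.map_comp]
    have e : l' ≫ j = i ≫ l := Over.OverMorphism.ext (morphismRestrict_ι l.left V)
    rw [e, Functor.map_comp, Category.assoc, sq.w, ← Category.assoc, ← Functor.map_comp]

/-- the locus where two isomorphisms agree is a scheme -/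
theorem PairSp.exists_eqLocus (hX : FibCat.IsFibGrpd 𝒳.p) (D : PairSp x y) {T : Over S} {a a' : T ⟶ U₁}
    {b b' : T ⟶ U₂} (θ : Hom2 x y a b) (θ' : Hom2 x y a' b') :
    ∃ (E : Over S) (q : E ⟶ T), Mono q ∧ SameRes x y q q θ θ' ∧
      ∀ {T' : Over S} (g : T' ⟶ T), SameRes x y g g θ θ' → ∃ w : T' ⟶ E, w ≫ q = g := by
  obtain ⟨p, hp, -⟩ := D.existsUnique θ
  obtain ⟨p', hp', -⟩ := D.existsUnique θ'
  obtain ⟨ξ, rfl⟩ := sec_surjective p
  obtain ⟨ξ', rfl⟩ := sec_surjective p'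
  have key : ∀ {T' : Over S} (g g' : T' ⟶ T),
      SameRes x y g g' θ θ' ↔ (yon S).map g ≫ ξ = (yon S).map g' ≫ ξ' := fun g g' => by
    rw [← D.sec_eq_iff hX hp hp' g g', ← sec_comp, ← sec_comp]
    exact sec_injective.eq_iff
  obtain ⟨Z, z, z', sq⟩ := exists_pullback D.isAlgSpace.diag ξ ξ'
  refine ⟨equalizer z z', equalizer.ι z z' ≫ z, ?_, ?_, fun {T'} g hg => ?_⟩
  · refine ⟨fun {A} u v h => equalizer.hom_ext ((yon S).map_injective (sq.hom_ext ?_ ?_))⟩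
    · rw [← Functor.map_comp, ← Functor.map_comp, Category.assoc, h, Category.assoc]
    · rw [← Functor.map_comp, ← Functor.map_comp, Category.assoc, Category.assoc, ← equalizer.condition, h]
  · refine (key _ _).2 ?_
    conv_rhs => rw [equalizer.condition]
    rw [Functor.map_comp, Functor.map_comp, Category.assoc, Category.assoc, sq.w]
  · obtain ⟨w, hw⟩ := exists_map_eq (sq.lift _ _ ((key g g).1 hg))
    have h₁ : w ≫ z = g := (yon S).map_injective (by rw [Functor.map_comp, hw, sq.lift_fst])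
    have h₂ : w ≫ z' = g := (yon S).map_injective (by rw [Functor.map_comp, hw, sq.lift_snd])
    exact ⟨equalizer.lift w (h₁.trans h₂.symm), by rw [equalizer.lift_ι_assoc, h₁]⟩

end Groth.Agent.ArtinAtlas

end
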