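import Mathlib

/-!
# Multiplication tables of finite free algebras
-/

set_option autoImplicit false

universe v u

noncomputable section

namespace Groth.Agent.ArtinAtlas

/-- structure constants of a commutative algebra with a basis indexed by `ι` -/
@[ext] structure Tab (ι : Type v) [Fintype ι] [DecidableEq ι] (T : Type u) [CommRing T] where
  c : ι → ι → ι → T
  one : ι → T
  comm : ∀ i j k, c i j k = c j i k
  assoc : ∀ i j k l, ∑ m, c i j m * c m k l = ∑ m, c j k m * c i m l
  one_mul : ∀ i l, ∑ m, one m * c m i l = if i = l then 1 else 0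

variable {ι : Type v} [Fintype ι] [DecidableEq ι] {T : Type u} [CommRing T]

/-- the algebra of a table -/
@[nolint unusedArguments]
def Tab.Alg (_t : Tab ι T) : Type (max v u) := ι → T

variable (t : Tab ι T)

instance : AddCommGroup t.Alg := inferInstanceAs (AddCommGroup (ι → T))
instance : Module T t.Alg := inferInstanceAs (Module T (ι → T))

/-- coordinates -/
def Tab.coord : t.Alg ≃ₗ[T] ι → T := LinearEquiv.refl T (ι → T)

/-- the basis -/
def Tab.basis : Module.Basis ι T t.Alg := Module.Basis.ofEquivFun t.coord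

theorem Tab.coord_basis (i : ι) : t.coord (t.basis i) = Pi.single i 1 := by
  simp only [Tab.basis, Module.Basis.coe_ofEquivFun]
  exact t.coord.apply_symm_apply _

theorem Tab.sum_coord (x : t.Alg) : ∑ i, t.coord x i • t.basis i = x := by
  conv_rhs => rw [← t.basis.sum_repr x]
  rfl

theorem Tab.ext' {x y : t.Alg} (h : ∀ i, t.coord x i = t.coord y i) : x = y :=
  t.coord.injective (funext h)

/-- the product of two elements of the basis -/
def Tab.pr (i j : ι) : t.Alg := t.coord.symm fun k => t.c i j k

/-- multiplication as a bilinear map -/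
def Tab.L : t.Alg →ₗ[T] t.Alg →ₗ[T] t.Alg := t.basis.constr T fun i => t.basis.constr T fun j => t.pr i j

theorem Tab.L_basis (i j : ι) : t.L (t.basis i) (t.basis j) = t.pr i j := by simp [Tab.L]

theorem Tab.pr_eq (i j : ι) : t.pr i j = ∑ m, t.c i j m • t.basis m := by
  conv_lhs => rw [← t.sum_coord (t.pr i j)]
  simp [Tab.pr]

theorem Tab.L_comm (x y : t.Alg) : t.L x y = t.L y x := by
  refine LinearMap.congr_fun₂ (t.basis.ext fun i => t.basis.ext fun j => ?_ : t.L = t.L.flip) x y
  rw [LinearMap.flip_apply, t.L_basis, t.L_basis]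
  exact t.ext' fun k => t.comm i j k

theorem Tab.L_assoc (x y z : t.Alg) : t.L (t.L x y) z = t.L x (t.L y z) := by
  have h : ∀ i j k, t.L (t.L (t.basis i) (t.basis j)) (t.basis k) = t.L (t.basis i) (t.L (t.basis j) (t.basis k)) := by
    intro i j k
    rw [t.L_basis, t.L_basis, t.pr_eq i j, t.pr_eq j k]
    simp only [map_sum, map_smul, LinearMap.sum_apply, LinearMap.smul_apply, t.L_basis]
    refine t.ext' fun l => ?_
    simp only [map_sum, map_smul, Finset.sum_apply, Pi.smul_apply, smul_eq_mul, Tab.pr, LinearEquiv.apply_symm_apply]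
    exact t.assoc i j k l
  rw [← t.sum_coord x, ← t.sum_coord y, ← t.sum_coord z]
  simp only [map_sum, map_smul, LinearMap.sum_apply, LinearMap.smul_apply, h, Finset.smul_sum]

/-- the unit -/
def Tab.unit : t.Alg := t.coord.symm t.one

theorem Tab.L_unit (x : t.Alg) : t.L t.unit x = x := by
  refine LinearMap.congr_fun (t.basis.ext fun i => ?_ : t.L t.unit = LinearMap.id) x
  conv_lhs => rw [← t.sum_coord t.unit]
  simp only [map_sum, map_smul, LinearMap.sum_apply, LinearMap.smul_apply, t.L_basis]
  refine t.ext' fun l => ?_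
  simp only [map_sum, map_smul, Finset.sum_apply, Pi.smul_apply, smul_eq_mul, Tab.pr, Tab.unit,
    LinearEquiv.apply_symm_apply, t.one_mul, LinearMap.id_apply, t.coord_basis, Pi.single_apply, eq_comm]

instance : Mul t.Alg := ⟨fun x y => t.L x y⟩
instance : One t.Alg := ⟨t.unit⟩

theorem Tab.mul_def (x y : t.Alg) : x * y = t.L x y := rfl

instance : CommRing t.Alg :=
  { (inferInstance : AddCommGroup t.Alg) with
    mul := (· * ·)
    one := 1
    mul_assoc := t.L_assoc
    one_mul := t.L_unit
    mul_one := fun x => (t.L_comm x t.unit).trans (t.L_unit x)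
    left_distrib := fun x y z => map_add (t.L x) y z
    right_distrib := fun x y z => LinearMap.map_add₂ t.L x y z
    zero_mul := fun x => LinearMap.map_zero₂ t.L x
    mul_zero := fun x => map_zero (t.L x)
    mul_comm := t.L_comm }

instance : Algebra T t.Alg := Algebra.ofModule
  (fun r x y => LinearMap.map_smul₂ t.L r x y)
  (fun r x y => map_smul (t.L x) r y)

instance : Module.Free T t.Alg := Module.Free.of_basis t.basis
instance : Module.Finite T t.Alg := Module.Finite.of_basis t.basis

theorem Tab.basis_mul (i j : ι) : t.basis i * t.basis j = t.pr i j := t.L_basis i j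

theorem Tab.coord_one (i : ι) : t.coord 1 i = t.one i := congrFun (t.coord.apply_symm_apply t.one) i

theorem Tab.coord_mul (x y : t.Alg) (k : ι) :
    t.coord (x * y) k = ∑ i, ∑ j, t.coord x i * t.coord y j * t.c i j k := by
  conv_lhs => rw [← t.sum_coord x, ← t.sum_coord y]
  simp only [Finset.sum_mul, Finset.mul_sum, smul_mul_assoc, mul_smul_comm, map_sum, map_smul,
    Finset.sum_apply, Pi.smul_apply, smul_eq_mul, t.basis_mul, Tab.pr, LinearEquiv.apply_symm_apply]
  rw [Finset.sum_comm]
  exact Finset.sum_congr rfl fun i _ => Finset.sum_congr rfl fun j _ => by ring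

/-- change of scalars -/
def Tab.map {T' : Type*} [CommRing T'] (f : T →+* T') : Tab ι T' where
  c i j k := f (t.c i j k)
  one i := f (t.one i)
  comm i j k := by rw [t.comm]
  assoc i j k l := by
    simp only [← map_mul, ← map_sum, t.assoc]
  one_mul i l := by
    simp only [← map_mul, ← map_sum, t.one_mul]
    split_ifs <;> simp

theorem Tab.map_map {T' T'' : Type*} [CommRing T'] [CommRing T''] (f : T →+* T') (g : T' →+* T'') :
    (t.map f).map g = t.map (g.comp f) := rfl

theorem Tab.map_id : t.map (RingHom.id T) = t := rfl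

/-- the map of algebras of a change of scalars -/
def Tab.mapHom {T' : Type*} [CommRing T'] (f : T →+* T') : t.Alg →+* (t.map f).Alg where
  toFun x := (t.map f).coord.symm fun i => f (t.coord x i)
  map_one' := (t.map f).ext' fun i => by simp only [LinearEquiv.apply_symm_apply, Tab.coord_one]; rfl
  map_zero' := (t.map f).ext' fun i => by simp
  map_add' x y := (t.map f).ext' fun i => by simp
  map_mul' x y := (t.map f).ext' fun k => by
    simp only [LinearEquiv.apply_symm_apply, Tab.coord_mul, map_sum, map_mul]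
    rfl

theorem Tab.coord_mapHom {T' : Type*} [CommRing T'] (f : T →+* T') (x : t.Alg) (i : ι) :
    (t.map f).coord (t.mapHom f x) i = f (t.coord x i) :=
  congrFun ((t.map f).coord.apply_symm_apply _) i

theorem Tab.mapHom_smul {T' : Type*} [CommRing T'] (f : T →+* T') (r : T) (x : t.Alg) :
    t.mapHom f (r • x) = f r • t.mapHom f x :=
  (t.map f).ext' fun i => by simp [Tab.coord_mapHom]

theorem Tab.mapHom_algebraMap {T' : Type*} [CommRing T'] (f : T →+* T') (r : T) :
    t.mapHom f (algebraMap T t.Alg r) = algebraMap T' (t.map f).Alg (f r) := by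
  rw [Algebra.algebraMap_eq_smul_one, t.mapHom_smul, map_one, ← Algebra.algebraMap_eq_smul_one]

theorem Tab.mapHom_basis {T' : Type*} [CommRing T'] (f : T →+* T') (i : ι) :
    t.mapHom f (t.basis i) = (t.map f).basis i := by
  refine (t.map f).ext' fun k => ?_
  rw [t.coord_mapHom, t.coord_basis, (t.map f).coord_basis, Pi.single_apply, Pi.single_apply]
  split_ifs <;> simp

/-- the map of algebras along compatible tables -/
def Tab.hom {T' : Type*} [CommRing T'] {t : Tab ι T} {t' : Tab ι T'} (f : T →+* T') (h : t.map f = t') :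
    t.Alg →+* t'.Alg where
  toFun x := t'.coord.symm fun i => f (t.coord x i)
  map_one' := by subst h; exact (t.mapHom f).map_one
  map_zero' := by subst h; exact (t.mapHom f).map_zero
  map_add' := by subst h; exact (t.mapHom f).map_add
  map_mul' := by subst h; exact (t.mapHom f).map_mul

theorem Tab.coord_hom {T' : Type*} [CommRing T'] {t : Tab ι T} {t' : Tab ι T'} (f : T →+* T') (h : t.map f = t')
    (x : t.Alg) (i : ι) : t'.coord (Tab.hom f h x) i = f (t.coord x i) :=
  congrFun (t'.coord.apply_symm_apply _) i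

theorem Tab.hom_algebraMap {T' : Type*} [CommRing T'] {t : Tab ι T} {t' : Tab ι T'} (f : T →+* T') (h : t.map f = t')
    (r : T) : Tab.hom f h (algebraMap T t.Alg r) = algebraMap T' t'.Alg (f r) := by
  subst h; exact t.mapHom_algebraMap f r

theorem Tab.coord_algebraMap (r : T) (i : ι) : t.coord (algebraMap T t.Alg r) i = r * t.one i := by
  rw [Algebra.algebraMap_eq_smul_one, map_smul, Pi.smul_apply, t.coord_one, smul_eq_mul]

section sq

variable {κ : Type v} [Fintype κ] [DecidableEq κ] (s : Tab κ T)

/-- the product of two tables -/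
def Tab.sq : Tab (ι × κ) T where
  c p q r := t.c p.1 q.1 r.1 * s.c p.2 q.2 r.2
  one p := t.one p.1 * s.one p.2
  comm p q r := by rw [t.comm, s.comm]
  assoc p q r l := by
    simp only [Fintype.sum_prod_type]
    calc ∑ a, ∑ b, t.c p.1 q.1 a * s.c p.2 q.2 b * (t.c a r.1 l.1 * s.c b r.2 l.2)
        = (∑ a, t.c p.1 q.1 a * t.c a r.1 l.1) * ∑ b, s.c p.2 q.2 b * s.c b r.2 l.2 := by
          rw [Finset.sum_mul_sum]
          exact Finset.sum_congr rfl fun a _ => Finset.sum_congr rfl fun b _ => by ring
      _ = (∑ a, t.c q.1 r.1 a * t.c p.1 a l.1) * ∑ b, s.c q.2 r.2 b * s.c p.2 b l.2 := by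
          rw [t.assoc, s.assoc]
      _ = _ := by
          rw [Finset.sum_mul_sum]
          exact Finset.sum_congr rfl fun a _ => Finset.sum_congr rfl fun b _ => by ring
  one_mul p l := by
    simp only [Fintype.sum_prod_type]
    calc ∑ a, ∑ b, t.one a * s.one b * (t.c a p.1 l.1 * s.c b p.2 l.2)
        = (∑ a, t.one a * t.c a p.1 l.1) * ∑ b, s.one b * s.c b p.2 l.2 := by
          rw [Finset.sum_mul_sum]
          exact Finset.sum_congr rfl fun a _ => Finset.sum_congr rfl fun b _ => by ring
      _ = _ := by
          rw [t.one_mul, s.one_mul, ite_zero_mul_ite_zero, _root_.mul_one]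
          simp [Prod.ext_iff]

/-- products of pure elements -/
def Tab.pure (x : t.Alg) (y : s.Alg) : (t.sq s).Alg :=
  (t.sq s).coord.symm fun p => t.coord x p.1 * s.coord y p.2

theorem Tab.coord_pure (x : t.Alg) (y : s.Alg) (p : ι × κ) :
    (t.sq s).coord (t.pure s x y) p = t.coord x p.1 * s.coord y p.2 :=
  congrFun ((t.sq s).coord.apply_symm_apply _) p

theorem Tab.pure_mul (x x' : t.Alg) (y y' : s.Alg) :
    t.pure s x y * t.pure s x' y' = t.pure s (x * x') (y * y') := by
  refine (t.sq s).ext' fun r => ?_
  rw [Tab.coord_mul, t.coord_pure]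
  have hc : ∀ p q r, (t.sq s).c p q r = t.c p.1 q.1 r.1 * s.c p.2 q.2 r.2 := fun _ _ _ => rfl
  simp only [t.coord_pure, t.coord_mul, s.coord_mul, Fintype.sum_prod_type, hc, Finset.sum_mul_sum]
  refine Finset.sum_congr rfl fun i _ => ?_
  refine Finset.sum_congr rfl fun a _ => Finset.sum_congr rfl fun j _ => Finset.sum_congr rfl fun b _ => ?_
  ring

theorem Tab.pure_one : t.pure s 1 1 = 1 :=
  (t.sq s).ext' fun p => by rw [t.coord_pure, t.coord_one, s.coord_one, Tab.coord_one]; rfl

theorem Tab.pure_basis (p : ι × κ) : t.pure s (t.basis p.1) (s.basis p.2) = (t.sq s).basis p := by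
  refine (t.sq s).ext' fun q => ?_
  rw [t.coord_pure, t.coord_basis, s.coord_basis, Tab.coord_basis]
  simp [Pi.single_apply, Prod.ext_iff, ← ite_and, and_comm]

/-- the left factor -/
def Tab.inl : t.Alg →ₐ[T] (t.sq s).Alg where
  toFun x := t.pure s x 1
  map_one' := t.pure_one s
  map_zero' := (t.sq s).ext' fun p => by simp [Tab.coord_pure]
  map_add' x y := (t.sq s).ext' fun p => by simp [Tab.coord_pure, add_mul]
  map_mul' x y := by rw [t.pure_mul, _root_.mul_one]
  commutes' r := by
    refine (t.sq s).ext' fun p => ?_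
    rw [Algebra.algebraMap_eq_smul_one, Algebra.algebraMap_eq_smul_one, ← t.pure_one s]
    simp [Tab.coord_pure, mul_assoc]

/-- the right factor -/
def Tab.inr : s.Alg →ₐ[T] (t.sq s).Alg where
  toFun y := t.pure s 1 y
  map_one' := t.pure_one s
  map_zero' := (t.sq s).ext' fun p => by simp [Tab.coord_pure]
  map_add' x y := (t.sq s).ext' fun p => by simp [Tab.coord_pure, mul_add]
  map_mul' x y := by rw [t.pure_mul, _root_.mul_one]
  commutes' r := by
    refine (t.sq s).ext' fun p => ?_
    rw [Algebra.algebraMap_eq_smul_one, Algebra.algebraMap_eq_smul_one, ← t.pure_one s]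
    simp [Tab.coord_pure, mul_left_comm]

theorem Tab.inl_mul_inr (x : t.Alg) (y : s.Alg) : t.inl s x * t.inr s y = t.pure s x y := by
  show t.pure s x 1 * t.pure s 1 y = _
  rw [t.pure_mul, _root_.mul_one, _root_.one_mul]

theorem Tab.map_sq {T' : Type*} [CommRing T'] (f : T →+* T') :
    (t.sq s).map f = (t.map f).sq (s.map f) := by
  simp [Tab.map, Tab.sq, map_mul]

end sq

end Groth.Agent.ArtinAtlas

end
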