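import Groth.Agent.ArtinAtlas.Tab

/-!
# Cocartesian squares of tables
-/

set_option autoImplicit false
set_option linter.style.haveILetI false

universe u

open CategoryTheory TensorProduct CommRingCat

noncomputable section

namespace Groth.Agent.ArtinAtlas

variable {ι κ : Type} [Fintype ι] [DecidableEq ι] [Fintype κ] [DecidableEq κ] {T T' : Type u}
  [CommRing T] [CommRing T']

theorem isPushout_of_bijective {R A B P : Type u} [CommRing R] [CommRing A] [CommRing B] [CommRing P]
    [Algebra R A] [Algebra R B] (i : A →+* P) (j : B →+* P)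
    (w : i.comp (algebraMap R A) = j.comp (algebraMap R B))
    (h : ∀ e : A ⊗[R] B →+* P, (∀ a b, e (a ⊗ₜ b) = i a * j b) → Function.Bijective e) :
    IsPushout (ofHom (algebraMap R A)) (ofHom (algebraMap R B)) (ofHom i) (ofHom j) := by
  letI : Algebra R P := (i.comp (algebraMap R A)).toAlgebra
  let i' : A →ₐ[R] P := { i with commutes' := fun _ => rfl }
  let j' : B →ₐ[R] P := { j with commutes' := fun r => (DFunLike.congr_fun w r).symm }
  let e : A ⊗[R] B →ₐ[R] P := Algebra.TensorProduct.productMap i' j'
  have he : Function.Bijective e := h e.toRingHom fun a b => Algebra.TensorProduct.productMap_apply_tmul i' j' a b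
  exact (CommRingCat.isPushout_tensorProduct R A B).of_iso (Iso.refl _) (Iso.refl _) (Iso.refl _)
    (RingEquiv.ofBijective e.toRingHom he).toCommRingCatIso (by simp) (by simp)
    (by
      ext a
      show e (a ⊗ₜ 1) = i a
      simp [e, i'])
    (by
      ext b
      show e (1 ⊗ₜ b) = j b
      simp [e, j'])

theorem isPushout_sq (t : Tab ι T) (s : Tab κ T) :
    IsPushout (ofHom (algebraMap T t.Alg)) (ofHom (algebraMap T s.Alg)) (ofHom (t.inl s).toRingHom)
      (ofHom (t.inr s).toRingHom) := by
  refine isPushout_of_bijective _ _ ((t.inl s).comp_algebraMap.trans (t.inr s).comp_algebraMap.symm) fun e he => ?_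
  let bb := t.basis.tensorProduct s.basis
  have hlin : ∀ (r : T) x, e (r • x) = r • e x := fun r x => by
    rw [Algebra.smul_def, map_mul, Algebra.smul_def]
    congr 1
    rw [Algebra.TensorProduct.algebraMap_apply, he, map_one, _root_.mul_one]
    exact (t.inl s).commutes r
  let L : (t.Alg ⊗[T] s.Alg) →ₗ[T] (t.sq s).Alg :=
    { toFun := e, map_add' := map_add e, map_smul' := hlin }
  have hL : L = (bb.equiv (t.sq s).basis (Equiv.refl _)).toLinearMap := bb.ext fun p => by
    rw [LinearEquiv.coe_coe, Module.Basis.equiv_apply, Module.Basis.tensorProduct_apply']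
    show e (t.basis p.1 ⊗ₜ s.basis p.2) = _
    rw [he]
    exact (t.inl_mul_inr s _ _).trans (t.pure_basis s p)
  show Function.Bijective L
  rw [hL]
  exact LinearEquiv.bijective _

theorem isPushout_hom {t : Tab ι T} {t' : Tab ι T'} (f : T →+* T') (h : t.map f = t') :
    IsPushout (ofHom f) (ofHom (algebraMap T t.Alg)) (ofHom (algebraMap T' t'.Alg))
      (ofHom (Tab.hom f h)) := by
  letI := f.toAlgebra
  refine isPushout_of_bijective (R := T) (A := T') (B := t.Alg) _ _ (RingHom.ext fun r => (Tab.hom_algebraMap f h r).symm)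
    fun e he => ?_
  let bb := t.basis.baseChange T'
  have hlin : ∀ (r : T') x, e (r • x) = r • e x := fun r x => by
    rw [Algebra.smul_def, map_mul, Algebra.smul_def]
    congr 1
    rw [Algebra.TensorProduct.algebraMap_apply, he, map_one, _root_.mul_one]
    rfl
  let L : (T' ⊗[T] t.Alg) →ₗ[T'] t'.Alg :=
    { toFun := e, map_add' := map_add e, map_smul' := hlin }
  have hL : L = (bb.equiv t'.basis (Equiv.refl _)).toLinearMap := bb.ext fun p => by
    rw [LinearEquiv.coe_coe, Module.Basis.equiv_apply, Module.Basis.baseChange_apply]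
    show e ((1 : T') ⊗ₜ t.basis p) = _
    rw [he, map_one, _root_.one_mul]
    subst h
    exact t.mapHom_basis f p
  show Function.Bijective L
  rw [hL]
  exact LinearEquiv.bijective _

end Groth.Agent.ArtinAtlas

end
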