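import Groth.Agent.ArtinAtlas.Descend
import Groth.Agent.ArtinAtlas.TabGeom
import Groth.Agent.ArtinAtlas.Tab

/-!
# Affine test objects and tables over them
-/

set_option autoImplicit false
set_option backward.isDefEq.respectTransparency false
set_option backward.isDefEq.respectTransparency.types false
set_option linter.style.haveILetI false
universe u

noncomputable section

namespace Groth.Agent.ArtinAtlas

open CategoryTheory CategoryTheory.Limits AlgebraicGeometry CommRingCat

variable {S : Scheme.{u}} {R₀ : Type u} [CommRing R₀] (j : Spec (CommRingCat.of R₀) ⟶ S)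

/-- the affine test object of a ring under the base -/
abbrev ovR {T : Type u} [CommRing T] (σ : R₀ →+* T) : Over S := Over.mk (Spec.map (ofHom σ) ≫ j)

variable {j} {T T' T'' : Type u} [CommRing T] [CommRing T'] [CommRing T''] {σ : R₀ →+* T} {σ' : R₀ →+* T'}
  {σ'' : R₀ →+* T''}

/-- the map of test objects of a ring map -/
def ovMap (f : T →+* T') (h : f.comp σ = σ') : ovR j σ' ⟶ ovR j σ :=
  Over.homMk (Spec.map (ofHom f)) (by
    show Spec.map (ofHom f) ≫ Spec.map (ofHom σ) ≫ j = Spec.map (ofHom σ') ≫ j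
    rw [← Spec.map_comp_assoc, ← ofHom_comp, h])

theorem ovMap_comp (f : T →+* T') (h : f.comp σ = σ') (g : T' →+* T'') (h' : g.comp σ' = σ'') :
    ovMap (j := j) g h' ≫ ovMap f h = ovMap (g.comp f) (by rw [RingHom.comp_assoc, h, h']) :=
  Over.OverMorphism.ext (show Spec.map (ofHom g) ≫ Spec.map (ofHom f) = Spec.map (ofHom (g.comp f)) by
    rw [← Spec.map_comp, ← ofHom_comp])

theorem ovMap_congr {f g : T →+* T'} (h : f.comp σ = σ') (e : f = g) :
    ovMap (j := j) f h = ovMap g (e ▸ h) := by subst e; rfl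

theorem ovMap_injective {f g : T →+* T'} {h : f.comp σ = σ'} {h' : g.comp σ = σ'}
    (e : ovMap (j := j) f h = ovMap g h') : f = g :=
  CommRingCat.hom_ext_iff.1 (Spec.map_injective (congrArg Over.Hom.left e :))

theorem exists_ovMap [Mono j] (g : ovR j σ' ⟶ ovR j σ) : ∃ (f : T →+* T') (h : f.comp σ = σ'), g = ovMap f h := by
  obtain ⟨f, hf⟩ := Spec.map_surjective (R := CommRingCat.of T) (S := CommRingCat.of T') g.left
  have hw : Spec.map f ≫ Spec.map (ofHom σ) ≫ j = Spec.map (ofHom σ') ≫ j := hf ▸ Over.w g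
  rw [← Spec.map_comp_assoc, cancel_mono j] at hw
  exact ⟨f.hom, congrArg CommRingCat.Hom.hom (Spec.map_injective hw), Over.OverMorphism.ext hf.symm⟩

/-- an affine scheme over a test object is a test object -/
theorem exists_ovR_iso {W : Over S} [IsAffine W.left] (g : W ⟶ ovR j σ) :
    ∃ (C : Type u) (_ : CommRing C) (f : T →+* C) (e : ovR j (f.comp σ) ≅ W), e.hom ≫ g = ovMap f rfl := by
  obtain ⟨f, hf⟩ := Spec.map_surjective (R := CommRingCat.of T) (W.left.isoSpec.inv ≫ g.left)
  refine ⟨Γ(W.left, ⊤), inferInstance, f.hom, Over.isoMk W.left.isoSpec.symm ?_, Over.OverMorphism.ext ?_⟩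
  · show W.left.isoSpec.inv ≫ W.hom = Spec.map (ofHom (f.hom.comp σ)) ≫ j
    rw [← Over.w g, ← Category.assoc, ← hf, ofHom_comp, ofHom_hom, Spec.map_comp, Category.assoc]
    rfl
  · exact hf.symm

theorem isPullback_over {P X Y Z : Over S} {a : P ⟶ X} {b : P ⟶ Y} {f : X ⟶ Z} {g : Y ⟶ Z}
    (h : IsPullback a.left b.left f.left g.left) : IsPullback a b f g := by
  have w : a ≫ f = b ≫ g := Over.OverMorphism.ext h.w
  refine ⟨⟨w⟩, ⟨PullbackCone.IsLimit.mk _
    (fun s => Over.homMk (h.lift s.fst.left s.snd.left (congrArg Over.Hom.left s.condition)) ?_)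
    (fun s => Over.OverMorphism.ext (h.lift_fst _ _ _)) (fun s => Over.OverMorphism.ext (h.lift_snd _ _ _))
    (fun s m h₁ h₂ => Over.OverMorphism.ext (h.hom_ext ?_ ?_))⟩⟩
  · rw [← Over.w a, ← Category.assoc, h.lift_fst, Over.w s.fst]
  · show m.left ≫ a.left = _ ≫ a.left
    refine Eq.trans ?_ (h.lift_fst _ _ _).symm
    exact congrArg Over.Hom.left h₁
  · show m.left ≫ b.left = _ ≫ b.left
    refine Eq.trans ?_ (h.lift_snd _ _ _).symm
    exact congrArg Over.Hom.left h₂

section tab

variable {ι κ : Type} [Fintype ι] [DecidableEq ι] [Fintype κ] [DecidableEq κ] (t : Tab ι T) (s : Tab κ T)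

variable (j σ) in
/-- the spectrum of the algebra of a table -/
abbrev spT : Over S := ovR j ((algebraMap T t.Alg).comp σ)

variable (j σ) in
/-- the projection of a table -/
abbrev qT : spT j σ t ⟶ ovR j σ := ovMap (algebraMap T t.Alg) rfl

variable (j σ) in
/-- first projection of a product of tables -/
abbrev prL : spT j σ (t.sq s) ⟶ spT j σ t :=
  ovMap (t.inl s).toRingHom (by rw [← RingHom.comp_assoc, AlgHom.toRingHom_eq_coe, AlgHom.comp_algebraMap])

variable (j σ) in
/-- second projection of a product of tables -/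
abbrev prR : spT j σ (t.sq s) ⟶ spT j σ s :=
  ovMap (t.inr s).toRingHom (by rw [← RingHom.comp_assoc, AlgHom.toRingHom_eq_coe, AlgHom.comp_algebraMap])

theorem prR_comp : prR j σ t s ≫ qT j σ s = qT j σ (t.sq s) := by
  rw [ovMap_comp]
  exact Over.OverMorphism.ext (congrArg (fun f => Spec.map (ofHom f)) (t.inr s).comp_algebraMap)

theorem prL_comp : prL j σ t s ≫ qT j σ t = qT j σ (t.sq s) := by
  rw [ovMap_comp]
  exact Over.OverMorphism.ext (congrArg (fun f => Spec.map (ofHom f)) (t.inl s).comp_algebraMap)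

theorem isPullback_prT : IsPullback (prL j σ t s) (prR j σ t s) (qT j σ t) (qT j σ s) :=
  isPullback_over (isPullback_SpecMap_of_isPushout _ _ _ _ (isPushout_sq t s))

theorem isPullback_prT₃ : IsPullback (prL j σ (t.sq t) t) (prR j σ (t.sq t) t) (prR j σ t t ≫ qT j σ t) (qT j σ t) := by
  rw [prR_comp]
  exact isPullback_prT (t.sq t) t

variable {t}

/-- the map of spectra of tables along a map of rings -/
abbrev spMap {t' : Tab ι T'} (f : T →+* T') (hσ : f.comp σ = σ') (h : t.map f = t') : spT j σ' t' ⟶ spT j σ t :=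
  ovMap (Tab.hom f h) (by
    rw [← RingHom.comp_assoc, show (Tab.hom f h).comp (algebraMap T t.Alg) = (algebraMap T' t'.Alg).comp f from
      RingHom.ext (Tab.hom_algebraMap f h), RingHom.comp_assoc, hσ])

theorem isPullback_spMap {t' : Tab ι T'} (f : T →+* T') (hσ : f.comp σ = σ') (h : t.map f = t') :
    IsPullback (qT j σ' t') (spMap f hσ h) (ovMap f hσ) (qT j σ t) :=
  isPullback_over (isPullback_SpecMap_of_isPushout _ _ _ _ (isPushout_hom f h))

variable (t)

instance : Flat (qT j σ t).left := by
  show Flat (Spec.map (ofHom (algebraMap T t.Alg)))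
  exact (HasRingHomProperty.Spec_iff (P := @Flat)).2 (RingHom.flat_algebraMap_iff.2 inferInstance)

instance : LocallyOfFinitePresentation (qT j σ t).left := by
  show LocallyOfFinitePresentation (Spec.map (ofHom (algebraMap T t.Alg)))
  haveI : Module.FinitePresentation T t.Alg := Module.finitePresentation_of_projective T t.Alg
  exact (HasRingHomProperty.Spec_iff (P := @LocallyOfFinitePresentation)).2
    (RingHom.finitePresentation_algebraMap.2 inferInstance)

theorem Tab.algebraMap_injective [Nonempty ι] : Function.Injective (algebraMap T t.Alg) := by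
  refine (injective_iff_map_eq_zero _).2 fun r hr => ?_
  have h : ∀ i, r * t.one i = 0 := fun i => by rw [← t.coord_algebraMap, hr, map_zero, Pi.zero_apply]
  obtain ⟨i⟩ := ‹Nonempty ι›
  calc r = r * ∑ m, t.one m * t.c m i i := by rw [t.one_mul, if_pos rfl, _root_.mul_one]
    _ = 0 := by rw [Finset.mul_sum]; exact Finset.sum_eq_zero fun m _ => by rw [← mul_assoc, h, zero_mul]

instance [Nonempty ι] : Surjective (qT j σ t).left := by
  show Surjective (Spec.map (ofHom (algebraMap T t.Alg)))
  haveI : Algebra.IsIntegral T t.Alg := Algebra.IsIntegral.of_finite T t.Alg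
  haveI : FaithfulSMul T t.Alg := (faithfulSMul_iff_algebraMap_injective T t.Alg).2 t.algebraMap_injective
  refine ⟨fun p => ?_⟩
  exact Algebra.IsIntegral.comap_surjective (R := T) (S := t.Alg) p

end tab

end Groth.Agent.ArtinAtlas

end
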