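import Groth.Agent.ArtinAtlas.Univ
import Groth.Agent.ArtinAtlas.Fam

/-!
# Tables with a point and a comparison on the square, and their universal family
-/

set_option autoImplicit false
set_option backward.isDefEq.respectTransparency false
set_option backward.isDefEq.respectTransparency.types false
set_option linter.style.haveILetI false
universe u

noncomputable section

namespace Groth.Agent.ArtinAtlas

open CategoryTheory CategoryTheory.Limits AlgebraicGeometry CommRingCat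

section hom

variable {ι κ : Type} [Fintype ι] [DecidableEq ι] [Fintype κ] [DecidableEq κ] {T T' T'' : Type u} [CommRing T]
  [CommRing T'] [CommRing T''] {t : Tab ι T} {t' : Tab ι T'} {t'' : Tab ι T''}

theorem Tab.map_sq_of_eq {s : Tab κ T} {s' : Tab κ T'} (f : T →+* T') (h : t.map f = t') (h' : s.map f = s') :
    (t.sq s).map f = t'.sq s' := by rw [Tab.map_sq, h, h']

theorem Tab.hom_hom (f : T →+* T') (h : t.map f = t') (g : T' →+* T'') (h' : t'.map g = t'') (x : t.Alg) :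
    Tab.hom g h' (Tab.hom f h x) = Tab.hom (g.comp f) (by rw [← h', ← h, Tab.map_map]) x :=
  t''.ext' fun i => by rw [Tab.coord_hom, Tab.coord_hom, Tab.coord_hom]; rfl

theorem Tab.hom_inl {s : Tab κ T} {s' : Tab κ T'} (f : T →+* T') (h : t.map f = t') (h' : s.map f = s') (x : t.Alg) :
    Tab.hom f (Tab.map_sq_of_eq f h h') (t.inl s x) = t'.inl s' (Tab.hom f h x) := by
  refine (t'.sq s').ext' fun p => ?_
  show (t'.sq s').coord (Tab.hom f _ (t.pure s x 1)) p = (t'.sq s').coord (t'.pure s' (Tab.hom f h x) 1) p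
  rw [Tab.coord_hom, Tab.coord_pure, Tab.coord_pure, map_mul, Tab.coord_hom, Tab.coord_one, Tab.coord_one, ← h']
  rfl

theorem Tab.hom_inr {s : Tab κ T} {s' : Tab κ T'} (f : T →+* T') (h : t.map f = t') (h' : s.map f = s') (y : s.Alg) :
    Tab.hom f (Tab.map_sq_of_eq f h h') (t.inr s y) = t'.inr s' (Tab.hom f h' y) := by
  refine (t'.sq s').ext' fun p => ?_
  show (t'.sq s').coord (Tab.hom f _ (t.pure s 1 y)) p = (t'.sq s').coord (t'.pure s' 1 (Tab.hom f h' y)) p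
  rw [Tab.coord_hom, Tab.coord_pure, Tab.coord_pure, map_mul, Tab.coord_hom, Tab.coord_one, Tab.coord_one, ← h]
  rfl

theorem Tab.hom_eq_mapHom (f : T →+* T') (x : t.Alg) : Tab.hom (t' := t.map f) f rfl x = t.mapHom f x :=
  (t.map f).ext' fun i => by rw [Tab.coord_hom, Tab.coord_mapHom]

end hom

variable (ι : Type) [Fintype ι] [DecidableEq ι] {R₀ : Type u} [CommRing R₀] {A : Type u} [CommRing A]
  [Algebra R₀ A] {C₂ : Type u} [CommRing C₂] (a₂ b₂ : A →+* C₂)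

/-- a table with a point and a lift of its two pull backs to the comparison chart -/
structure Dat {T : Type u} [CommRing T] (σ : R₀ →+* T) where
  /-- the table -/
  t : Tab ι T
  /-- the point -/
  w : A →+* t.Alg
  w_comm : w.comp (algebraMap R₀ A) = (algebraMap T t.Alg).comp σ
  /-- the comparison -/
  g : C₂ →+* (t.sq t).Alg
  g_a : g.comp a₂ = (t.inl t).toRingHom.comp w
  g_b : g.comp b₂ = (t.inr t).toRingHom.comp w

variable {ι a₂ b₂}

/-- being the pull back along a map of rings -/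
structure IsPull {T T' : Type u} [CommRing T] [CommRing T'] {σ : R₀ →+* T} {σ' : R₀ →+* T'} (f : T →+* T')
    (d : Dat ι a₂ b₂ σ) (d' : Dat ι a₂ b₂ σ') : Prop where
  hσ : f.comp σ = σ'
  ht : d.t.map f = d'.t
  hw : d'.w = (Tab.hom f ht).comp d.w
  hg : d'.g = (Tab.hom f (Tab.map_sq_of_eq f ht ht)).comp d.g

theorem IsPull.trans {T T' T'' : Type u} [CommRing T] [CommRing T'] [CommRing T''] {σ : R₀ →+* T} {σ' : R₀ →+* T'}
    {σ'' : R₀ →+* T''} {f : T →+* T'} {g : T' →+* T''} {d : Dat ι a₂ b₂ σ} {d' : Dat ι a₂ b₂ σ'}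
    {d'' : Dat ι a₂ b₂ σ''} (h : IsPull f d d') (h' : IsPull g d' d'') : IsPull (g.comp f) d d'' where
  hσ := by rw [RingHom.comp_assoc, h.hσ, h'.hσ]
  ht := by rw [← h'.ht, ← h.ht, Tab.map_map]
  hw := RingHom.ext fun x => by
    rw [h'.hw, RingHom.comp_apply, h.hw, RingHom.comp_apply, Tab.hom_hom]; rfl
  hg := RingHom.ext fun x => by
    rw [h'.hg, RingHom.comp_apply, h.hg, RingHom.comp_apply, Tab.hom_hom]; rfl

/-- data pull back -/
theorem Dat.exists_pull {T T' : Type u} [CommRing T] [CommRing T'] {σ : R₀ →+* T} (d : Dat ι a₂ b₂ σ)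
    (f : T →+* T') : ∃ d' : Dat ι a₂ b₂ (f.comp σ), IsPull f d d' := by
  have hsq := Tab.map_sq_of_eq (t := d.t) (s := d.t) f rfl rfl
  refine ⟨⟨d.t.map f, (Tab.hom f rfl).comp d.w, ?_, (Tab.hom f hsq).comp d.g, ?_, ?_⟩, rfl, rfl, rfl, rfl⟩
  · refine RingHom.ext fun r => ?_
    show Tab.hom f rfl (d.w (algebraMap R₀ A r)) = _
    rw [show d.w (algebraMap R₀ A r) = algebraMap T d.t.Alg (σ r) from RingHom.congr_fun d.w_comm r,
      Tab.hom_algebraMap]
    rfl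
  · refine RingHom.ext fun x => ?_
    show Tab.hom f hsq (d.g (a₂ x)) = _
    rw [show d.g (a₂ x) = d.t.inl d.t (d.w x) from RingHom.congr_fun d.g_a x, Tab.hom_inl f rfl rfl]
    rfl
  · refine RingHom.ext fun x => ?_
    show Tab.hom f hsq (d.g (b₂ x)) = _
    rw [show d.g (b₂ x) = d.t.inr d.t (d.w x) from RingHom.congr_fun d.g_b x, Tab.hom_inr f rfl rfl]
    rfl

/-- the universal family of data -/
theorem exists_univ_dat :
    ∃ (W : Type u) (_ : CommRing W) (σW : R₀ →+* W) (d₀ : Dat ι a₂ b₂ σW),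
      ∀ (T : Type u) [CommRing T] (σ : R₀ →+* T) (d : Dat ι a₂ b₂ σ), ∃! f : W →+* T, IsPull f d₀ d := by
  obtain ⟨W₁, _, _, F₁, hF₁, -⟩ := exists_wres (univTab ι R₀) R₀ A ∅
  let t₁ := (univTab ι R₀).map (algebraMap (TabRing ι R₀) W₁)
  let σ₁ : R₀ →+* W₁ := (algebraMap (TabRing ι R₀) W₁).comp (algebraMap R₀ (TabRing ι R₀))
  letI : Algebra R₀ W₁ := σ₁.toAlgebra
  letI : Algebra R₀ C₂ := (a₂.comp (algebraMap R₀ A)).toAlgebra
  let S₂ : Set (C₂ × (t₁.sq t₁).Alg) :=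
    (Set.range fun c => (a₂ c, t₁.inl t₁ (F₁ c))) ∪ Set.range fun c => (b₂ c, t₁.inr t₁ (F₁ c))
  obtain ⟨W₂, _, _, F₂, hF₂, -⟩ := exists_wres (t₁.sq t₁) R₀ C₂ S₂
  let e := algebraMap W₁ W₂
  let t₂ := t₁.map e
  have h2 : ((t₁.sq t₁).map e).map (RingHom.id W₂) = t₂.sq t₂ := by rw [Tab.map_id]; exact Tab.map_sq _ _ e
  have hsq : (t₁.sq t₁).map e = t₂.sq t₂ := Tab.map_sq _ _ e
  have hid : ∀ x : (t₁.sq t₁).Alg, Tab.hom (RingHom.id W₂) h2 ((t₁.sq t₁).mapHom e x) = Tab.hom e hsq x :=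
    fun x => (t₂.sq t₂).ext' fun p => by rw [Tab.coord_hom, Tab.coord_mapHom, Tab.coord_hom]; rfl
  let d₀ : Dat ι a₂ b₂ (e.comp σ₁) :=
    { t := t₂
      w := (Tab.hom e rfl).comp F₁
      w_comm := RingHom.ext fun r => by
        show Tab.hom e rfl (F₁ (algebraMap R₀ A r)) = _
        rw [hF₁.1 r, Tab.hom_algebraMap]
        rfl
      g := (Tab.hom (RingHom.id W₂) h2).comp F₂
      g_a := RingHom.ext fun c => by
        show Tab.hom _ h2 (F₂ (a₂ c)) = _
        rw [hF₂.2.1 _ (Or.inl ⟨c, rfl⟩), hid, Tab.hom_inl e rfl rfl]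
        rfl
      g_b := RingHom.ext fun c => by
        show Tab.hom _ h2 (F₂ (b₂ c)) = _
        rw [hF₂.2.1 _ (Or.inr ⟨c, rfl⟩), hid, Tab.hom_inr e rfl rfl]
        rfl }
  refine ⟨W₂, inferInstance, e.comp σ₁, d₀, fun T _ σ d => ?_⟩
  letI : Algebra R₀ T := σ.toAlgebra
  obtain ⟨f₀, hf₀, hu₀⟩ := existsUnique_tab ι R₀ d.t
  obtain ⟨f₁, ⟨hf₁, hf₁'⟩, hu₁⟩ := hF₁.2.2 T f₀.toRingHom d.t hf₀ d.w
    (fun r => (RingHom.congr_fun d.w_comm r).trans (congrArg (algebraMap T d.t.Alg) (f₀.commutes r).symm))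
    (fun _ h => absurd h (Set.notMem_empty _))
  have hσ₁ : f₁.comp σ₁ = σ := by
    rw [← RingHom.comp_assoc, hf₁]; exact RingHom.ext f₀.commutes
  have ht₁ : t₁.map f₁ = d.t := by
    rw [show t₁.map f₁ = (univTab ι R₀).map (f₁.comp (algebraMap (TabRing ι R₀) W₁)) from rfl, hf₁]; exact hf₀
  have hw₁ : d.w = (Tab.hom f₁ ht₁).comp F₁ := RingHom.ext fun x => d.t.ext' fun i => by
    rw [RingHom.comp_apply, Tab.coord_hom]; exact (hf₁' x i).symm
  obtain ⟨f₂, ⟨hf₂, hf₂'⟩, hu₂⟩ := hF₂.2.2 T f₁ (d.t.sq d.t) (Tab.map_sq_of_eq f₁ ht₁ ht₁) d.g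
    (fun r => by
      show d.g (a₂ (algebraMap R₀ A r)) = algebraMap T _ (f₁ (σ₁ r))
      rw [show d.g (a₂ (algebraMap R₀ A r)) = d.t.inl d.t (d.w (algebraMap R₀ A r)) from RingHom.congr_fun d.g_a _,
        show d.w (algebraMap R₀ A r) = algebraMap T d.t.Alg (σ r) from RingHom.congr_fun d.w_comm r, AlgHom.commutes,
        show f₁ (σ₁ r) = σ r from RingHom.congr_fun hσ₁ r])
    (by
      rintro _ (⟨c, rfl⟩ | ⟨c, rfl⟩)
      · rw [Tab.hom_inl f₁ ht₁ ht₁, show d.g (a₂ c) = d.t.inl d.t (d.w c) from RingHom.congr_fun d.g_a c, hw₁]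
        rfl
      · rw [Tab.hom_inr f₁ ht₁ ht₁, show d.g (b₂ c) = d.t.inr d.t (d.w c) from RingHom.congr_fun d.g_b c, hw₁]
        rfl)
  refine ⟨f₂, ⟨?_, ?_, ?_, ?_⟩, fun f h => ?_⟩
  · rw [← RingHom.comp_assoc, hf₂, hσ₁]
  · show (t₁.map e).map f₂ = d.t
    rw [Tab.map_map, hf₂, ht₁]
  · refine RingHom.ext fun x => d.t.ext' fun i => ?_
    rw [RingHom.comp_apply, hw₁, RingHom.comp_apply, Tab.coord_hom, Tab.coord_hom]
    show _ = f₂ (t₂.coord (Tab.hom e rfl (F₁ x)) i)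
    rw [Tab.coord_hom, show f₂ (e _) = f₁ _ from RingHom.congr_fun hf₂ _]
  · refine RingHom.ext fun x => (d.t.sq d.t).ext' fun i => ?_
    rw [RingHom.comp_apply, Tab.coord_hom]
    show _ = f₂ ((t₂.sq t₂).coord (Tab.hom _ h2 (F₂ x)) i)
    rw [Tab.coord_hom]
    exact (hf₂' x i).symm
  · obtain ⟨hσ, ht, hw, hg⟩ := h
    have e₀ : (f.comp e).comp (algebraMap (TabRing ι R₀) W₁) = f₀.toRingHom := by
      have := hu₀ ({ (f.comp e).comp (algebraMap (TabRing ι R₀) W₁) with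
        commutes' := fun r => RingHom.congr_fun hσ r } : TabRing ι R₀ →ₐ[R₀] T) ht
      exact congrArg AlgHom.toRingHom this
    have e₁ : f.comp e = f₁ := hu₁ _ ⟨e₀, fun x i => by
      rw [hw]
      show f (e (t₁.coord (F₁ x) i)) = d.t.coord (Tab.hom f ht (Tab.hom e (rfl : t₁.map e = t₂) (F₁ x))) i
      exact ((Tab.coord_hom f ht _ i).trans (congrArg f (Tab.coord_hom e (rfl : t₁.map e = t₂) _ i))).symm⟩
    refine hu₂ f ⟨e₁, fun x i => ?_⟩
    rw [hg]
    show _ = (d.t.sq d.t).coord (Tab.hom f (Tab.map_sq_of_eq f ht ht) (Tab.hom _ h2 (F₂ x))) i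
    rw [Tab.coord_hom]
    exact congrArg f (Tab.coord_hom (RingHom.id W₂) h2 (F₂ x) i).symm

end Groth.Agent.ArtinAtlas

end
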