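import Groth.Agent.ArtinAtlas.Slice

/-!
# Descended isomorphisms between the moduli chart and the given chart
-/

set_option autoImplicit false
set_option backward.isDefEq.respectTransparency false
set_option backward.isDefEq.respectTransparency.types false
set_option linter.style.haveILetI false
universe v₂ u₂ u

noncomputable section

namespace Groth.Agent.ArtinAtlas

open CategoryTheory CategoryTheory.Limits AlgebraicGeometry CommRingCat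
open _root_.AlgSp _root_.AlgSt

theorem exists_unit_num {R L k : Type u} [CommRing R] [CommRing L] [Field k] [Algebra R L] (f : R)
    [IsLocalization.Away f L] (h : R →+* k) (hL : L →+* k) (hh : hL.comp (algebraMap R L) = h) (y : L)
    (hy : hL y ≠ 0) : ∃ a : R, h a ≠ 0 ∧ ∀ {Z : Type u} [CommRing Z] (g : L →+* Z),
      IsUnit (g (algebraMap R L a)) → IsUnit (g y) := by
  obtain ⟨⟨a, s⟩, hs⟩ := IsLocalization.surj (Submonoid.powers f) y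
  refine ⟨a, ?_, ?_⟩
  · rw [← RingHom.congr_fun hh a, RingHom.comp_apply, ← hs, map_mul]
    exact mul_ne_zero hy (((IsLocalization.map_units L s).map hL).ne_zero)
  · intro Z _ g hu
    rw [← hs, map_mul] at hu
    exact isUnit_of_mul_isUnit_left hu

variable {S : Scheme.{u}} {𝒳 : BasedCategory.{v₂, u₂} (Over S)} {R₀ A : Type u} [CommRing R₀] [CommRing A]
  [Algebra R₀ A] {j : Spec (CommRingCat.of R₀) ⟶ S} {x₁ : FibCat.overCat (ovR j (algebraMap R₀ A)) ⥤ᵇ 𝒳}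
  {hX : FibCat.IsFibGrpd 𝒳.p} {k : Type u} [Field k] {str₀ : A →+* k} {G : Germ x₁ hX str₀} (Mo : Moduli G)
  {Z Z' : Type u} [CommRing Z] [CommRing Z'] {σZ : R₀ →+* Z} {σZ' : R₀ →+* Z'}

/-- an isomorphism of the moduli chart with the given chart descending the frame -/
def Moduli.IsDesc {f : Mo.W →+* Z} (hσ : f.comp Mo.σ = σZ) {t : Tab (Fin G.n) Z} (ht : Mo.d.t.map f = t)
    (p : Fr A G.P σZ t) (ψ : Hom2 Mo.c x₁ (ovMap (j := j) f hσ) p.sbar) : Prop :=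
  ∀ (φB : Hom2 Mo.c x₁ (qT j σZ t ≫ ovMap f hσ) (p.wbar G.hab))
    (χ : Hom2 Mo.c x₁ (qT j σZ t ≫ ovMap f hσ) (qT j σZ t ≫ p.sbar)),
    Hom2.Res (spMap f hσ ht) Mo.φc φB → Hom2.Res (qT j σZ t) ψ χ → χ.comp (p.θ hX G.θP) = φB

variable {Mo}

/-- the restriction of the chart isomorphism to a frame -/
theorem Moduli.exists_φB {f : Mo.W →+* Z} {d' : Dat (Fin G.n) G.a₂ G.b₂ σZ} (hd : IsPull f Mo.d d')
    {p : Fr A G.P σZ d'.t} (hw : d'.w = p.φ.comp G.bP) :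
    ∃ φB : Hom2 Mo.c x₁ (qT j σZ d'.t ≫ ovMap f hd.hσ) (p.wbar G.hab), Hom2.Res (spMap f hd.hσ hd.ht) Mo.φc φB :=
  (Hom2.exists_res hX Mo.φc (spMap f hd.hσ hd.ht) _ _ (qT_ovMap hd.hσ hd.ht).symm
    (by rw [hd.spMap_wbar, Fr.wbar_eq hw])).exists

/-- restrictions of the chart isomorphism are compatible with the comparison of a datum -/
theorem Moduli.compat_pull {f : Mo.W →+* Z} {d' : Dat (Fin G.n) G.a₂ G.b₂ σZ} (hd : IsPull f Mo.d d')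
    {p : Fr A G.P σZ d'.t} (hw : d'.w = p.φ.comp G.bP)
    {φB : Hom2 Mo.c x₁ (qT j σZ d'.t ≫ ovMap f hd.hσ) (p.wbar G.hab)}
    (hφ : Hom2.Res (spMap f hd.hσ hd.ht) Mo.φc φB)
    (ζ : Hom2 x₁ x₁ (prL j σZ d'.t d'.t ≫ p.wbar G.hab) (prR j σZ d'.t d'.t ≫ p.wbar G.hab))
    (hζ : Hom2.Res (d'.gbar j) G.θ₂ ζ)
    {a : spT j σZ (d'.t.sq d'.t) ⟶ ovR j Mo.σ} (φ₁ : Hom2 Mo.c x₁ a (prL j σZ d'.t d'.t ≫ p.wbar G.hab))
    (φ₂ : Hom2 Mo.c x₁ a (prR j σZ d'.t d'.t ≫ p.wbar G.hab)) (r₁ : Hom2.Res (prL j σZ d'.t d'.t) φB φ₁)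
    (r₂ : Hom2.Res (prR j σZ d'.t d'.t) φB φ₂) : φ₁.comp ζ = φ₂ := by
  have e₁ := hφ.trans r₁
  have e₂ := hφ.trans r₂
  rw [← spMap_prL f hd.hσ hd.ht hd.ht] at e₁
  rw [← spMap_prR f hd.hσ hd.ht hd.ht] at e₂
  let m := spMap (j := j) f hd.hσ (Tab.map_sq_of_eq f hd.ht hd.ht)
  let a₀ := prL j Mo.σ Mo.d.t Mo.d.t ≫ qT j Mo.σ Mo.d.t
  obtain ⟨ψ₁, h₁, -⟩ := Hom2.exists_res hX Mo.φc (prL j Mo.σ Mo.d.t Mo.d.t) a₀
    (prL j Mo.σ Mo.d.t Mo.d.t ≫ Mo.d.wbar j) rfl rfl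
  obtain ⟨ψ₂, h₂, -⟩ := Hom2.exists_res hX Mo.φc (prR j Mo.σ Mo.d.t Mo.d.t) a₀
    (prR j Mo.σ Mo.d.t Mo.d.t ≫ Mo.d.wbar j) (isPullback_prT Mo.d.t Mo.d.t).w.symm rfl
  have hc := Mo.compat ψ₁ ψ₂ h₁ h₂
  have ea : m ≫ a₀ = a := (Category.assoc _ _ _).symm.trans e₁.1
  have el : m ≫ prL j Mo.σ Mo.d.t Mo.d.t ≫ Mo.d.wbar j = prL j σZ d'.t d'.t ≫ p.wbar G.hab :=
    (Category.assoc _ _ _).symm.trans e₁.2.1
  have er : m ≫ prR j Mo.σ Mo.d.t Mo.d.t ≫ Mo.d.wbar j = prR j σZ d'.t d'.t ≫ p.wbar G.hab :=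
    (Category.assoc _ _ _).symm.trans e₂.2.1
  obtain ⟨χ₁, g₁, -⟩ := Hom2.exists_res hX ψ₁ m a _ ea el
  obtain ⟨χ₂, g₂, -⟩ := Hom2.exists_res hX ψ₂ m a _ ea er
  obtain ⟨χ, g, -⟩ := Hom2.exists_res hX (Mo.d.η hX G.θ₂) m _ _ el er
  obtain rfl := (h₁.trans g₁).unique hX e₁
  obtain rfl := (h₂.trans g₂).unique hX e₂
  have e := (Mo.d.η_spec hX G.θ₂).trans g
  rw [hd.spMap_gbar] at e
  obtain rfl := e.unique hX hζ
  exact (Hom2.res_comp g₁ g).unique hX (hc.symm ▸ g₂)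

/-- descended isomorphisms exist uniquely for frames lifting data -/
theorem Moduli.existsUnique_isDesc (hS : Stk.IsStack (QuotSh.J Scheme.fppfPrecoverage S) 𝒳) {f : Mo.W →+* Z}
    {d' : Dat (Fin G.n) G.a₂ G.b₂ σZ} (hd : IsPull f Mo.d d') {p : Fr A G.P σZ d'.t}
    (hl : Fr.Lifts hX G.θP G.θ₂ d' p) :
    ∃! ψ : Hom2 Mo.c x₁ (ovMap (j := j) f hd.hσ) p.sbar, Mo.IsDesc hd.hσ hd.ht p ψ := by
  haveI : Nonempty (Fin G.n) := ⟨⟨0, G.hn⟩⟩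
  obtain ⟨φB, hφ⟩ := Moduli.exists_φB hd hl.hw
  have hζ : Hom2.Res (d'.gbar j) G.θ₂ (p.η hX G.θP) := by
    obtain ⟨a, b, χ, r₁, r₂⟩ := hl.same
    obtain rfl := (Category.id_comp _).symm.trans r₂.1
    obtain rfl := (Category.id_comp _).symm.trans r₂.2.1
    obtain rfl := r₂.unique hX (Hom2.res_id _)
    exact r₁
  obtain ⟨ψ, hψ, hu⟩ := p.exists_desc hX G.θP hS φB fun φ₁ φ₂ r₁ r₂ =>
    Moduli.compat_pull hd hl.hw hφ _ hζ φ₁ φ₂ r₁ r₂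
  refine ⟨ψ, fun φB' χ h₁ h₂ => (hψ χ h₂).trans (hφ.unique hX h₁), fun ψ' h' => hu ψ' fun χ hχ => h' φB χ hφ hχ⟩

/-- descended isomorphisms restrict -/
theorem Moduli.IsDesc.pull {f : Mo.W →+* Z} {d : Dat (Fin G.n) G.a₂ G.b₂ σZ} {hd : IsPull f Mo.d d}
    {p : Fr A G.P σZ d.t} (hw : d.w = p.φ.comp G.bP) {ψ : Hom2 Mo.c x₁ (ovMap (j := j) f hd.hσ) p.sbar}
    (h : Mo.IsDesc hd.hσ hd.ht p ψ) {g : Z →+* Z'} {t' : Tab (Fin G.n) Z'} {p' : Fr A G.P σZ' t'}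
    (hp : IsPullFr g p p') {f' : Mo.W →+* Z'} (hf : g.comp f = f') (hσ' : f'.comp Mo.σ = σZ')
    (ht' : Mo.d.t.map f' = t') {ψ' : Hom2 Mo.c x₁ (ovMap (j := j) f' hσ') p'.sbar}
    (hψ : Hom2.Res (ovMap g hp.hσ) ψ ψ') : Mo.IsDesc hσ' ht' p' ψ' := by
  intro φB' χ' hφ' hχ'
  subst hf
  obtain ⟨φB, hφ⟩ := Moduli.exists_φB hd hw
  obtain ⟨φ'', hφ'', -⟩ := Hom2.exists_res hX φB (spMap g hp.hσ hp.ht) (qT j σZ' t' ≫ ovMap (g.comp f) hσ')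
    (p'.wbar G.hab)
    (by rw [← Category.assoc, ← qT_ovMap hp.hσ hp.ht, Category.assoc, ovMap_comp]) (hp.spMap_wbar hX)
  have e := hφ.trans hφ''
  rw [spMap_comp] at e
  obtain rfl := e.unique hX hφ'
  exact Fr.desc_pull hX G.θP hp hφ'' hψ (fun χ hχ => h φB χ hφ hχ) χ' hχ'

/-- a frame with a descended isomorphism lifts the datum -/
theorem Moduli.IsDesc.lifts {f : Mo.W →+* Z} {d : Dat (Fin G.n) G.a₂ G.b₂ σZ} {hd : IsPull f Mo.d d}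
    {p : Fr A G.P σZ d.t} (hw : d.w = p.φ.comp G.bP) {ψ : Hom2 Mo.c x₁ (ovMap (j := j) f hd.hσ) p.sbar}
    (h : Mo.IsDesc hd.hσ hd.ht p ψ) : Fr.Lifts hX G.θP G.θ₂ d p := by
  obtain ⟨φB, hφ⟩ := Moduli.exists_φB hd hw
  obtain ⟨χ, hχ, -⟩ := Hom2.exists_res hX ψ (qT j σZ d.t) (qT j σZ d.t ≫ ovMap f hd.hσ) (qT j σZ d.t ≫ p.sbar) rfl rfl
  obtain ⟨ζ, hζ, -⟩ := Hom2.exists_res hX G.θ₂ (d.gbar j) (prL j σZ d.t d.t ≫ p.wbar G.hab)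
    (prR j σZ d.t d.t ≫ p.wbar G.hab) (by rw [d.gbar_cA, Fr.wbar_eq hw]) (by rw [d.gbar_cB G.hab₂, Fr.wbar_eq hw])
  obtain ⟨φ₁, r₁, -⟩ := Hom2.exists_res hX φB (prL j σZ d.t d.t) (prL j σZ d.t d.t ≫ qT j σZ d.t ≫ ovMap f hd.hσ)
    (prL j σZ d.t d.t ≫ p.wbar G.hab) rfl rfl
  obtain ⟨φ₂, r₂, -⟩ := Hom2.exists_res hX φB (prR j σZ d.t d.t) (prL j σZ d.t d.t ≫ qT j σZ d.t ≫ ovMap f hd.hσ)
    (prR j σZ d.t d.t ≫ p.wbar G.hab)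
    (by rw [← Category.assoc, ← Category.assoc, (isPullback_prT d.t d.t).w]) rfl
  have e := (p.compat hX G.θP φB ψ χ hχ (h φB χ hφ hχ) φ₁ φ₂ r₁ r₂).trans
    (Moduli.compat_pull hd hw hφ ζ hζ φ₁ φ₂ r₁ r₂).symm
  have e' : p.η hX G.θP = ζ := by
    calc p.η hX G.θP = ((φ₁.inv hX).comp φ₁).comp (p.η hX G.θP) := by rw [Hom2.inv_comp, Hom2.refl_comp]
      _ = ((φ₁.inv hX).comp φ₁).comp ζ := by rw [Hom2.comp_assoc, Hom2.comp_assoc, e]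
      _ = ζ := by rw [Hom2.inv_comp, Hom2.refl_comp]
  exact ⟨hw, _, _, ζ, hζ, e' ▸ Hom2.res_id _⟩

/-- frames with a given descended isomorphism are the lifts of one isomorphism -/
theorem Moduli.isDesc_iff {qA : Mo.W →+* Z} {d : Dat (Fin G.n) G.a₂ G.b₂ σZ} (hd : IsPull qA Mo.d d)
    {qB : A →+* Z} (hB : qB.comp (algebraMap R₀ A) = σZ)
    {θQ : Hom2 Mo.c x₁ (ovMap (j := j) qA hd.hσ) (ovMap (j := j) qB hB)} :
    ∃ θn : Hom2 x₁ x₁ (qT j σZ d.t ≫ ovMap (j := j) qB hB) (d.wbar j),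
      ∀ {Z' : Type u} [CommRing Z'] {σ' : R₀ →+* Z'} {g : Z →+* Z'} {t' : Tab (Fin G.n) Z'}
        (hσ : g.comp σZ = σ') (ht : d.t.map g = t') {p' : Fr A G.P σ' t'} (hσ' : (g.comp qA).comp Mo.σ = σ')
        (ht' : Mo.d.t.map (g.comp qA) = t') {ψ' : Hom2 Mo.c x₁ (ovMap (j := j) (g.comp qA) hσ') p'.sbar},
        Hom2.Res (ovMap g hσ) θQ ψ' → spMap (j := j) g hσ ht ≫ d.wbar j = p'.wbar G.hab →
        (Mo.IsDesc hσ' ht' p' ψ' ↔ SameRes x₁ x₁ p'.φbar (spMap g hσ ht) G.θP θn) := by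
  obtain ⟨φB, hφ, -⟩ := Hom2.exists_res hX Mo.φc (spMap qA hd.hσ hd.ht) (qT j σZ d.t ≫ ovMap qA hd.hσ) (d.wbar j)
    (qT_ovMap hd.hσ hd.ht).symm hd.spMap_wbar
  obtain ⟨χ, hχ, -⟩ := Hom2.exists_res hX θQ (qT j σZ d.t) (qT j σZ d.t ≫ ovMap qA hd.hσ)
    (qT j σZ d.t ≫ ovMap qB hB) rfl rfl
  refine ⟨(χ.inv hX).comp φB, ?_⟩
  intro Z' _ σ' g t' hσ ht p' hσ' ht' ψ' hψ hw
  have es : ovMap g hσ ≫ ovMap qB hB = p'.sbar := hψ.2.1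
  obtain ⟨χ', hχ', -⟩ := Hom2.exists_res hX ψ' (qT j σ' t') (qT j σ' t' ≫ ovMap (g.comp qA) hσ')
    (qT j σ' t' ≫ p'.sbar) rfl rfl
  have ea : spMap g hσ ht ≫ qT j σZ d.t ≫ ovMap qA hd.hσ = qT j σ' t' ≫ ovMap (g.comp qA) hσ' := by
    rw [← Category.assoc, ← qT_ovMap hσ ht, Category.assoc, ovMap_comp]
  have eb : spMap g hσ ht ≫ qT j σZ d.t ≫ ovMap qB hB = qT j σ' t' ≫ p'.sbar := by
    rw [← Category.assoc, ← qT_ovMap hσ ht, Category.assoc, es]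
  obtain ⟨χ'', hc, -⟩ := Hom2.exists_res hX χ (spMap g hσ ht) _ _ ea eb
  have e := hχ.trans hc
  rw [← qT_ovMap hσ ht] at e
  obtain rfl := e.unique hX (hψ.trans hχ')
  obtain ⟨φB', hφ', -⟩ := Hom2.exists_res hX φB (spMap g hσ ht) _ _ ea hw
  have hφ'' := hφ.trans hφ'
  rw [spMap_comp] at hφ''
  have r := Hom2.res_comp (Hom2.res_inv hX hc) hφ'
  constructor
  · intro h
    refine ⟨_, _, p'.θ hX G.θP, p'.θ_spec hX G.θP, ?_⟩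
    rwa [← h φB' χ'' hφ'' hχ', ← Hom2.comp_assoc, Hom2.inv_comp, Hom2.refl_comp] at r
  · rintro ⟨a, b, χ₀, r₁, r₂⟩ φB₀ χ₀' h₁ h₂
    obtain rfl := h₁.unique hX hφ''
    obtain rfl := h₂.unique hX hχ'
    obtain rfl := r₂.1.symm.trans r.1
    obtain rfl := r₂.2.1.symm.trans r.2.1
    obtain rfl := r₂.unique hX r
    rw [(p'.θ_spec hX G.θP).unique hX r₁, ← Hom2.comp_assoc, Hom2.comp_inv, Hom2.refl_comp]

end Groth.Agent.ArtinAtlas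

end
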