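import Groth.Agent.ArtinAtlas.Dat

/-!
# Weil restriction of etale algebras along tables
-/

set_option autoImplicit false
set_option linter.style.haveILetI false

universe u

noncomputable section

namespace Groth.Agent.ArtinAtlas

variable {ι : Type} [Fintype ι] [DecidableEq ι] {U : Type u} [CommRing U] (t : Tab ι U)

theorem Tab.ker_hom_pow {U' : Type u} [CommRing U'] {t' : Tab ι U'} (f : U →+* U') (h : t.map f = t')
    (hf : RingHom.ker f ^ 2 = ⊥) : RingHom.ker (Tab.hom f h) ^ 2 = ⊥ := by
  rw [pow_two, ← le_bot_iff, Ideal.mul_le]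
  intro x hx y hy
  have hc : ∀ {z : t.Alg}, z ∈ RingHom.ker (Tab.hom f h) → ∀ i, t.coord z i ∈ RingHom.ker f := fun {z} hz i => by
    rw [RingHom.mem_ker, ← Tab.coord_hom f h, show Tab.hom f h z = 0 from hz, map_zero, Pi.zero_apply]
  refine Submodule.mem_bot _ |>.2 (t.ext' fun k => ?_)
  rw [Tab.coord_mul, map_zero, Pi.zero_apply]
  refine Finset.sum_eq_zero fun i _ => Finset.sum_eq_zero fun j _ => ?_
  have : t.coord x i * t.coord y j ∈ RingHom.ker f ^ 2 := by
    rw [pow_two]; exact Ideal.mul_mem_mul (hc hx i) (hc hy j)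
  rw [hf, Ideal.mem_bot] at this
  rw [this, zero_mul]

theorem Tab.hom_surjective {U' : Type u} [CommRing U'] {t' : Tab ι U'} (f : U →+* U') (h : t.map f = t')
    (hf : Function.Surjective f) : Function.Surjective (Tab.hom f h) := fun z => by
  choose v hv using fun i => hf (t'.coord z i)
  exact ⟨t.coord.symm v, t'.ext' fun i => by rw [Tab.coord_hom, LinearEquiv.apply_symm_apply, hv]⟩

theorem Tab.comp_eq_of_basis {C U' : Type u} [CommRing C] [CommRing U'] {t' : Tab ι U'} (h : U →+* U')
    (ht : t.map h = t') (f : t.Alg →+* C) (ψ : C →+* t'.Alg)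
    (h₁ : ∀ r, ψ (f (algebraMap U t.Alg r)) = algebraMap U' _ (h r))
    (h₂ : ∀ i, ψ (f (t.basis i)) = Tab.hom h ht (t.basis i)) : ψ.comp f = Tab.hom h ht := by
  refine RingHom.ext fun z => ?_
  rw [← t.sum_coord z, map_sum, map_sum]
  refine Finset.sum_congr rfl fun i _ => ?_
  rw [Algebra.smul_def, map_mul, map_mul, RingHom.comp_apply, RingHom.comp_apply, h₁, h₂, Tab.hom_algebraMap]

/-- the Weil restriction of an etale algebra along a table is etale -/
theorem exists_wres_etale {C : Type u} [CommRing C] (f : t.Alg →+* C) (hf : f.Etale) :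
    ∃ (U' : Type u) (_ : CommRing U') (_ : Algebra U U') (k : C →+* (t.map (algebraMap U U')).Alg),
      Algebra.Etale U U' ∧ k.comp f = t.mapHom (algebraMap U U') ∧
      ∀ (Z : Type u) [CommRing Z] (g : U →+* Z) (tZ : Tab ι Z) (hg : t.map g = tZ) (kz : C →+* tZ.Alg),
        kz.comp f = Tab.hom g hg → ∃! g' : U' →+* Z, g'.comp (algebraMap U U') = g ∧
          ∀ c i, g' ((t.map (algebraMap U U')).coord (k c) i) = tZ.coord (kz c) i := by
  classical
  letI : Algebra t.Alg C := f.toAlgebra
  haveI : Algebra.Etale t.Alg C := hf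
  letI : Algebra U C := (f.comp (algebraMap U t.Alg)).toAlgebra
  haveI : IsScalarTower U t.Alg C := IsScalarTower.of_algebraMap_eq fun _ => rfl
  haveI : Module.FinitePresentation U t.Alg := Module.finitePresentation_of_projective U t.Alg
  haveI : Algebra.FinitePresentation U C := Algebra.FinitePresentation.trans U t.Alg C
  obtain ⟨U', _, _, F, hF, hfp⟩ := exists_wres t U C (Set.range fun i => (f (t.basis i), t.basis i))
  have hFf : F.comp f = t.mapHom (algebraMap U U') := by
    rw [t.comp_eq_of_basis (algebraMap U U') rfl f F hF.1 fun i =>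
      (hF.2.1 _ ⟨i, rfl⟩).trans (Tab.hom_eq_mapHom _ _).symm]
    exact RingHom.ext fun x => Tab.hom_eq_mapHom _ x
  have huniv : ∀ (Z : Type u) [CommRing Z] (g : U →+* Z) (tZ : Tab ι Z) (hg : t.map g = tZ) (kz : C →+* tZ.Alg),
      kz.comp f = Tab.hom g hg → ∃! g' : U' →+* Z, g'.comp (algebraMap U U') = g ∧
        ∀ c i, g' ((t.map (algebraMap U U')).coord (F c) i) = tZ.coord (kz c) i := by
    intro Z _ g tZ hg kz hkz
    refine hF.2.2 Z g tZ hg kz (fun r => ?_) ?_
    · exact (RingHom.congr_fun hkz _).trans (Tab.hom_algebraMap g hg r)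
    · rintro _ ⟨i, rfl⟩
      exact RingHom.congr_fun hkz _
  haveI : Algebra.FinitePresentation U U' := hfp inferInstance (Set.finite_range _)
  haveI : Algebra.FormallyEtale U U' := by
    rw [Algebra.FormallyEtale.iff_comp_bijective]
    intro B _ _ I hI
    let q := Ideal.Quotient.mk I
    let tB := t.map (algebraMap U B)
    let tq := t.map (algebraMap U (B ⧸ I))
    have hq : tB.map q = tq := rfl
    let π : tB.Alg →+* tq.Alg := Tab.hom q hq
    have hπ2 : RingHom.ker π ^ 2 = ⊥ := tB.ker_hom_pow q hq (by rw [Ideal.mk_ker, hI])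
    have hπs : Function.Surjective π := tB.hom_surjective q hq Ideal.Quotient.mk_surjective
    letI : Algebra t.Alg tB.Alg := (t.mapHom (algebraMap U B)).toAlgebra
    letI : Algebra t.Alg tq.Alg := (t.mapHom (algebraMap U (B ⧸ I))).toAlgebra
    let πA : tB.Alg →ₐ[t.Alg] tq.Alg := { π with
      commutes' := fun z => tq.ext' fun i => by
        show tq.coord (Tab.hom q hq (t.mapHom (algebraMap U B) z)) i = tq.coord (t.mapHom _ z) i
        rw [Tab.coord_hom, Tab.coord_mapHom, Tab.coord_mapHom]
        rfl }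
    have hker : IsNilpotent (RingHom.ker (πA : tB.Alg →+* tq.Alg)) := ⟨2, hπ2⟩
    -- the point of an algebra map
    have mk : ∀ (Z : Type u) [CommRing Z] [Algebra U Z] (g : U' →ₐ[U] Z),
        ∃ kz : C →+* (t.map (algebraMap U Z)).Alg, kz.comp f = t.mapHom (algebraMap U Z) ∧
          ∀ c i, g ((t.map (algebraMap U U')).coord (F c) i) = (t.map (algebraMap U Z)).coord (kz c) i := by
      intro Z _ _ g
      have hgc : (t.map (algebraMap U U')).map g.toRingHom = t.map (algebraMap U Z) := by
        rw [Tab.map_map]; exact congrArg t.map (RingHom.ext g.commutes)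
      refine ⟨(Tab.hom g.toRingHom hgc).comp F, RingHom.ext fun z => (t.map (algebraMap U Z)).ext' fun i => ?_,
        fun c i => (Tab.coord_hom g.toRingHom hgc (F c) i).symm⟩
      rw [RingHom.comp_apply, RingHom.comp_apply, Tab.coord_hom,
        show F (f z) = t.mapHom (algebraMap U U') z from RingHom.congr_fun hFf z, Tab.coord_mapHom, Tab.coord_mapHom]
      exact g.commutes _
    have hext : ∀ (Z : Type u) [CommRing Z] [Algebra U Z] (g g' : U' →ₐ[U] Z),
        (∀ c i, g ((t.map (algebraMap U U')).coord (F c) i) = g' ((t.map (algebraMap U U')).coord (F c) i)) →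
          g = g' := by
      intro Z _ _ g g' e
      obtain ⟨kz, hkz, hg⟩ := mk Z g
      have hkz' : kz.comp f = Tab.hom (algebraMap U Z) (rfl : t.map (algebraMap U Z) = _) :=
        hkz.trans (RingHom.ext fun x => (Tab.hom_eq_mapHom _ x).symm)
      exact AlgHom.coe_ringHom_injective ((huniv Z _ _ rfl kz hkz').unique
        (y₁ := g.toRingHom) (y₂ := g'.toRingHom) ⟨RingHom.ext g.commutes, hg⟩
        ⟨RingHom.ext g'.commutes, fun c i => (e c i).symm.trans (hg c i)⟩)
    refine ⟨fun g g' e => hext B g g' fun c i => ?_, fun g => ?_⟩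
    · obtain ⟨kz, hkz, hg⟩ := mk B g
      obtain ⟨kz', hkz', hg'⟩ := mk B g'
      let κ : C →ₐ[t.Alg] tB.Alg := { kz with commutes' := RingHom.congr_fun hkz }
      let κ' : C →ₐ[t.Alg] tB.Alg := { kz' with commutes' := RingHom.congr_fun hkz' }
      have : κ = κ' := Algebra.FormallyUnramified.lift_unique' πA hker κ κ' (AlgHom.ext fun c => tq.ext' fun i => by
        show tq.coord (Tab.hom q hq (kz c)) i = tq.coord (Tab.hom q hq (kz' c)) i
        rw [Tab.coord_hom, Tab.coord_hom, ← hg, ← hg']
        exact AlgHom.congr_fun e _)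
      rw [hg, hg']
      exact congrArg (fun z => tB.coord z i) (AlgHom.congr_fun this c)
    · obtain ⟨kz, hkz, hg⟩ := mk (B ⧸ I) g
      let κ : C →ₐ[t.Alg] tq.Alg := { kz with commutes' := RingHom.congr_fun hkz }
      let κ' : C →ₐ[t.Alg] tB.Alg := Algebra.FormallySmooth.liftOfSurjective κ πA hπs hker
      have hκ' : κ'.toRingHom.comp f = Tab.hom (algebraMap U B) (rfl : t.map (algebraMap U B) = tB) :=
        RingHom.ext fun z => (κ'.commutes z).trans (Tab.hom_eq_mapHom _ z).symm
      obtain ⟨g', ⟨h₁, h₂⟩, -⟩ := huniv B (algebraMap U B) tB rfl κ'.toRingHom hκ'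
      let gA : U' →ₐ[U] B := { g' with commutes' := RingHom.congr_fun h₁ }
      refine ⟨gA, hext (B ⧸ I) _ _ fun c i => ?_⟩
      show q (g' _) = _
      rw [hg, h₂, ← Tab.coord_hom q hq]
      exact congrArg (fun z => tq.coord z i) (Algebra.FormallySmooth.liftOfSurjective_apply κ πA hπs hker c)
  exact ⟨U', inferInstance, inferInstance, F, ⟨inferInstance, inferInstance⟩, hFf, huniv⟩

end Groth.Agent.ArtinAtlas

end
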