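import Groth.Agent.ArtinAtlas.OPiece

/-!
# The piece of lifts is etale over the chart of isomorphisms near its point
-/

set_option autoImplicit false
set_option backward.isDefEq.respectTransparency false
set_option backward.isDefEq.respectTransparency.types false
set_option linter.style.haveILetI false
universe v₂ u₂ u

noncomputable section

namespace Groth.Agent.ArtinAtlas

open CategoryTheory CategoryTheory.Limits AlgebraicGeometry CommRingCat
open _root_.AlgSp _root_.AlgSt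

variable {S : Scheme.{u}} {𝒳 : BasedCategory.{v₂, u₂} (Over S)} {R₀ A : Type u} [CommRing R₀] [CommRing A]
  [Algebra R₀ A] {j : Spec (CommRingCat.of R₀) ⟶ S} [Mono j] {x₁ : FibCat.overCat (ovR j (algebraMap R₀ A)) ⥤ᵇ 𝒳}
  {hX : FibCat.IsFibGrpd 𝒳.p} {k : Type u} [Field k] {str₀ : A →+* k} {G : Germ x₁ hX str₀} {Mo : Moduli G}
  {Sl : Slice Mo}

/-- near its point the piece is etale over the chart -/
theorem exists_etale_piece (hS : Stk.IsStack (QuotSh.J Scheme.fppfPrecoverage S) 𝒳) {q : QPt Sl} (P : Piece q) :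
    ∃ b : P.B, P.hB b ≠ 0 ∧ ((algebraMap P.B (Localization.Away b)).comp P.lB).Etale := by
  classical
  obtain ⟨O⟩ := exists_oPiece q
  -- the frame of the piece
  obtain ⟨dB, hdB⟩ := Sl.d.exists_pull P.eB
  obtain ⟨pB, hpB⟩ := Sl.p.exists_pull P.eB hdB.hσ hdB.ht
  have eA : P.lB.comp q.qA = P.eB.comp Sl.fW := by
    have e := P.same.endpoints.1
    rw [ovMap_comp, ovMap_comp] at e
    exact ovMap_injective e
  have hdB' : IsPull (P.lB.comp q.qA) Mo.d dB := by rw [eA]; exact Sl.hd.trans hdB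
  have hkB : IsPull P.hB dB G.d := hdB.of_comp (by rw [P.hBe]; exact Sl.hdk)
  have hkB' : IsPullFr P.hB pB G.p := hpB.of_comp (by rw [P.hBe]; exact Sl.hpk)
  obtain ⟨ψB, hψB, hDB⟩ : ∃ ψB : Hom2 Mo.c x₁ (ovMap (j := j) (P.lB.comp q.qA) hdB'.hσ) pB.sbar,
      Hom2.Res (ovMap (j := j) P.lB P.hσ) q.θQ ψB ∧ Mo.IsDesc hdB'.hσ hdB'.ht pB ψB := by
    obtain ⟨a, b, χ, r₁, r₂⟩ := P.same
    obtain rfl : ovMap (P.lB.comp q.qA) hdB'.hσ = a :=
      (ovMap_comp _ _ _ _).symm.trans r₁.1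
    obtain rfl : pB.sbar = b := (hpB.ovMap_sbar (j := j) hX).symm.trans r₂.2.1
    exact ⟨χ, r₁, Moduli.IsDesc.pull (hd := Sl.hd) Sl.lifts.hw q.desc hpB eA.symm _ _ r₂⟩
  have hlB : Fr.Lifts hX G.θP G.θ₂ dB pB := Sl.lifts.pull hX G.θP G.θ₂ hdB hpB
  obtain ⟨b₁, hb₁, hbu⟩ := O.univ P.lB P.hσ hdB' hlB.hw ψB hψB hDB P.hB P.hBl hkB hkB'
  let B₁ := Localization.Away b₁
  obtain ⟨dB₁, hdB₁⟩ := dB.exists_pull (algebraMap P.B B₁)
  obtain ⟨pB₁, hpB₁⟩ := pB.exists_pull (algebraMap P.B B₁) hdB₁.hσ hdB₁.ht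
  obtain ⟨r₁, hr₁a, hr₁d, hr₁p⟩ := hbu hdB₁ hpB₁ (IsLocalization.Away.algebraMap_isUnit b₁)
  let hB₁ : B₁ →+* k := IsLocalization.Away.lift b₁ (g := P.hB) (isUnit_iff_ne_zero.2 hb₁)
  have hB₁' : hB₁.comp (algebraMap P.B B₁) = P.hB := IsLocalization.Away.lift_comp b₁ _
  have hr₁k : hB₁.comp r₁ = O.h := by
    refine O.sep ?_ (hr₁p.trans (hpB₁.of_comp (by rw [hB₁']; exact hkB'))) O.hpk
    rw [RingHom.comp_assoc, hr₁a, ← RingHom.comp_assoc, hB₁', P.hBl, O.ha]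
  -- the slice maps to the etale piece
  obtain ⟨o₁, ho₁, hou⟩ := Sl.univ O.lifts O.hdk O.hpk
  let O₁ := Localization.Away o₁
  obtain ⟨d₁, hd₁⟩ := O.d.exists_pull (algebraMap O.O O₁)
  obtain ⟨p₁, hp₁⟩ := O.p.exists_pull (algebraMap O.O O₁) hd₁.hσ hd₁.ht
  obtain ⟨gH, hgHd, hgHp⟩ := hou hd₁ hp₁ (IsLocalization.Away.algebraMap_isUnit o₁)
  let hO₁ : O₁ →+* k := IsLocalization.Away.lift o₁ (g := O.h) (isUnit_iff_ne_zero.2 ho₁)
  have hO₁' : hO₁.comp (algebraMap O.O O₁) = O.h := IsLocalization.Away.lift_comp o₁ _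
  let c₁ : q.Q →+* O₁ := (algebraMap O.O O₁).comp O.aO
  have hW₁ : gH.comp Sl.fW = c₁.comp q.qA :=
    Mo.unique (Sl.hd.trans hgHd) (by rw [RingHom.comp_assoc]; exact O.hd.trans hd₁)
  have hk₁ : hO₁.comp gH = Sl.h :=
    Sl.sep (hgHd.trans (hd₁.of_comp (by rw [hO₁']; exact O.hdk)))
      (hgHp.trans (hp₁.of_comp (by rw [hO₁']; exact O.hpk))) Sl.hdk Sl.hpk
  have hc₁ : c₁.comp (q.qA.comp Mo.σ) = (algebraMap O.O O₁).comp O.σ := by
    rw [RingHom.comp_assoc, O.hσ]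
  have hsame : SameRes Mo.c x₁ (ovMap (j := j) c₁ hc₁) (ovMap (j := j) gH hgHd.hσ) q.θQ q.ψ := by
    obtain ⟨ψO, hψO, -⟩ := Hom2.exists_res hX q.θQ (ovMap (j := j) O.aO O.hσ)
      (ovMap (j := j) (O.aO.comp q.qA) O.hd.hσ) O.p.sbar (ovMap_comp _ _ _ _)
      ((ovMap_comp _ _ _ _).trans (ovMap_congr _ O.hstr.symm))
    have hdW : IsPull (c₁.comp q.qA) Mo.d d₁ := by rw [RingHom.comp_assoc]; exact O.hd.trans hd₁
    obtain ⟨ψa, hψa, -⟩ := Hom2.exists_res hX ψO (ovMap (algebraMap O.O O₁) hd₁.hσ)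
      (ovMap (j := j) (c₁.comp q.qA) hdW.hσ) p₁.sbar (ovMap_comp _ _ _ _) (hp₁.ovMap_sbar hX)
    obtain ⟨ψb, hψb, -⟩ := Hom2.exists_res hX q.ψ (ovMap gH hgHd.hσ)
      (ovMap (j := j) (c₁.comp q.qA) hdW.hσ) p₁.sbar ((ovMap_comp _ _ _ _).trans (ovMap_congr _ hW₁))
      (hgHp.ovMap_sbar hX)
    have ha := Moduli.IsDesc.pull (hd := O.hd) O.lifts.hw (O.desc ψO hψO) hp₁
      (RingHom.comp_assoc _ _ _).symm hdW.hσ hdW.ht hψa
    have hb := Moduli.IsDesc.pull (hd := Sl.hd) Sl.lifts.hw q.desc hgHp hW₁ hdW.hσ hdW.ht hψb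
    obtain rfl := (Moduli.existsUnique_isDesc hS hdW (O.lifts.pull hX G.θP G.θ₂ hd₁ hp₁)).unique ha hb
    have r := hψO.trans hψa
    rw [ovMap_comp] at r
    exact ⟨_, _, ψa, r, hψb⟩
  obtain ⟨f, hf, hfu⟩ := P.univ c₁ gH hc₁ hgHd.hσ hsame hO₁ (by rw [← RingHom.comp_assoc, hO₁', O.ha]) hk₁
  obtain ⟨a, ha, hau⟩ := exists_unit_num o₁ O.h hO₁ hO₁' f hf
  let o := o₁ * a
  let Oo := Localization.Away o
  have hou' : IsUnit (algebraMap O.O Oo o₁) ∧ IsUnit (algebraMap O.O Oo a) := by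
    rw [← IsUnit.mul_iff, ← map_mul]; exact IsLocalization.Away.algebraMap_isUnit o
  let g₁ : O₁ →+* Oo := IsLocalization.Away.lift o₁ hou'.1
  have hg₁ : g₁.comp (algebraMap O.O O₁) = algebraMap O.O Oo := IsLocalization.Away.lift_comp o₁ _
  obtain ⟨v, hvl, hve⟩ := hfu g₁ (hau g₁ (by
    rw [show g₁ (algebraMap O.O O₁ a) = algebraMap O.O Oo a from RingHom.congr_fun hg₁ a]; exact hou'.2))
  have hvl' : v.comp P.lB = (algebraMap O.O Oo).comp O.aO := by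
    rw [hvl, ← RingHom.comp_assoc, hg₁]
  -- a neighbourhood in the piece
  have hy : hB₁ (r₁ o) ≠ 0 := by
    rw [show hB₁ (r₁ o) = O.h o from RingHom.congr_fun hr₁k o, map_mul]
    exact mul_ne_zero ho₁ ha
  obtain ⟨a', ha', ha'u⟩ := exists_unit_num b₁ P.hB hB₁ hB₁' (r₁ o) hy
  refine ⟨b₁ * a', by rw [map_mul]; exact mul_ne_zero hb₁ ha', ?_⟩
  let b := b₁ * a'
  let Bb := Localization.Away b
  let iB := algebraMap P.B Bb
  have hbu' : IsUnit (iB b₁) ∧ IsUnit (iB a') := by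
    rw [← IsUnit.mul_iff, ← map_mul]; exact IsLocalization.Away.algebraMap_isUnit b
  let h₁ : B₁ →+* Bb := IsLocalization.Away.lift b₁ hbu'.1
  have hh₁ : h₁.comp (algebraMap P.B B₁) = iB := IsLocalization.Away.lift_comp b₁ _
  let r : Oo →+* Bb := IsLocalization.Away.lift o (g := h₁.comp r₁) (ha'u h₁ (by
    rw [show h₁ (algebraMap P.B B₁ a') = iB a' from RingHom.congr_fun hh₁ a']; exact hbu'.2))
  have hr : r.comp (algebraMap O.O Oo) = h₁.comp r₁ := IsLocalization.Away.lift_comp o _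
  have hra : (r.comp (algebraMap O.O Oo)).comp O.aO = iB.comp P.lB := by
    rw [hr, RingHom.comp_assoc, hr₁a, ← RingHom.comp_assoc, hh₁]
  obtain ⟨dBb, hdBb⟩ := dB₁.exists_pull h₁
  obtain ⟨pBb, hpBb⟩ := pB₁.exists_pull h₁ hdBb.hσ hdBb.ht
  have hiBd : IsPull iB dB dBb := hh₁ ▸ hdB₁.trans hdBb
  have hiBp : IsPullFr iB pB pBb := hh₁ ▸ hpB₁.trans hpBb
  obtain ⟨dOo, hdOo⟩ := d₁.exists_pull g₁
  obtain ⟨pOo, hpOo⟩ := p₁.exists_pull g₁ hdOo.hσ hdOo.ht
  have hOd : IsPull (algebraMap O.O Oo) O.d dOo := hg₁ ▸ hd₁.trans hdOo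
  have hOp : IsPullFr (algebraMap O.O Oo) O.p pOo := hg₁ ▸ hp₁.trans hpOo
  have hrd : IsPull r dOo dBb := hOd.of_comp (by rw [hr]; exact hr₁d.trans hdBb)
  have hrp : IsPullFr r pOo pBb := hOp.of_comp (by rw [hr]; exact hr₁p.trans hpBb)
  have hrv : r.comp v = iB := by
    refine P.sep ?_ ?_
    · rw [RingHom.comp_assoc, hvl', ← RingHom.comp_assoc, hra]
    · rw [RingHom.comp_assoc, hve]
      exact Sl.sep ((hgHd.trans hdOo).trans hrd) ((hgHp.trans hpOo).trans hrp) (hdB.trans hiBd) (hpB.trans hiBp)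
  -- the two neighbourhoods are isomorphic
  let O₃ := Localization.Away (v b)
  let i₃ := algebraMap Oo O₃
  obtain ⟨p₃, hp₃⟩ := pOo.exists_pull i₃ (rfl : i₃.comp _ = _) (rfl : dOo.t.map i₃ = dOo.t.map i₃)
  let v' : Bb →+* O₃ := IsLocalization.Away.lift b (g := i₃.comp v) (IsLocalization.Away.algebraMap_isUnit (v b))
  have hv' : v'.comp iB = i₃.comp v := IsLocalization.Away.lift_comp b _
  let r' : O₃ →+* Bb := IsLocalization.Away.lift (v b) (g := r) (by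
    rw [show r (v b) = iB b from RingHom.congr_fun hrv b]; exact IsLocalization.Away.algebraMap_isUnit b)
  have hr' : r'.comp i₃ = r := IsLocalization.Away.lift_comp (v b) _
  have e₁ : r'.comp v' = RingHom.id Bb := IsLocalization.ringHom_ext (Submonoid.powers b) (by
    show (r'.comp v').comp iB = (RingHom.id Bb).comp iB
    rw [RingHom.comp_assoc, hv', ← RingHom.comp_assoc, hr', hrv]
    rfl)
  have hvp : IsPullFr v pB pOo := hpB.of_comp (by rw [hve]; exact hgHp.trans hpOo)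
  have hv'p : IsPullFr v' pBb p₃ := hiBp.of_comp (by rw [hv']; exact hvp.trans hp₃)
  have e₂ : v'.comp r' = RingHom.id O₃ := IsLocalization.ringHom_ext (Submonoid.powers (v b)) (by
    show (v'.comp r').comp i₃ = (RingHom.id O₃).comp i₃
    rw [RingHom.comp_assoc, hr', RingHom.id_comp]
    refine IsLocalization.ringHom_ext (Submonoid.powers o) ?_
    refine O.sep ?_ (hOp.trans (hrp.trans hv'p)) (hOp.trans hp₃)
    show v'.comp ((r.comp (algebraMap O.O Oo)).comp O.aO) = i₃.comp ((algebraMap O.O Oo).comp O.aO)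
    rw [hra, ← RingHom.comp_assoc, hv', RingHom.comp_assoc, hvl'])
  let e : O₃ ≃+* Bb := RingEquiv.ofRingHom r' v' e₁ e₂
  letI : Algebra q.Q O.O := O.aO.toAlgebra
  haveI : Algebra.Etale q.Q O.O := RingHom.etale_algebraMap.1 O.etale
  haveI : Algebra.Etale O.O Oo := Algebra.Etale.of_isLocalizationAway o
  haveI : Algebra.Etale Oo O₃ := Algebra.Etale.of_isLocalizationAway (v b)
  have he : (iB.comp P.lB) = (r'.comp i₃).comp ((algebraMap O.O Oo).comp O.aO) := by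
    rw [hr', ← RingHom.comp_assoc, hra]
  have h1 : Etale (Spec.map (ofHom O.aO)) := (HasRingHomProperty.Spec_iff (P := @Etale)).2 O.etale
  have h2 : Etale (Spec.map (ofHom (algebraMap O.O Oo))) :=
    (HasRingHomProperty.Spec_iff (P := @Etale)).2 (RingHom.etale_algebraMap.2 inferInstance)
  have h3 : Etale (Spec.map (ofHom i₃)) :=
    (HasRingHomProperty.Spec_iff (P := @Etale)).2 (RingHom.etale_algebraMap.2 inferInstance)
  haveI : IsIso (ofHom r') := e.toCommRingCatIso.isIso_hom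
  refine (HasRingHomProperty.Spec_iff (P := @Etale) (φ := ofHom (iB.comp P.lB))).1 ?_
  rw [he, ofHom_comp, ofHom_comp, ofHom_comp, Spec.map_comp, Spec.map_comp, Spec.map_comp]
  infer_instance

end Groth.Agent.ArtinAtlas

end
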