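import Groth.Agent.ArtinAtlas.Fam
import Groth.Agent.ArtinAtlas.Etale

/-!
# Spaces of lifts along tables and their opens
-/

set_option autoImplicit false
set_option backward.isDefEq.respectTransparency false
set_option backward.isDefEq.respectTransparency.types false
set_option linter.style.haveILetI false
universe u

noncomputable section

namespace Groth.Agent.ArtinAtlas

open CategoryTheory CategoryTheory.Limits AlgebraicGeometry CommRingCat

section algebra

variable {ι κ : Type} [Fintype ι] [DecidableEq ι] [Fintype κ] [DecidableEq κ] {k : Type u} [Field k]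

/-- the algebra of the table is local artinian with trivial residue extension -/
def Tab.Loc (t : Tab ι k) : Prop := ∀ x : t.Alg, ∃ c : k, IsNilpotent (x - algebraMap k _ c)

theorem Tab.Loc.subsingleton {t : Tab ι k} (h : t.Loc) : Subsingleton (PrimeSpectrum t.Alg) := by
  refine ⟨fun P Q => PrimeSpectrum.ext (le_antisymm ?_ ?_)⟩
  all_goals
    intro x hx
    obtain ⟨c, hc⟩ := h x
    rcases eq_or_ne c 0 with rfl | hc0
    · rw [map_zero, sub_zero] at hc
      obtain ⟨n, hn⟩ := hc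
      first
        | exact Q.isPrime.mem_of_pow_mem n (hn ▸ Q.asIdeal.zero_mem)
        | exact P.isPrime.mem_of_pow_mem n (hn ▸ P.asIdeal.zero_mem)
    · have hu : IsUnit x := by
        have := hc.isUnit_add_left_of_commute ((isUnit_iff_ne_zero.2 hc0).map (algebraMap k t.Alg)) (Commute.all _ _)
        simpa using this
      first
        | exact absurd (Ideal.eq_top_of_isUnit_mem _ hx hu) P.isPrime.ne_top
        | exact absurd (Ideal.eq_top_of_isUnit_mem _ hx hu) Q.isPrime.ne_top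

theorem Tab.Loc.sq {t : Tab ι k} {s : Tab κ k} (ht : t.Loc) (hs : s.Loc) : (t.sq s).Loc := by
  intro x
  rw [← (t.sq s).sum_coord x]
  refine Finset.sum_induction _ (fun y => ∃ c : k, IsNilpotent (y - algebraMap k _ c)) ?_ ⟨0, by simp⟩ fun p _ => ?_
  · rintro y z ⟨c, hc⟩ ⟨d, hd⟩
    refine ⟨c + d, ?_⟩
    rw [map_add, add_sub_add_comm]
    exact (Commute.all _ _).isNilpotent_add hc hd
  · obtain ⟨c, hc⟩ := ht (t.basis p.1)
    obtain ⟨d, hd⟩ := hs (s.basis p.2)
    refine ⟨(t.sq s).coord x p * (c * d), ?_⟩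
    rw [map_mul, ← Algebra.smul_def, ← smul_sub, ← t.pure_basis s p, ← t.inl_mul_inr s, map_mul]
    refine IsNilpotent.smul ?_ _
    rw [show t.inl s (t.basis p.1) * t.inr s (s.basis p.2) - algebraMap k _ c * algebraMap k _ d =
        t.inl s (t.basis p.1 - algebraMap k _ c) * t.inr s (s.basis p.2) +
          algebraMap k _ c * t.inr s (s.basis p.2 - algebraMap k _ d) by
      rw [map_sub, map_sub, AlgHom.commutes, AlgHom.commutes]; ring]
    exact (Commute.all _ _).isNilpotent_add ((Commute.all _ _).isNilpotent_mul_right (hc.map _))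
      ((Commute.all _ _).isNilpotent_mul_left (hd.map _))

theorem Tab.nontrivial_alg [Nonempty ι] (t : Tab ι k) : Nontrivial t.Alg :=
  Function.Surjective.nontrivial (f := t.coord) t.coord.surjective

/-- etale algebras over such a local ring have sections through every point -/
theorem Tab.Loc.exists_section [IsAlgClosed k] {t : Tab ι k} (h : t.Loc) {C : Type u} [CommRing C] [Nontrivial C]
    (f : t.Alg →+* C) (hf : f.Etale) : ∃ s : C →+* t.Alg, s.comp f = RingHom.id _ := by
  letI : Algebra t.Alg C := f.toAlgebra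
  haveI : Algebra.Etale t.Alg C := hf
  letI : Algebra k C := (f.comp (algebraMap k t.Alg)).toAlgebra
  haveI : IsScalarTower k t.Alg C := IsScalarTower.of_algebraMap_eq fun _ => rfl
  haveI : Algebra.FiniteType k C := Algebra.FiniteType.trans (inferInstance : Algebra.FiniteType k t.Alg)
    (inferInstance : Algebra.FiniteType t.Alg C)
  obtain ⟨M, hM⟩ := Ideal.exists_maximal C
  letI := Ideal.Quotient.field M
  haveI : Algebra.FiniteType k (C ⧸ M) := Algebra.FiniteType.of_surjective (Ideal.Quotient.mkₐ k M) Ideal.Quotient.mk_surjective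
  haveI : Module.Finite k (C ⧸ M) := finite_of_finite_type_of_isJacobsonRing k (C ⧸ M)
  let e : k ≃ₐ[k] C ⧸ M := AlgEquiv.ofBijective (Algebra.ofId k (C ⧸ M))
    (IsAlgClosed.algebraMap_bijective_of_isIntegral (k := k))
  let χ : C →ₐ[k] k := e.symm.toAlgHom.comp (Ideal.Quotient.mkₐ k M)
  let π : t.Alg →+* k := χ.toRingHom.comp f
  have hπc : ∀ c, π (algebraMap k t.Alg c) = c := fun c => χ.commutes c
  letI : Algebra t.Alg k := π.toAlgebra
  let κ : C →ₐ[t.Alg] k := { χ.toRingHom with commutes' := fun _ => rfl }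
  have hker : IsNilpotent (RingHom.ker ((Algebra.ofId t.Alg k : t.Alg →ₐ[t.Alg] k) : t.Alg →+* k)) := by
    haveI : IsNoetherianRing t.Alg := isNoetherian_of_tower k inferInstance
    rw [Ideal.FG.isNilpotent_iff_le_nilradical (IsNoetherian.noetherian _)]
    intro x hx
    obtain ⟨c, hc⟩ := h x
    have : c = 0 := by
      have h1 := hc.map π
      rw [map_sub, hπc, show π x = 0 from hx, zero_sub, isNilpotent_neg_iff] at h1
      exact h1.eq_zero
    rw [this, map_zero, sub_zero] at hc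
    exact hc
  have hsurj : Function.Surjective (Algebra.ofId t.Alg k) := fun c => ⟨algebraMap k t.Alg c, hπc c⟩
  exact ⟨(Algebra.FormallySmooth.liftOfSurjective κ (Algebra.ofId t.Alg k) hsurj hker).toRingHom,
    RingHom.ext fun z => (Algebra.FormallySmooth.liftOfSurjective κ (Algebra.ofId t.Alg k) hsurj hker).commutes z⟩

end algebra

variable {ι : Type} [Fintype ι] [DecidableEq ι] {S : Scheme.{u}} {R₀ U K : Type u} [CommRing R₀] [CommRing U]
  [CommRing K] {j : Spec (CommRingCat.of R₀) ⟶ S} {σ : R₀ →+* U} {σk : R₀ →+* K} {t : Tab ι U} {tk : Tab ι K}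

/-- points in an open over a point persist over a basic open -/
theorem exists_away {k : Type u} [Field k] {σk : R₀ →+* k} {tk : Tab ι k} (h : U →+* k) (hσ : h.comp σ = σk)
    (ht : t.map h = tk) {Y : Over S} (w : spT j σ t ⟶ Y) (V : Y.left.Opens)
    (hV : Set.range (spMap h hσ ht ≫ w).left ⊆ V) :
    ∃ f : U, h f ≠ 0 ∧ ∀ (Z : Type u) [CommRing Z] (σZ : R₀ →+* Z) (g : U →+* Z) (hg : g.comp σ = σZ)
      (tZ : Tab ι Z) (htZ : t.map g = tZ), IsUnit (g f) → Set.range (spMap (j := j) g hg htZ ≫ w).left ⊆ V := by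
  let c : PrimeSpectrum t.Alg → PrimeSpectrum U := PrimeSpectrum.comap (algebraMap U t.Alg)
  let K₀ : Set (PrimeSpectrum t.Alg) := (w.left ⁻¹' (V : Set Y.left))ᶜ
  have hK₀ : IsClosed K₀ := (V.2.preimage w.left.continuous).isClosed_compl
  haveI : Algebra.IsIntegral U t.Alg := Algebra.IsIntegral.of_finite U t.Alg
  have hc : IsClosed (c '' K₀) :=
    PrimeSpectrum.isClosedMap_comap_of_isIntegral (algebraMap U t.Alg) Algebra.IsIntegral.isIntegral _ hK₀
  let p : PrimeSpectrum U := PrimeSpectrum.comap h ⟨⊥, Ideal.isPrime_bot⟩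
  have hp : p ∉ c '' K₀ := by
    rintro ⟨z, hz, hzp⟩
    have sq : IsPullback (qT j σk tk).left (spMap (j := j) h hσ ht).left (ovMap (j := j) h hσ).left (qT j σ t).left :=
      (isPullback_spMap (j := j) h hσ ht).map (Over.forget S)
    obtain ⟨z', -, hz'⟩ := Scheme.Pullback.exists_preimage_pullback (f := (ovMap (j := j) h hσ).left)
      (g := (qT j σ t).left) (⟨⊥, Ideal.isPrime_bot⟩ : PrimeSpectrum k) z hzp.symm
    refine hz (hV ⟨sq.isoPullback.inv z', ?_⟩)
    have e : (spMap (j := j) h hσ ht).left (sq.isoPullback.inv z') = z := by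
      rw [← Scheme.Hom.comp_apply]
      have hsnd : sq.isoPullback.inv ≫ (spMap (j := j) h hσ ht).left = pullback.snd _ _ := sq.isoPullback_inv_snd
      rw [hsnd]
      exact hz'
    show w.left ((spMap (j := j) h hσ ht).left (sq.isoPullback.inv z')) = _
    rw [e]
  obtain ⟨_, ⟨f, rfl⟩, hpf, hf⟩ :=
    PrimeSpectrum.isTopologicalBasis_basic_opens.exists_subset_of_mem_open (show p ∈ (c '' K₀)ᶜ from hp) hc.isOpen_compl
  refine ⟨f, fun h0 => hpf (show h f ∈ (⊥ : Ideal k) by rw [h0]; exact Ideal.zero_mem _),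
    fun Z _ σZ g hg tZ htZ hu => ?_⟩
  rintro _ ⟨z', rfl⟩
  by_contra hz'
  let z : PrimeSpectrum t.Alg := PrimeSpectrum.comap (Tab.hom g htZ) z'
  have hzK : z ∈ K₀ := hz'
  have : c z ∈ c '' K₀ := ⟨z, hzK, rfl⟩
  refine hf (show c z ∈ PrimeSpectrum.basicOpen f from fun hfz => ?_) this
  have h1 : Tab.hom g htZ (algebraMap U t.Alg f) ∈ z'.asIdeal := hfz
  rw [Tab.hom_algebraMap] at h1
  exact z'.isPrime.ne_top (Ideal.eq_top_of_isUnit_mem _ h1 (hu.map _))

/-- an affine etale piece through a point -/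
theorem exists_affine_piece [Subsingleton (PrimeSpectrum tk.Alg)] [Nonempty (PrimeSpectrum tk.Alg)] {W : Over S}
    (q : W ⟶ spT j σ t) [Etale q.left] (wk : spT j σk tk ⟶ W) :
    ∃ (C : Type u) (_ : CommRing C) (f : t.Alg →+* C) (e : ovR j (f.comp ((algebraMap U t.Alg).comp σ)) ⟶ W),
      f.Etale ∧ IsOpenImmersion e.left ∧ e ≫ q = ovMap f rfl ∧ Set.range wk.left ⊆ Set.range e.left := by
  let z₀ : PrimeSpectrum tk.Alg := Classical.arbitrary _
  obtain ⟨V, hV, hzV, -⟩ := exists_isAffineOpen_mem_and_subset (X := W.left) (x := wk.left z₀) (U := ⊤) trivial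
  let W₀ : Over S := Over.mk (V.ι ≫ W.hom)
  let i : W₀ ⟶ W := Over.homMk V.ι
  haveI : IsAffine W₀.left := hV
  obtain ⟨C, _, f, e, he⟩ := exists_ovR_iso (j := j) (i ≫ q)
  haveI : IsOpenImmersion i.left := inferInstanceAs (IsOpenImmersion V.ι)
  haveI : IsIso e.hom.left := inferInstanceAs (IsIso ((Over.forget S).map e.hom))
  haveI hopen : IsOpenImmersion (e.hom ≫ i).left := inferInstanceAs (IsOpenImmersion (e.hom.left ≫ i.left))
  refine ⟨C, inferInstance, f, e.hom ≫ i, ?_, hopen, by rw [Category.assoc, he], ?_⟩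
  · haveI : Etale (e.hom ≫ i ≫ q).left := inferInstanceAs (Etale (e.hom.left ≫ i.left ≫ q.left))
    have h : Etale (ovMap (j := j) f rfl : ovR j (f.comp ((algebraMap U t.Alg).comp σ)) ⟶ _).left := by
      rw [← he]; infer_instance
    exact (HasRingHomProperty.Spec_iff (P := @Etale)).1 h
  · rintro _ ⟨z, rfl⟩
    obtain rfl : z = z₀ := @Subsingleton.elim (PrimeSpectrum tk.Alg) _ z z₀
    exact ⟨e.inv.left ⟨wk.left z₀, hzV⟩, by
      show i.left (e.hom.left (e.inv.left _)) = _
      rw [← Scheme.Hom.comp_apply e.inv.left, show e.inv.left ≫ e.hom.left = 𝟙 _ from congrArg Over.Hom.left e.inv_hom_id]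
      rfl⟩

/-- the space of lifts to an etale scheme over the spectrum of a table, near a given lift -/
theorem exists_lift_space [Subsingleton (PrimeSpectrum tk.Alg)] [Nonempty (PrimeSpectrum tk.Alg)] [Mono j]
    (h : U →+* K) (hσ : h.comp σ = σk) (ht : t.map h = tk) {W : Over S} (q : W ⟶ spT j σ t) [Etale q.left]
    (wk : spT j σk tk ⟶ W) (hwk : wk ≫ q = spMap h hσ ht) :
    ∃ (U' : Type u) (_ : CommRing U') (_ : Algebra U U') (h' : U' →+* K) (σ' : R₀ →+* U') (t' : Tab ι U')
      (hσ' : (algebraMap U U').comp σ = σ') (ht' : t.map (algebraMap U U') = t') (l : spT j σ' t' ⟶ W)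
      (hσk : h'.comp σ' = σk) (htk : t'.map h' = tk) (V : W.left.Opens),
      Algebra.Etale U U' ∧ h'.comp (algebraMap U U') = h ∧ l ≫ q = spMap (algebraMap U U') hσ' ht' ∧
      spMap h' hσk htk ≫ l = wk ∧ Set.range wk.left ⊆ V ∧ Set.range l.left ⊆ V ∧
      ∀ (Z : Type u) [CommRing Z] (σZ : R₀ →+* Z) (g : U →+* Z) (hg : g.comp σ = σZ) (tZ : Tab ι Z)
        (htZ : t.map g = tZ) (wz : spT j σZ tZ ⟶ W), wz ≫ q = spMap g hg htZ → Set.range wz.left ⊆ V →
        ∃! g' : U' →+* Z, g'.comp (algebraMap U U') = g ∧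
          ∃ (hg' : g'.comp σ' = σZ) (htZ' : t'.map g' = tZ), spMap g' hg' htZ' ≫ l = wz := by
  obtain ⟨C, _, f, e, hf, he, heq, hrange⟩ := exists_affine_piece q wk
  obtain ⟨U', _, _, k, hU', hkf, huniv⟩ := exists_wres_etale t f hf
  let σC := f.comp ((algebraMap U t.Alg).comp σ)
  let t' := t.map (algebraMap U U')
  -- points of the piece
  have fact : ∀ {Z : Type u} [CommRing Z] {σZ : R₀ →+* Z} {g : U →+* Z} (hg : g.comp σ = σZ) {tZ : Tab ι Z}
      (htZ : t.map g = tZ) (wz : spT j σZ tZ ⟶ W), wz ≫ q = spMap g hg htZ → Set.range wz.left ⊆ Set.range e.left →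
      ∃ (kz : C →+* tZ.Alg) (hkz : kz.comp σC = (algebraMap Z tZ.Alg).comp σZ),
        kz.comp f = Tab.hom g htZ ∧ ovMap kz hkz ≫ e = wz := by
    intro Z _ σZ g hg tZ htZ wz hwz hr
    haveI := he
    let v : spT j σZ tZ ⟶ ovR j σC := Over.homMk (IsOpenImmersion.lift e.left wz.left hr) (by
      rw [← Over.w e, ← Category.assoc, IsOpenImmersion.lift_fac, Over.w wz])
    have hv : v ≫ e = wz := Over.OverMorphism.ext (IsOpenImmersion.lift_fac _ _ _)
    obtain ⟨kz, hkz, hveq⟩ := exists_ovMap v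
    refine ⟨kz, hkz, ?_, by rw [← hveq, hv]⟩
    have h2 : v ≫ e ≫ q = spMap g hg htZ := by rw [← Category.assoc, hv, hwz]
    rw [heq, hveq, ovMap_comp] at h2
    exact ovMap_injective h2
  have hkσ : k.comp σC = (algebraMap U' t'.Alg).comp ((algebraMap U U').comp σ) := by
    rw [← RingHom.comp_assoc, hkf, ← RingHom.comp_assoc, ← RingHom.comp_assoc,
      show (t.mapHom (algebraMap U U')).comp (algebraMap U t.Alg) = (algebraMap U' t'.Alg).comp (algebraMap U U') from
      RingHom.ext (t.mapHom_algebraMap _)]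
  have hcoord : ∀ {Z : Type u} [CommRing Z] {tZ : Tab ι Z} (g' : U' →+* Z) (h1 : t'.map g' = tZ) (kz : C →+* tZ.Alg),
      (∀ c i, g' (t'.coord (k c) i) = tZ.coord (kz c) i) ↔ (Tab.hom g' h1).comp k = kz := fun {Z} _ {tZ} g' h1 kz =>
    ⟨fun hh => RingHom.ext fun c => tZ.ext' fun i => (Tab.coord_hom g' h1 _ i).trans (hh c i),
      fun hh c i => hh ▸ (Tab.coord_hom g' h1 _ i).symm⟩
  obtain ⟨kk, hkk, hkkf, hkke⟩ := fact hσ ht wk hwk hrange
  obtain ⟨h', ⟨hh', hh'c⟩, -⟩ := huniv K h tk ht kk hkkf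
  have htk : t'.map h' = tk := by rw [show t'.map h' = t.map (h'.comp (algebraMap U U')) from rfl, hh', ht]
  have hσk : h'.comp ((algebraMap U U').comp σ) = σk := by rw [← RingHom.comp_assoc, hh', hσ]
  refine ⟨U', inferInstance, inferInstance, h', (algebraMap U U').comp σ, t', rfl, rfl, ovMap k hkσ ≫ e, hσk, htk,
    e.left.opensRange, hU', hh', ?_, ?_, hrange, by rintro _ ⟨z, rfl⟩; exact ⟨(ovMap (j := j) k hkσ).left z, rfl⟩,
    fun Z _ σZ g hg tZ htZ wz hwz hr => ?_⟩
  · rw [Category.assoc, heq, ovMap_comp]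
    exact ovMap_congr _ (hkf.trans (RingHom.ext fun z => (Tab.hom_eq_mapHom _ z).symm))
  · rw [← Category.assoc, ovMap_comp, ← hkke]
    congr 1
    exact ovMap_congr _ ((hcoord h' htk kk).1 hh'c)
  · obtain ⟨kz, hkz, hkzf, hkze⟩ := fact hg htZ wz hwz hr
    obtain ⟨g', ⟨hg', hg'c⟩, hu⟩ := huniv Z g tZ htZ kz hkzf
    have htZ' : t'.map g' = tZ := by rw [show t'.map g' = t.map (g'.comp (algebraMap U U')) from rfl, hg', htZ]
    have hgσ : g'.comp ((algebraMap U U').comp σ) = σZ := by rw [← RingHom.comp_assoc, hg', hg]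
    refine ⟨g', ⟨hg', hgσ, htZ', ?_⟩, ?_⟩
    · rw [← Category.assoc, ovMap_comp, ← hkze]
      congr 1
      exact ovMap_congr _ ((hcoord g' htZ' kz).1 hg'c)
    · rintro g'' ⟨h1, h2, h3, h4⟩
      refine hu g'' ⟨h1, (hcoord g'' h3 kz).2 ?_⟩
      rw [← Category.assoc, ovMap_comp, ← hkze] at h4
      haveI : Mono e.left := inferInstance
      exact ovMap_injective (Over.OverMorphism.ext ((cancel_mono e.left).1 (congrArg Over.Hom.left h4)))

end Groth.Agent.ArtinAtlas

end
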