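import Groth.Agent.ArtinAtlas.Mod
import Groth.Agent.ArtinAtlas.LiftSpace

/-!
# Finite frames in the space of self-isomorphisms and the descent data they give
-/

set_option autoImplicit false
set_option backward.isDefEq.respectTransparency false
set_option backward.isDefEq.respectTransparency.types false
set_option linter.style.haveILetI false
universe v₂ u₂ u

noncomputable section

namespace Groth.Agent.ArtinAtlas

open CategoryTheory CategoryTheory.Limits AlgebraicGeometry CommRingCat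

section liftable

variable {S : Scheme.{u}} {𝒳 : BasedCategory.{v₂, u₂} (Over S)} {U₁ U₂ : Over S} {x : FibCat.overCat U₁ ⥤ᵇ 𝒳}
  {y : FibCat.overCat U₂ ⥤ᵇ 𝒳}

/-- lifts to the source of this isomorphism form etale schemes -/
def Liftable {C : Over S} {a : C ⟶ U₁} {b : C ⟶ U₂} (θ : Hom2 x y a b) : Prop :=
  ∀ {T : Over S} {a' : T ⟶ U₁} {b' : T ⟶ U₂} (η : Hom2 x y a' b'),
    ∃ (W : Over S) (l : W ⟶ C) (q : W ⟶ T), Etale q.left ∧ SameRes x y l q θ η ∧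
      ∀ {T' : Over S} (c : T' ⟶ C) (g : T' ⟶ T), SameRes x y c g θ η → ∃! w : T' ⟶ W, w ≫ l = c ∧ w ≫ q = g

theorem Chart.liftable (hX : FibCat.IsFibGrpd 𝒳.p) {D : PairSp x y} (Φ : Chart D) : Liftable Φ.θ :=
  fun η => Φ.exists_lifts hX η

/-- liftability is invariant under isomorphisms of the source -/
theorem Liftable.of_iso (hX : FibCat.IsFibGrpd 𝒳.p) {C C' : Over S} {a : C ⟶ U₁} {b : C ⟶ U₂} {θ : Hom2 x y a b}
    (h : Liftable θ) (e : C' ≅ C) {a' : C' ⟶ U₁} {b' : C' ⟶ U₂} {θ' : Hom2 x y a' b'}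
    (hθ : Hom2.Res e.hom θ θ') : Liftable θ' := by
  intro T a'' b'' η
  obtain ⟨W, l, q, hq, hlq, hu⟩ := h η
  have key : ∀ {T' : Over S} (c : T' ⟶ C') (g : T' ⟶ T),
      SameRes x y c g θ' η ↔ SameRes x y (c ≫ e.hom) g θ η := by
    intro T' c g
    refine ⟨fun ⟨_, _, χ, h₁, h₂⟩ => ⟨_, _, χ, hθ.trans h₁, h₂⟩, fun ⟨p, r, χ, h₁, h₂⟩ => ⟨p, r, χ, ?_, h₂⟩⟩
    obtain ⟨χ', hχ', -⟩ := Hom2.exists_res hX θ' c p r (by rw [← hθ.1, ← Category.assoc, h₁.1])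
      (by rw [← hθ.2.1, ← Category.assoc, h₁.2.1])
    obtain rfl := (hθ.trans hχ').unique hX h₁
    exact hχ'
  refine ⟨W, l ≫ e.inv, q, hq, (key _ _).2 (by rwa [Category.assoc, e.inv_hom_id, Category.comp_id]), ?_⟩
  intro T' c g hc
  obtain ⟨w, ⟨h₁, h₂⟩, huw⟩ := hu _ _ ((key c g).1 hc)
  refine ⟨w, ⟨?_, h₂⟩, fun w' h' => huw w' ⟨?_, h'.2⟩⟩
  · rw [← Category.assoc, h₁, Category.assoc, e.hom_inv_id, Category.comp_id]
  · rw [← h'.1, Category.assoc, Category.assoc, e.inv_hom_id, Category.comp_id]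

/-- restrictions of one isomorphism along equal maps agree -/
theorem SameRes.endpoints {T T₁ T₂ : Over S} {g₁ : T ⟶ T₁} {g₂ : T ⟶ T₂} {a₁ : T₁ ⟶ U₁} {b₁ : T₁ ⟶ U₂}
    {θ₁ : Hom2 x y a₁ b₁} {a₂ : T₂ ⟶ U₁} {b₂ : T₂ ⟶ U₂} {θ₂ : Hom2 x y a₂ b₂} (h : SameRes x y g₁ g₂ θ₁ θ₂) :
    g₁ ≫ a₁ = g₂ ≫ a₂ ∧ g₁ ≫ b₁ = g₂ ≫ b₂ := by
  obtain ⟨a, b, θ, h₁, h₂⟩ := h
  exact ⟨h₁.1.trans h₂.1.symm, h₁.2.1.trans h₂.2.1.symm⟩

end liftable

variable {ι : Type} [Fintype ι] [DecidableEq ι] {S : Scheme.{u}} {R₀ A P : Type u} [CommRing R₀] [CommRing A]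
  [Algebra R₀ A] [CommRing P] [Algebra A P] {j : Spec (CommRingCat.of R₀) ⟶ S} {T T' : Type u} [CommRing T]
  [CommRing T']

variable (A P) in
/-- a point of the chart of self-isomorphisms over a finite free algebra, with constant first point -/
structure Fr (σ : R₀ →+* T) (t : Tab ι T) where
  /-- the constant point -/
  str : A →+* T
  str_comm : str.comp (algebraMap R₀ A) = σ
  /-- the point of the chart -/
  φ : P →+* t.Alg
  φA : φ.comp (algebraMap A P) = (algebraMap T t.Alg).comp str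

variable {σ : R₀ →+* T} {σ' : R₀ →+* T'} {t : Tab ι T} {t' : Tab ι T'}

/-- the point of a frame on schemes -/
abbrev Fr.φbar (p : Fr A P σ t) : spT j σ t ⟶ ovR j ((algebraMap A P).comp (algebraMap R₀ A)) :=
  ovMap p.φ (by rw [← RingHom.comp_assoc, p.φA, RingHom.comp_assoc, p.str_comm])

/-- the constant point on schemes -/
abbrev Fr.sbar (p : Fr A P σ t) : ovR j σ ⟶ ovR j (algebraMap R₀ A) := ovMap p.str p.str_comm

/-- first point of the chart -/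
abbrev pA (j : Spec (CommRingCat.of R₀) ⟶ S) (A P : Type u) [CommRing A] [Algebra R₀ A] [CommRing P] [Algebra A P] : ovR j ((algebraMap A P).comp (algebraMap R₀ A)) ⟶ ovR j (algebraMap R₀ A) := ovMap (algebraMap A P) rfl

theorem Fr.φbar_pA (p : Fr A P σ t) : p.φbar (j := j) ≫ pA j A P = qT j σ t ≫ p.sbar := by
  rw [ovMap_comp, ovMap_comp]
  exact ovMap_congr _ p.φA

/-- being the pull back -/
structure IsPullFr (f : T →+* T') (p : Fr A P σ t) (p' : Fr A P σ' t') : Prop where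
  hσ : f.comp σ = σ'
  ht : t.map f = t'
  hstr : p'.str = f.comp p.str
  hφ : p'.φ = (Tab.hom f ht).comp p.φ

variable {bP : A →+* P}

/-- the second point of a frame -/
theorem Fr.w_comm (hab : bP.comp (algebraMap R₀ A) = (algebraMap A P).comp (algebraMap R₀ A)) (p : Fr A P σ t) :
    (p.φ.comp bP).comp (algebraMap R₀ A) = (algebraMap T t.Alg).comp σ := by
  rw [RingHom.comp_assoc, hab, ← RingHom.comp_assoc, p.φA, RingHom.comp_assoc, p.str_comm]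

variable (j) in
/-- second point of the chart -/
abbrev pB (hab : bP.comp (algebraMap R₀ A) = (algebraMap A P).comp (algebraMap R₀ A)) :
    ovR j ((algebraMap A P).comp (algebraMap R₀ A)) ⟶ ovR j (algebraMap R₀ A) := ovMap bP hab

variable {hab : bP.comp (algebraMap R₀ A) = (algebraMap A P).comp (algebraMap R₀ A)}

variable (hab) in
/-- the moving point on schemes -/
abbrev Fr.wbar (p : Fr A P σ t) : spT j σ t ⟶ ovR j (algebraMap R₀ A) := ovMap (p.φ.comp bP) (p.w_comm hab)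

theorem Fr.φbar_pB (p : Fr A P σ t) : p.φbar (j := j) ≫ pB j hab = p.wbar hab := by rw [ovMap_comp]

variable {𝒳 : BasedCategory.{v₂, u₂} (Over S)} (hX : FibCat.IsFibGrpd 𝒳.p)
  {x₁ : FibCat.overCat (ovR j (algebraMap R₀ A)) ⥤ᵇ 𝒳} (θP : Hom2 x₁ x₁ (pA j A P) (pB j hab))

include hX

/-- the isomorphism of a frame -/
def Fr.θ (p : Fr A P σ t) : Hom2 x₁ x₁ (qT j σ t ≫ p.sbar) (p.wbar hab) :=
  (Hom2.exists_res hX θP p.φbar _ _ p.φbar_pA p.φbar_pB).exists.choose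

theorem Fr.θ_spec (p : Fr A P σ t) : Hom2.Res p.φbar θP (p.θ hX θP) :=
  (Hom2.exists_res hX θP p.φbar _ _ p.φbar_pA p.φbar_pB).exists.choose_spec

theorem IsPullFr.res_θ {f : T →+* T'} {p : Fr A P σ t} {p' : Fr A P σ' t'} (h : IsPullFr f p p') :
    Hom2.Res (spMap f h.hσ h.ht) (p.θ hX θP) (p'.θ hX θP) := by
  have e1 : spMap (j := j) f h.hσ h.ht ≫ p.φbar = p'.φbar := by rw [ovMap_comp]; exact ovMap_congr _ h.hφ.symm
  obtain ⟨χ, hχ, -⟩ := Hom2.exists_res hX (p.θ hX θP) (spMap f h.hσ h.ht) (qT j σ' t' ≫ p'.sbar) (p'.wbar hab)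
    (by rw [← p.φbar_pA, reassoc_of% e1, p'.φbar_pA]) (by rw [← p.φbar_pB (hab := hab), reassoc_of% e1, p'.φbar_pB])
  have r := (p.θ_spec hX θP).trans hχ
  rw [e1] at r
  obtain rfl := r.unique hX (p'.θ_spec hX θP)
  exact hχ

/-- the restriction of the isomorphism to the first factor -/
def Fr.θL (p : Fr A P σ t) : Hom2 x₁ x₁ (qT j σ (t.sq t) ≫ p.sbar) (prL j σ t t ≫ p.wbar hab) :=
  (Hom2.exists_res hX (p.θ hX θP) (prL j σ t t) _ _ (by rw [← Category.assoc, prL_comp]) rfl).exists.choose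

/-- the restriction of the isomorphism to the second factor -/
def Fr.θR (p : Fr A P σ t) : Hom2 x₁ x₁ (qT j σ (t.sq t) ≫ p.sbar) (prR j σ t t ≫ p.wbar hab) :=
  (Hom2.exists_res hX (p.θ hX θP) (prR j σ t t) _ _ (by rw [← Category.assoc, prR_comp]) rfl).exists.choose

theorem Fr.θLR_spec (p : Fr A P σ t) :
    Hom2.Res (prL j σ t t) (p.θ hX θP) (p.θL hX θP) ∧ Hom2.Res (prR j σ t t) (p.θ hX θP) (p.θR hX θP) :=
  ⟨(Hom2.exists_res hX (p.θ hX θP) (prL j σ t t) _ _ (by rw [← Category.assoc, prL_comp]) rfl).exists.choose_spec,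
    (Hom2.exists_res hX (p.θ hX θP) (prR j σ t t) _ _ (by rw [← Category.assoc, prR_comp]) rfl).exists.choose_spec⟩

/-- the descent isomorphism of a frame -/
def Fr.η (p : Fr A P σ t) : Hom2 x₁ x₁ (prL j σ t t ≫ p.wbar hab) (prR j σ t t ≫ p.wbar hab) :=
  ((p.θL hX θP).inv hX).comp (p.θR hX θP)

theorem IsPullFr.res_η {f : T →+* T'} {p : Fr A P σ t} {p' : Fr A P σ' t'} (h : IsPullFr f p p') :
    Hom2.Res (spMap f h.hσ (Tab.map_sq_of_eq f h.ht h.ht)) (p.η hX θP) (p'.η hX θP) := by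
  obtain ⟨l₁, r₁⟩ := p.θLR_spec hX θP
  obtain ⟨l₂, r₂⟩ := p'.θLR_spec hX θP
  have hr := (h.res_θ hX θP).trans l₂
  have hr' := (h.res_θ hX θP).trans r₂
  rw [← spMap_prL f h.hσ h.ht h.ht] at hr
  rw [← spMap_prR f h.hσ h.ht h.ht] at hr'
  obtain ⟨χ, hχ, -⟩ := Hom2.exists_res hX (p.θL hX θP) (spMap f h.hσ (Tab.map_sq_of_eq f h.ht h.ht))
    (qT j σ' (t'.sq t') ≫ p'.sbar) (prL j σ' t' t' ≫ p'.wbar hab)
    (by rw [← l₁.1, ← Category.assoc, hr.1]) (by rw [← l₁.2.1, ← Category.assoc, hr.2.1])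
  obtain rfl := (l₁.trans hχ).unique hX hr
  obtain ⟨χ', hχ', -⟩ := Hom2.exists_res hX (p.θR hX θP) (spMap f h.hσ (Tab.map_sq_of_eq f h.ht h.ht))
    (qT j σ' (t'.sq t') ≫ p'.sbar) (prR j σ' t' t' ≫ p'.wbar hab)
    (by rw [← r₁.1, ← Category.assoc, hr'.1]) (by rw [← r₁.2.1, ← Category.assoc, hr'.2.1])
  obtain rfl := (r₁.trans hχ').unique hX hr'
  exact Hom2.res_comp (Hom2.res_inv hX hχ) hχ'

section dat

variable {C₂ : Type u} [CommRing C₂] {a₂ b₂ : A →+* C₂}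
  {hab₂ : b₂.comp (algebraMap R₀ A) = a₂.comp (algebraMap R₀ A)} (θ₂ : Hom2 x₁ x₁ (cA j (a₂ := a₂)) (cB j hab₂))

/-- a datum lifting the descent isomorphism of a frame -/
structure Fr.Lifts (d : Dat ι a₂ b₂ σ) (p : Fr A P σ d.t) : Prop where
  hw : d.w = p.φ.comp bP
  same : SameRes x₁ x₁ (d.gbar j) (𝟙 _) θ₂ (p.η hX θP)

omit hX in
theorem Fr.wbar_eq {d : Dat ι a₂ b₂ σ} {p : Fr A P σ d.t} (hw : d.w = p.φ.comp bP) :
    p.wbar hab = d.wbar j := ovMap_congr _ hw.symm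

theorem Fr.Lifts.η_eq {d : Dat ι a₂ b₂ σ} {p : Fr A P σ d.t} (h : Fr.Lifts hX θP θ₂ d p) :
    d.η hX θ₂ = (p.η hX θP).cast (by rw [Fr.wbar_eq h.hw]) (by rw [Fr.wbar_eq h.hw]) := by
  obtain ⟨a, b, χ, h₁, h₂⟩ := h.same
  obtain rfl : prL j σ d.t d.t ≫ p.wbar hab = a := (Category.id_comp _).symm.trans h₂.1
  obtain rfl : prR j σ d.t d.t ≫ p.wbar hab = b := (Category.id_comp _).symm.trans h₂.2.1
  obtain rfl := h₂.unique hX (Hom2.res_id _)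
  exact (d.η_spec hX θ₂).unique hX (Hom2.res_cast h₁ rfl rfl (by rw [Fr.wbar_eq h.hw]) (by rw [Fr.wbar_eq h.hw]))

theorem Fr.Lifts.pull {f : T →+* T'} {d : Dat ι a₂ b₂ σ} {d' : Dat ι a₂ b₂ σ'} {p : Fr A P σ d.t} {p' : Fr A P σ' d'.t}
    (h : Fr.Lifts hX θP θ₂ d p) (hd : IsPull f d d') (hp : IsPullFr f p p') : Fr.Lifts hX θP θ₂ d' p' := by
  refine ⟨?_, ?_⟩
  · rw [hd.hw, h.hw, hp.hφ, RingHom.comp_assoc]
  · obtain ⟨a, b, χ, h₁, h₂⟩ := h.same.precomp hX (spMap f hd.hσ (Tab.map_sq_of_eq f hd.ht hd.ht))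
    rw [hd.spMap_gbar] at h₁
    rw [Category.comp_id] at h₂
    have r := hp.res_η hX θP
    obtain rfl : prL j σ' d'.t d'.t ≫ p'.wbar hab = a := by rw [← r.1, h₂.1]
    obtain rfl : prR j σ' d'.t d'.t ≫ p'.wbar hab = b := by rw [← r.2.1, h₂.2.1]
    exact ⟨_, _, χ, h₁, (h₂.unique hX r) ▸ Hom2.res_id χ⟩

/-- data lifting frames satisfy the cocycle condition -/
theorem Fr.Lifts.coc {d : Dat ι a₂ b₂ σ} {p : Fr A P σ d.t} (h : Fr.Lifts hX θP θ₂ d p) : d.Coc hX θ₂ := by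
  let s₁ := p₁₂ j σ d.t ≫ prL j σ d.t d.t
  let s₂ := p₁₂ j σ d.t ≫ prR j σ d.t d.t
  let s₃ := prR j σ (d.t.sq d.t) d.t
  have hw := Fr.wbar_eq (j := j) (hab := hab) h.hw
  have ea₁ : s₁ ≫ qT j σ d.t ≫ p.sbar = s₃ ≫ qT j σ d.t ≫ p.sbar := by
    simp only [s₁, s₃, ← Category.assoc]
    rw [Category.assoc (p₁₂ j σ d.t), (isPullback_prT d.t d.t).w, ← Category.assoc]
    congr 1
    exact (Category.assoc _ _ _).trans (isPullback_prT₃ (j := j) (σ := σ) d.t).w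
  have ea₂ : s₂ ≫ qT j σ d.t ≫ p.sbar = s₃ ≫ qT j σ d.t ≫ p.sbar := by
    simp only [s₂, s₃, ← Category.assoc]
    congr 1
    exact (Category.assoc _ _ _).trans (isPullback_prT₃ (j := j) (σ := σ) d.t).w
  obtain ⟨χ₁, r₁, -⟩ := Hom2.exists_res hX (p.θ hX θP) s₁ (s₃ ≫ qT j σ d.t ≫ p.sbar) (s₁ ≫ d.wbar j) ea₁ (by rw [hw])
  obtain ⟨χ₂, r₂, -⟩ := Hom2.exists_res hX (p.θ hX θP) s₂ (s₃ ≫ qT j σ d.t ≫ p.sbar) (s₂ ≫ d.wbar j) ea₂ (by rw [hw])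
  obtain ⟨χ₃, r₃, -⟩ := Hom2.exists_res hX (p.θ hX θP) s₃ (s₃ ≫ qT j σ d.t ≫ p.sbar) (s₃ ≫ d.wbar j) rfl (by rw [hw])
  -- restrictions of the descent isomorphism are quotients
  have key : ∀ (m : spT j σ ((d.t.sq d.t).sq d.t) ⟶ spT j σ (d.t.sq d.t))
      {u v : spT j σ ((d.t.sq d.t).sq d.t) ⟶ spT j σ d.t},
      m ≫ prL j σ d.t d.t = u → m ≫ prR j σ d.t d.t = v → ∀ (e : u ≫ qT j σ d.t ≫ p.sbar = s₃ ≫ qT j σ d.t ≫ p.sbar)
      (α : Hom2 x₁ x₁ (s₃ ≫ qT j σ d.t ≫ p.sbar) (u ≫ d.wbar j))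
      (β : Hom2 x₁ x₁ (s₃ ≫ qT j σ d.t ≫ p.sbar) (v ≫ d.wbar j)),
      Hom2.Res u (p.θ hX θP) α → Hom2.Res v (p.θ hX θP) β → Hom2.Res m (d.η hX θ₂) ((α.inv hX).comp β) := by
    intro m u v hu hv e α β hα hβ
    obtain ⟨l, r⟩ := p.θLR_spec hX θP
    obtain ⟨l', hl', -⟩ := Hom2.exists_res hX (p.θL hX θP) m (s₃ ≫ qT j σ d.t ≫ p.sbar) (u ≫ d.wbar j)
      (by rw [← prL_comp (t := d.t) (s := d.t), Category.assoc, reassoc_of% hu, e])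
      (by rw [hw, reassoc_of% hu])
    obtain ⟨r', hr', -⟩ := Hom2.exists_res hX (p.θR hX θP) m (s₃ ≫ qT j σ d.t ≫ p.sbar) (v ≫ d.wbar j)
      (by rw [← prL_comp (t := d.t) (s := d.t), Category.assoc, reassoc_of% hu, e])
      (by rw [hw, reassoc_of% hv])
    have e₁ := l.trans hl'
    rw [hu] at e₁
    obtain rfl := e₁.unique hX hα
    have e₂ := r.trans hr'
    rw [hv] at e₂
    obtain rfl := e₂.unique hX hβ
    rw [h.η_eq]
    exact Hom2.res_cast (Hom2.res_comp (Hom2.res_inv hX hl') hr') (by rw [hw]) (by rw [hw]) rfl rfl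
  obtain ⟨q₁, q₂, q₃⟩ := d.θ_spec hX θ₂
  show (d.θ₁₂ hX θ₂).comp (d.θ₂₃ hX θ₂) = d.θ₁₃ hX θ₂
  rw [q₁.unique hX (key (p₁₂ j σ d.t) rfl rfl ea₁ χ₁ χ₂ r₁ r₂),
    q₂.unique hX (key (p₂₃ j σ d.t) (by rw [p₂₃, IsPullback.lift_fst]) (by rw [p₂₃, IsPullback.lift_snd]) ea₂ χ₂ χ₃ r₂ r₃),
    q₃.unique hX (key (p₁₃ j σ d.t) (by rw [p₁₃, IsPullback.lift_fst]) (by rw [p₁₃, IsPullback.lift_snd]) ea₁ χ₁ χ₃ r₁ r₃),
    Hom2.comp_assoc, ← Hom2.comp_assoc χ₂, Hom2.comp_inv, Hom2.refl_comp]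

section desc

variable {M : Over S} {c : FibCat.overCat M ⥤ᵇ 𝒳} {mb : ovR j σ ⟶ M}

/-- restrictions to the two factors are compatible for a descended isomorphism -/
theorem Fr.compat (p : Fr A P σ t) (φB : Hom2 c x₁ (qT j σ t ≫ mb) (p.wbar hab)) (ψ : Hom2 c x₁ mb p.sbar)
    (χ : Hom2 c x₁ (qT j σ t ≫ mb) (qT j σ t ≫ p.sbar)) (hχ : Hom2.Res (qT j σ t) ψ χ)
    (hc : χ.comp (p.θ hX θP) = φB) {a : spT j σ (t.sq t) ⟶ M} (φ₁ : Hom2 c x₁ a (prL j σ t t ≫ p.wbar hab))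
    (φ₂ : Hom2 c x₁ a (prR j σ t t ≫ p.wbar hab)) (r₁ : Hom2.Res (prL j σ t t) φB φ₁)
    (r₂ : Hom2.Res (prR j σ t t) φB φ₂) : φ₁.comp (p.η hX θP) = φ₂ := by
  obtain rfl : prL j σ t t ≫ qT j σ t ≫ mb = a := r₁.1
  obtain ⟨l, r⟩ := p.θLR_spec hX θP
  obtain ⟨χ₁, h₁, -⟩ := Hom2.exists_res hX χ (prL j σ t t) (prL j σ t t ≫ qT j σ t ≫ mb) (qT j σ (t.sq t) ≫ p.sbar)
    rfl (by rw [← Category.assoc, prL_comp])
  obtain ⟨χ₂, h₂, -⟩ := Hom2.exists_res hX χ (prR j σ t t) (prL j σ t t ≫ qT j σ t ≫ mb) (qT j σ (t.sq t) ≫ p.sbar)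
    r₂.1 (by rw [← Category.assoc, prR_comp])
  have e₁ := hχ.trans h₁
  have e₂ := hχ.trans h₂
  rw [prL_comp] at e₁
  rw [prR_comp] at e₂
  obtain rfl := e₁.unique hX e₂
  subst hc
  rw [r₁.unique hX (Hom2.res_comp h₁ l), r₂.unique hX (Hom2.res_comp h₂ r), Fr.η, Hom2.comp_assoc,
    ← Hom2.comp_assoc (p.θL hX θP), Hom2.comp_inv, Hom2.refl_comp]

/-- an isomorphism compatible with the descent isomorphism of a frame descends to the constant point -/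
theorem Fr.exists_desc [Nonempty ι] (hS : Stk.IsStack (QuotSh.J Scheme.fppfPrecoverage S) 𝒳) (p : Fr A P σ t)
    (φB : Hom2 c x₁ (qT j σ t ≫ mb) (p.wbar hab))
    (hφ : ∀ {a : spT j σ (t.sq t) ⟶ M} (φ₁ : Hom2 c x₁ a (prL j σ t t ≫ p.wbar hab))
      (φ₂ : Hom2 c x₁ a (prR j σ t t ≫ p.wbar hab)),
      Hom2.Res (prL j σ t t) φB φ₁ → Hom2.Res (prR j σ t t) φB φ₂ → φ₁.comp (p.η hX θP) = φ₂) :
    ∃! ψ : Hom2 c x₁ mb p.sbar, ∀ χ : Hom2 c x₁ (qT j σ t ≫ mb) (qT j σ t ≫ p.sbar),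
      Hom2.Res (qT j σ t) ψ χ → χ.comp (p.θ hX θP) = φB := by
  obtain ⟨l, r⟩ := p.θLR_spec hX θP
  obtain ⟨ψ, hψ, hu⟩ := exists_desc_hom2 hS (qT j σ t) (isPullback_prT t t) (φB.comp ((p.θ hX θP).inv hX)) rfl rfl
    (by
      intro a' b' ψ₁ ψ₂ h₁ h₂
      obtain rfl : prL j σ t t ≫ qT j σ t ≫ mb = a' := h₁.1
      obtain rfl : qT j σ (t.sq t) ≫ p.sbar = b' := by rw [← h₁.2.1, ← Category.assoc, prL_comp]
      obtain ⟨φ₁, f₁, -⟩ := Hom2.exists_res hX φB (prL j σ t t) (prL j σ t t ≫ qT j σ t ≫ mb)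
        (prL j σ t t ≫ p.wbar hab) rfl rfl
      obtain ⟨φ₂, f₂, -⟩ := Hom2.exists_res hX φB (prR j σ t t) (prL j σ t t ≫ qT j σ t ≫ mb)
        (prR j σ t t ≫ p.wbar hab) h₂.1 rfl
      rw [h₁.unique hX (Hom2.res_comp f₁ (Hom2.res_inv hX l)), h₂.unique hX (Hom2.res_comp f₂ (Hom2.res_inv hX r)),
        ← hφ φ₁ φ₂ f₁ f₂, Fr.η, Hom2.comp_assoc, Hom2.comp_assoc, Hom2.comp_inv, Hom2.comp_refl])
  refine ⟨ψ, fun χ hχ => ?_, fun ψ' h' => hu ψ' ?_⟩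
  · rw [hχ.unique hX hψ, Hom2.comp_assoc, Hom2.inv_comp, Hom2.comp_refl]
  · obtain ⟨χ, hχ, -⟩ := Hom2.exists_res hX ψ' (qT j σ t) (qT j σ t ≫ mb) (qT j σ t ≫ p.sbar) rfl rfl
    rwa [← h' χ hχ, Hom2.comp_assoc, Hom2.comp_inv, Hom2.comp_refl]

/-- a datum lifts a frame when an isomorphism descends -/
theorem Fr.lifts_of_desc {d : Dat ι a₂ b₂ σ} (p : Fr A P σ d.t) (hw : d.w = p.φ.comp bP)
    (φB : Hom2 c x₁ (qT j σ d.t ≫ mb) (d.wbar j))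
    (hφ : ∀ {a : spT j σ (d.t.sq d.t) ⟶ M} (φ₁ : Hom2 c x₁ a (prL j σ d.t d.t ≫ d.wbar j))
      (φ₂ : Hom2 c x₁ a (prR j σ d.t d.t ≫ d.wbar j)),
      Hom2.Res (prL j σ d.t d.t) φB φ₁ → Hom2.Res (prR j σ d.t d.t) φB φ₂ → φ₁.comp (d.η hX θ₂) = φ₂)
    (ψ : Hom2 c x₁ mb p.sbar) (χ : Hom2 c x₁ (qT j σ d.t ≫ mb) (qT j σ d.t ≫ p.sbar))
    (hχ : Hom2.Res (qT j σ d.t) ψ χ)
    (hc : χ.comp (p.θ hX θP) = φB.cast rfl (Fr.wbar_eq hw).symm) : Fr.Lifts hX θP θ₂ d p := by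
  have e := Fr.wbar_eq (j := j) (hab := hab) hw
  refine ⟨hw, _, _, p.η hX θP, ?_, Hom2.res_id _⟩
  obtain ⟨φ₁, f₁, -⟩ := Hom2.exists_res hX φB (prL j σ d.t d.t) (prL j σ d.t d.t ≫ qT j σ d.t ≫ mb)
    (prL j σ d.t d.t ≫ d.wbar j) rfl rfl
  obtain ⟨φ₂, f₂, -⟩ := Hom2.exists_res hX φB (prR j σ d.t d.t) (prL j σ d.t d.t ≫ qT j σ d.t ≫ mb)
    (prR j σ d.t d.t ≫ d.wbar j) (by rw [← Category.assoc, ← Category.assoc, (isPullback_prT d.t d.t).w]) rfl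
  have h₁ := p.compat hX θP _ ψ χ hχ hc _ _
    (Hom2.res_cast f₁ rfl e.symm rfl (congrArg (prL j σ d.t d.t ≫ ·) e.symm))
    (Hom2.res_cast f₂ rfl e.symm rfl (congrArg (prR j σ d.t d.t ≫ ·) e.symm))
  have key : ∀ {V : Over S} {a : V ⟶ M} {u v u' v' : V ⟶ ovR j (algebraMap R₀ A)} (α : Hom2 c x₁ a u')
      (β : Hom2 c x₁ a v') (η' : Hom2 x₁ x₁ u' v') (η : Hom2 x₁ x₁ u v) (eu : u' = u) (ev : v' = v),
      (α.cast rfl eu).comp η = β.cast rfl ev → α.comp η' = β → η = η'.cast eu ev := by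
    intro V a u v u' v' α β η' η eu ev h h'
    subst eu ev
    calc η = ((α.inv hX).comp α).comp η := by rw [Hom2.inv_comp, Hom2.refl_comp]
      _ = (α.inv hX).comp β := by rw [Hom2.comp_assoc]; exact congrArg _ h
      _ = η' := by rw [← h', ← Hom2.comp_assoc, Hom2.inv_comp, Hom2.refl_comp]
  have h2 := key φ₁ φ₂ (d.η hX θ₂) (p.η hX θP) (congrArg (prL j σ d.t d.t ≫ ·) e.symm)
    (congrArg (prR j σ d.t d.t ≫ ·) e.symm) h₁ (hφ φ₁ φ₂ f₁ f₂)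
  rw [h2]
  exact Hom2.res_cast (d.η_spec hX θ₂) rfl rfl _ _

/-- an isomorphism compatible with the comparison of a lifted datum descends -/
theorem Fr.Lifts.exists_desc [Nonempty ι] (hS : Stk.IsStack (QuotSh.J Scheme.fppfPrecoverage S) 𝒳)
    {d : Dat ι a₂ b₂ σ} {p : Fr A P σ d.t} (h : Fr.Lifts hX θP θ₂ d p) (φB : Hom2 c x₁ (qT j σ d.t ≫ mb) (d.wbar j))
    (hφ : ∀ {a : spT j σ (d.t.sq d.t) ⟶ M} (φ₁ : Hom2 c x₁ a (prL j σ d.t d.t ≫ d.wbar j))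
      (φ₂ : Hom2 c x₁ a (prR j σ d.t d.t ≫ d.wbar j)),
      Hom2.Res (prL j σ d.t d.t) φB φ₁ → Hom2.Res (prR j σ d.t d.t) φB φ₂ → φ₁.comp (d.η hX θ₂) = φ₂) :
    ∃! ψ : Hom2 c x₁ mb p.sbar, ∀ χ : Hom2 c x₁ (qT j σ d.t ≫ mb) (qT j σ d.t ≫ p.sbar),
      Hom2.Res (qT j σ d.t) ψ χ → χ.comp (p.θ hX θP) = φB.cast rfl (Fr.wbar_eq h.hw).symm := by
  have e := Fr.wbar_eq (j := j) (hab := hab) h.hw
  refine p.exists_desc hX θP hS _ fun {a} φ₁ φ₂ r₁ r₂ => ?_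
  have g₁ := Hom2.res_cast r₁ rfl e rfl (congrArg (prL j σ d.t d.t ≫ ·) e)
  have g₂ := Hom2.res_cast r₂ rfl e rfl (congrArg (prR j σ d.t d.t ≫ ·) e)
  rw [Hom2.cast_cast φB rfl e.symm] at g₁ g₂
  have hh := hφ _ _ g₁ g₂
  rw [h.η_eq] at hh
  have key : ∀ {V : Over S} {a : V ⟶ M} {u v u' v' : V ⟶ ovR j (algebraMap R₀ A)} (α : Hom2 c x₁ a u)
      (β : Hom2 c x₁ a v) (η : Hom2 x₁ x₁ u v) (eu : u = u') (ev : v = v') (eu' : u = u') (ev' : v = v'),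
      (α.cast rfl eu).comp (η.cast eu' ev') = β.cast rfl ev → α.comp η = β := by
    intro V a u v u' v' α β η eu ev eu' ev' h
    subst eu ev
    exact h
  exact key φ₁ φ₂ (p.η hX θP) _ _ _ _ hh

end desc

omit hX in
/-- a lift of an isomorphism to the chart is a frame -/
theorem exists_fr_of_lift (hX : FibCat.IsFibGrpd 𝒳.p) [Mono j] {d : Dat ι a₂ b₂ σ} (str : A →+* T)
    (hstr : str.comp (algebraMap R₀ A) = σ)
    (θn : Hom2 x₁ x₁ (qT j σ d.t ≫ ovMap (j := j) str hstr) (d.wbar j))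
    (l : spT j σ d.t ⟶ ovR j ((algebraMap A P).comp (algebraMap R₀ A))) (hl : SameRes x₁ x₁ l (𝟙 _) θP θn) :
    ∃ (p : Fr A P σ d.t) (hs : p.str = str) (hw : d.w = p.φ.comp bP), p.φbar = l ∧
      θn = (p.θ hX θP).cast (congrArg (qT j σ d.t ≫ ·) (ovMap_congr _ hs)) (Fr.wbar_eq hw) := by
  obtain ⟨φ, hφ, rfl⟩ := exists_ovMap l
  obtain ⟨e₁, e₂⟩ := hl.endpoints
  rw [Category.id_comp, ovMap_comp, ovMap_comp] at e₁
  rw [Category.id_comp, ovMap_comp] at e₂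
  have hA : φ.comp (algebraMap A P) = (algebraMap T d.t.Alg).comp str := ovMap_injective e₁
  have hw : d.w = φ.comp bP := (ovMap_injective e₂).symm
  refine ⟨⟨str, hstr, φ, hA⟩, rfl, hw, rfl, ?_⟩
  obtain ⟨a, b, χ, r₁, r₂⟩ := hl
  obtain rfl : qT j σ d.t ≫ ovMap str hstr = a := (Category.id_comp _).symm.trans r₂.1
  obtain rfl : d.wbar j = b := (Category.id_comp _).symm.trans r₂.2.1
  obtain rfl := r₂.unique hX (Hom2.res_id _)
  exact r₁.unique hX (Hom2.res_cast (Fr.θ_spec hX θP ⟨str, hstr, φ, hA⟩) rfl rfl rfl (Fr.wbar_eq hw))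

end dat

end Groth.Agent.ArtinAtlas

end
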