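import Groth.Agent.ArtinAtlas.BandedGerbe
import Groth.Agent.AlgStLib.GerbeSmooth
import Groth.Agent.AlgStLib.LocQCalc
import Groth.Agent.PtsDense.Basic
import Groth.Agent.Hensel.Smooth
import Mathlib.RingTheory.Henselian

/-!
# Gerbes over strictly henselian local rings have points
-/

set_option autoImplicit false
set_option backward.isDefEq.respectTransparency false
set_option backward.isDefEq.respectTransparency.types false
set_option linter.style.haveILetI false
universe u

noncomputable section

namespace Groth.Agent.ArtinAtlas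

open CategoryTheory CategoryTheory.Limits AlgebraicGeometry Opposite Groth.Agent.FibCatRep
  Groth.Agent.FibCat2Misc Groth.Agent.AlgSpLib Groth.Agent.StkBasic Groth.Agent.AlgStLib
open _root_.AlgSp _root_.AlgSt

/-- smooth surjections onto strictly henselian local schemes have sections -/
theorem exists_section_smooth (R : Type u) [CommRing R] [HenselianLocalRing R]
    [IsSepClosed (IsLocalRing.ResidueField R)] {U : Scheme.{u}} (f : U ⟶ Spec (CommRingCat.of R)) [Smooth f]
    [Surjective f] : ∃ σ : Spec (CommRingCat.of R) ⟶ U, σ ≫ f = 𝟙 _ := by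
  let κ := IsLocalRing.ResidueField R
  let res : Spec (CommRingCat.of κ) ⟶ Spec (CommRingCat.of R) :=
    Spec.map (CommRingCat.ofHom (IsLocalRing.residue R))
  haveI : Smooth (pullback.snd f res) := MorphismProperty.pullback_snd (P := @Smooth) _ _ ‹_›
  haveI : Nonempty ↥(Spec (CommRingCat.of κ)) := inferInstanceAs (Nonempty (PrimeSpectrum κ))
  haveI : Surjective (pullback.snd f res) := MorphismProperty.pullback_snd (P := @Surjective) _ _ ‹_›
  haveI : Nonempty ↥(pullback f res) :=
    ⟨((pullback.snd f res).surjective (Classical.arbitrary _)).choose⟩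
  obtain ⟨-, s, hs, -⟩ := (Groth.Agent.PtsDense.dense_rational κ (pullback.snd f res)).nonempty
  let t : Spec (CommRingCat.of κ) ⟶ U := s ≫ pullback.fst f res
  have ht : t ≫ f = res := by
    simp only [t, Category.assoc, pullback.condition]
    rw [← Category.assoc, hs, Category.id_comp]
  let x := t (IsLocalRing.closedPoint κ)
  obtain ⟨D, hD, hx, -⟩ := exists_isAffineOpen_mem_and_subset (show x ∈ (⊤ : U.Opens) from trivial)
  have hr : Set.range t ⊆ Set.range hD.fromSpec := by
    rintro - ⟨q, rfl⟩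
    rw [hD.range_fromSpec, Subsingleton.elim (α := PrimeSpectrum κ) q (IsLocalRing.closedPoint κ)]
    exact hx
  let t' := IsOpenImmersion.lift hD.fromSpec t hr
  let φ := Spec.preimage (hD.fromSpec ≫ f)
  let ψ := Spec.preimage t'
  haveI : Smooth (Spec.map φ) := by
    rw [Spec.map_preimage]
    infer_instance
  have hφ : φ.hom.Smooth := (HasRingHomProperty.Spec_iff (P := @Smooth)).1 inferInstance
  have hψ : φ ≫ ψ = CommRingCat.ofHom (IsLocalRing.residue R) := Spec.map_injective (by
    rw [Spec.map_comp, Spec.map_preimage, Spec.map_preimage, ← Category.assoc, IsOpenImmersion.lift_fac]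
    exact ht)
  letI : Algebra R Γ(U, D) := φ.hom.toAlgebra
  haveI : Algebra.Smooth R Γ(U, D) := hφ
  haveI : HenselianRing R (IsLocalRing.maximalIdeal R) := inferInstance
  let σ₀ : Γ(U, D) →ₐ[R] R ⧸ IsLocalRing.maximalIdeal R :=
    { (show (Γ(U, D) : Type u) →+* κ from ψ.hom) with
      commutes' := fun r => congrArg (fun g : CommRingCat.of R ⟶ CommRingCat.of κ => g.hom r) hψ }
  obtain ⟨τ, -⟩ := Groth.Agent.Hensel.exists_smooth_lift Γ(U, D) σ₀
  refine ⟨Spec.map (CommRingCat.ofHom τ.toRingHom) ≫ hD.fromSpec, ?_⟩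
  rw [Category.assoc, ← Spec.map_preimage (hD.fromSpec ≫ f), ← Spec.map_comp, ← Spec.map_id]
  congr 1
  exact CommRingCat.hom_ext (RingHom.ext fun r => τ.commutes r)

/-- gerbes over strictly henselian local rings have objects -/
theorem nonempty_fiber_of_gerbe (R : Type u) [CommRing R] [HenselianLocalRing R]
    [IsSepClosed (IsLocalRing.ResidueField R)] {ℋ : AlgSt.Cat (Spec (CommRingCat.of R))}
    (hℋ : IsAlgStack Scheme.fppfPrecoverage ℋ)
    (hger : Gerb.IsGerbe (QuotSh.J Scheme.fppfPrecoverage (Spec (CommRingCat.of R))) ℋ) :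
    Nonempty (ℋ.p.Fiber (Over.mk (𝟙 (Spec (CommRingCat.of R))))) := by
  obtain ⟨U, V, x, y, h, -, hx, hxs, hy, hh⟩ :=
    GerbeMor.locQ_smooth_gerbe hℋ AlgStLib.isAlgStack_self (FibCat.toSelf ℋ) hger.2
  obtain rfl : y = FibCat.toSelf (FibCat.overCat V) := by
    obtain ⟨F, hF⟩ := y
    obtain rfl : F = (FibCat.overCat V).p := hF
    rfl
  -- the chart of the base is smooth
  let B := base (Spec (CommRingCat.of R))
  let tV : V ⟶ B := Over.homMk V.hom (Category.comp_id _)
  have hy' : RepByAlgSpWith (LocP @Smooth) (FibCat.toSelf (Stk.ofPsh ((pyon _).obj V))) := by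
    have := (repWith_overCat_iff _ V _).1 hy
    rwa [comp_toSelf] at this
  haveI : Smooth V.hom := prop_of_repWith_yon etST_smooth cls_smooth
    ((repWith_iff_of_equiv _ (FibCat.toSelf (Stk.ofPsh ((pyon _).obj V))) (Stk.ofPshMap ((yon _).map tV).hom)
      (BasedFunctor.id _) (FibCat.toSelf (Stk.ofPsh ((pyon _).obj B))) isEquivOver_id isEquivOver_toSelf_base
      (eqToIso (AlgStLib.comp_toSelf _))).1 hy') (h := tV)
  haveI : Smooth h.left := (locP_yon_iff etST_smooth h).1 hh
  haveI : Smooth U.hom := by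
    rw [← Over.w h]
    infer_instance
  -- the atlas maps onto the base
  obtain ⟨W, z, -, -, hW⟩ := exists_point_cover hℋ.isStack hger.2.1
  haveI := hW
  haveI := respectsIso_surjective (S := Spec (CommRingCat.of R))
  obtain ⟨D, hD⟩ := exists_pairSp hℋ.isStack.1 z (AlgStLib.repByAlgSp1_of_with hx)
  have hs : IsSurjectiveMor D.pr₁ := hD _ inferInstance hxs
  obtain ⟨C₀, p, hp, hps⟩ := D.isAlgSpace.atlas
  obtain ⟨a, b, θ, hθ⟩ := D.exists_cl (sec p)
  have e : p ≫ D.pr₁ = (yon _).map a := sec_injective (by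
    rw [sec_map]
    exact (ULift.ext _ _ ((D.pr₁_eq hθ).trans (Category.id_comp a).symm) :
      _ = (sec ((yon _).map a) : ULift.{u + 1} (C₀ ⟶ W))))
  haveI : Surjective a.left := ⟨fun t => by
    obtain ⟨q, hq⟩ := hs (Points.ofScheme W t)
    obtain ⟨k, rfl⟩ := AlgSpLib.ofPt_surjective hps q
    rw [Points.map_ofPt, e, AlgSpLib.ofScheme_map] at hq
    exact ⟨k, (Points.schemeEquiv W).injective hq⟩⟩
  haveI : Surjective U.hom := by
    haveI : Surjective (b.left ≫ U.hom) := by
      rw [Over.w b, ← Over.w a]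
      infer_instance
    exact Surjective.of_comp b.left U.hom
  obtain ⟨σ, hσ⟩ := exists_section_smooth R U.hom
  let s : Over.mk (𝟙 (Spec (CommRingCat.of R))) ⟶ U := Over.homMk σ hσ
  exact ⟨⟨ob x s, p_ob x s⟩⟩

end Groth.Agent.ArtinAtlas

end
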