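import Groth.Agent.ArtinAtlas.Pairs
import Groth.Agent.AlgStLib.StackCrit
import Groth.Prelude.Def_AlgSt

/-!
# Gluing charts along covering families
-/

set_option autoImplicit false
set_option backward.isDefEq.respectTransparency false
set_option backward.isDefEq.respectTransparency.types false
set_option linter.style.haveILetI false
universe v₂ u₂ u

noncomputable section

namespace Groth.Agent.ArtinAtlas

open CategoryTheory CategoryTheory.Limits AlgebraicGeometry Groth.Agent.FibCatRep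

variable {S : Scheme.{u}} {𝒳 : BasedCategory.{v₂, u₂} (Over S)} {T : Over S}

/-- descent data for a family -/
structure GlueData (R : Sieve T) where
  /-- index -/
  ι : Type u
  /-- members -/
  W : ι → Over S
  f : ∀ i, W i ⟶ T
  gen : ∀ {V : Over S} {a : V ⟶ T}, R a ↔ ∃ (i : ι) (g : V ⟶ W i), g ≫ f i = a
  /-- charts on the members -/
  P : ∀ i, FibCat.overCat (W i) ⥤ᵇ 𝒳
  /-- transition isomorphisms -/
  θ : ∀ {i j : ι} {V : Over S} (g : V ⟶ W i) (g' : V ⟶ W j), g ≫ f i = g' ≫ f j → Hom2 (P i) (P j) g g'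
  natural : ∀ {i j : ι} {V V' : Over S} (k : V' ⟶ V) (g : V ⟶ W i) (g' : V ⟶ W j) (h : g ≫ f i = g' ≫ f j)
    (g₁ : V' ⟶ W i) (g₁' : V' ⟶ W j) (e : k ≫ g = g₁) (e' : k ≫ g' = g₁') (h₁ : g₁ ≫ f i = g₁' ≫ f j),
    Hom2.Res k (θ g g' h) (θ g₁ g₁' h₁)
  cocycle : ∀ {i j l : ι} {V : Over S} (g : V ⟶ W i) (g' : V ⟶ W j) (g'' : V ⟶ W l) (h : g ≫ f i = g' ≫ f j)
    (h' : g' ≫ f j = g'' ≫ f l), (θ g g' h).comp (θ g' g'' h') = θ g g'' (h.trans h')

variable {R : Sieve T}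

theorem GlueData.θ_refl (hX : FibCat.IsFibGrpd 𝒳.p) (d : GlueData (𝒳 := 𝒳) R) {i : d.ι} {V : Over S}
    (g : V ⟶ d.W i) : d.θ g g rfl = Hom2.refl g := by
  have h := d.cocycle g g g rfl rfl
  calc d.θ g g rfl = (((d.θ g g rfl).inv hX).comp (d.θ g g rfl)).comp (d.θ g g rfl) := by
        rw [Hom2.inv_comp, Hom2.refl_comp]
    _ = _ := by rw [Hom2.comp_assoc, h, Hom2.inv_comp]

/-- glued charts exist in stacks -/
theorem GlueData.exists_glue (hX : FibCat.IsFibGrpd 𝒳.p) (hR : Stk.IsStackFor R 𝒳) (d : GlueData (𝒳 := 𝒳) R) :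
    ∃ (G : FibCat.overCat T ⥤ᵇ 𝒳) (φ : ∀ {i : d.ι} {V : Over S} (g : V ⟶ d.W i), Hom2 G (d.P i) (g ≫ d.f i) g),
      (∀ {i : d.ι} {V V' : Over S} (k : V' ⟶ V) (g : V ⟶ d.W i), Hom2.Res k (φ g) (φ (k ≫ g))) ∧
      ∀ {i j : d.ι} {V : Over S} (g : V ⟶ d.W i) (g' : V ⟶ d.W j) (h : g ≫ d.f i = g' ≫ d.f j),
        (φ g).comp (d.θ g g' h) = (Hom2.ofEq h).comp (φ g') := by
  have hch : ∀ w : (Stk.sieveCat R).obj, ∃ (i : d.ι) (g : w.obj.left ⟶ d.W i), g ≫ d.f i = w.obj.hom :=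
    fun w => d.gen.1 w.property
  choose ii gg hgg using hch
  have hm : ∀ {w' w : (Stk.sieveCat R).obj} (m : w' ⟶ w),
      gg w' ≫ d.f (ii w') = (m.hom.left ≫ gg w) ≫ d.f (ii w) := fun {w' w} m => by
    rw [Category.assoc, hgg, hgg, Over.w m.hom]
  let Hmap : ∀ {w' w : (Stk.sieveCat R).obj} (_ : w' ⟶ w),
      ob (d.P (ii w')) (gg w') ⟶ ob (d.P (ii w)) (gg w) := fun {w' w} m =>
    (d.θ (gg w') (m.hom.left ≫ gg w) (hm m)).hom ≫ wm (d.P (ii w)) m.hom.left rfl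
  have hmap : ∀ {w' w : (Stk.sieveCat R).obj} (m : w' ⟶ w),
      𝒳.p.map (Hmap m) = eqToHom (p_ob _ _) ≫ m.hom.left ≫ eqToHom (p_ob _ _).symm := fun {w' w} m => by
    show 𝒳.p.map (_ ≫ _) = _
    rw [Functor.map_comp, (d.θ _ _ (hm m)).map, map_wm]
    simp
  let H : Stk.sieveCat R ⥤ᵇ 𝒳 :=
    { toFunctor :=
        { obj := fun w => ob (d.P (ii w)) (gg w)
          map := fun {w' w} m => Hmap m
          map_id := fun w => by
            have key : ∀ (a : w.obj.left ⟶ d.W (ii w)) (e : 𝟙 _ ≫ gg w = a) (h : gg w ≫ d.f (ii w) = a ≫ d.f (ii w)),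
                (d.θ (gg w) a h).hom ≫ wm (d.P (ii w)) (𝟙 _) e = 𝟙 _ := by
              intro a e h
              obtain rfl : a = gg w := e.symm.trans (Category.id_comp _)
              rw [d.θ_refl hX, wm_id]
              exact Category.id_comp _
            exact key _ rfl _
          map_comp := fun {w'' w' w} n m => by
            show (d.θ _ _ (hm (n ≫ m))).hom ≫ wm _ _ _ = ((d.θ _ _ (hm n)).hom ≫ wm _ _ _) ≫ (d.θ _ _ (hm m)).hom ≫ wm _ _ _
            have hk : (n.hom.left ≫ gg w') ≫ d.f (ii w') = (n.hom.left ≫ m.hom.left ≫ gg w) ≫ d.f (ii w) := by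
              rw [Category.assoc, hm m, ← Category.assoc]
            obtain ⟨_, _, e⟩ := d.natural n.hom.left (gg w') (m.hom.left ≫ gg w) (hm m) (n.hom.left ≫ gg w')
              (n.hom.left ≫ m.hom.left ≫ gg w) rfl rfl hk
            have hc := congrArg Hom2.hom (d.cocycle (gg w'') (n.hom.left ≫ gg w') (n.hom.left ≫ m.hom.left ≫ gg w) (hm n) hk)
            change _ ≫ _ = _ at hc
            rw [Category.assoc, ← reassoc_of% e, wm_comp _ _ _ rfl rfl, ← Category.assoc, hc]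
            exact congrArg (fun t => t) (by congr 1 <;> simp) }
      w := CategoryTheory.Functor.ext (fun w => p_ob _ _) fun w' w m => hmap m }
  haveI : (Stk.resSieve R 𝒳).IsEquivalence := hR
  let G := (Stk.resSieve R 𝒳).objPreimage H
  let β : (Stk.resSieve R 𝒳).obj G ≅ H := (Stk.resSieve R 𝒳).objObjPreimageIso H
  have hw : ∀ {i : d.ι} {V : Over S} (g : V ⟶ d.W i), R (g ≫ d.f i) := fun g => d.gen.2 ⟨_, g, rfl⟩
  let wOf : ∀ {i : d.ι} {V : Over S} (g : V ⟶ d.W i), (Stk.sieveCat R).obj := fun {i V} g =>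
    ⟨Over.mk (g ≫ d.f i), hw g⟩
  let ψ : ∀ {i : d.ι} {V : Over S} (g : V ⟶ d.W i),
      Hom2 G (d.P (ii (wOf g))) (g ≫ d.f i) (gg (wOf g)) := fun {i V} g =>
    ⟨β.hom.toNatTrans.app (wOf g), (map_app β.hom (wOf g)).trans rfl⟩
  let φ : ∀ {i : d.ι} {V : Over S} (g : V ⟶ d.W i), Hom2 G (d.P i) (g ≫ d.f i) g := fun {i V} g =>
    (ψ g).comp (d.θ (gg (wOf g)) g (hgg (wOf g)))
  refine ⟨G, φ, fun {i V V'} k g => ?_, fun {i j V} g g' h => ?_⟩
  · let m : wOf (k ≫ g) ⟶ wOf g := ObjectProperty.homMk (Over.homMk k (Category.assoc _ _ _).symm)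
    have hk : (k ≫ gg (wOf g)) ≫ d.f (ii (wOf g)) = (k ≫ g) ≫ d.f i := by
      rw [Category.assoc, hgg, Category.assoc]; rfl
    have r₁ : Hom2.Res k (ψ g) ((ψ (k ≫ g)).comp (d.θ (gg (wOf (k ≫ g))) (k ≫ gg (wOf g))
        ((hgg (wOf (k ≫ g))).trans hk.symm))) := by
      refine ⟨(Category.assoc _ _ _).symm, rfl, ?_⟩
      show (β.hom.toNatTrans.app (wOf (k ≫ g)) ≫ _) ≫ _ = _ ≫ β.hom.toNatTrans.app (wOf g)
      rw [Category.assoc]
      exact (β.hom.toNatTrans.naturality m).symm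
    have r := Hom2.res_comp r₁ (d.natural k (gg (wOf g)) g (hgg (wOf g)) (k ≫ gg (wOf g)) (k ≫ g) rfl rfl hk)
    rw [Hom2.comp_assoc, d.cocycle] at r
    exact r
  · show ((ψ g).comp (d.θ _ g _)).comp (d.θ g g' h) = (Hom2.ofEq h).comp ((ψ g').comp (d.θ _ g' _))
    rw [Hom2.comp_assoc, d.cocycle]
    suffices ∀ (a a' : V ⟶ T) (ha : R a) (ha' : R a') (e : a = a') (p : gg ⟨Over.mk a, ha⟩ ≫ d.f _ = g' ≫ d.f j)
        (p' : gg ⟨Over.mk a', ha'⟩ ≫ d.f _ = g' ≫ d.f j),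
        (⟨β.hom.toNatTrans.app ⟨Over.mk a, ha⟩, (map_app β.hom _).trans rfl⟩ : Hom2 G (d.P _) a (gg ⟨Over.mk a, ha⟩)).comp
            (d.θ (gg ⟨Over.mk a, ha⟩) g' p) =
          (Hom2.ofEq e).comp ((⟨β.hom.toNatTrans.app ⟨Over.mk a', ha'⟩, (map_app β.hom _).trans rfl⟩ :
            Hom2 G (d.P _) a' (gg ⟨Over.mk a', ha'⟩)).comp (d.θ (gg ⟨Over.mk a', ha'⟩) g' p')) from
      this _ _ _ _ h _ _
    rintro a _ ha ha' rfl p p'
    exact Hom2.ext (by simp [Hom2.comp, Hom2.ofEq])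

/-- isomorphisms glue uniquely -/
theorem existsUnique_hom2 (hX : FibCat.IsFibGrpd 𝒳.p) (hR : Stk.IsPrestackFor R 𝒳)
    {G G' : FibCat.overCat T ⥤ᵇ 𝒳} (φ : ∀ {V : Over S} (a : V ⟶ T), R a → Hom2 G G' a a)
    (hφ : ∀ {V V' : Over S} (k : V' ⟶ V) (a : V ⟶ T) (ha : R a),
      Hom2.Res k (φ a ha) (φ (k ≫ a) (R.downward_closed ha k))) :
    ∃! θ : Hom2 G G' (𝟙 T) (𝟙 T), ∀ {V : Over S} (a : V ⟶ T) (ha : R a), Hom2.Res a θ (φ a ha) := by
  haveI := hR.1
  haveI := hR.2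
  let α : (Stk.resSieve R 𝒳).obj G ⟶ (Stk.resSieve R 𝒳).obj G' :=
    BasedNatTrans.mk
      { app := fun w => (φ w.obj.hom w.property).hom
        naturality := fun w' w m => by
          have key : ∀ (a : w'.obj.left ⟶ T) (e : m.hom.left ≫ w.obj.hom = a) (ha : R a),
              G.map (Over.homMk m.hom.left e : Over.mk a ⟶ w.obj) ≫ (φ w.obj.hom w.property).hom =
                (φ a ha).hom ≫ G'.map (Over.homMk m.hom.left e : Over.mk a ⟶ w.obj) := by
            rintro a rfl ha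
            exact (hφ m.hom.left w.obj.hom w.property).2.2.symm
          exact key w'.obj.hom (Over.w m.hom) w'.property }
      fun w => IsHomLift.of_fac' 𝒳.p _ _ (G.w_obj w.obj) (G'.w_obj w.obj) ((φ _ _).map.trans (by simp))
  obtain ⟨β, hβ⟩ := (Stk.resSieve R 𝒳).map_surjective α
  have main : ∀ (γ : G ⟶ G') {V : Over S} (a : V ⟶ T),
      wm G a (Category.comp_id a) ≫ γ.toNatTrans.app (Over.mk (𝟙 T)) =
        γ.toNatTrans.app (Over.mk a) ≫ wm G' a (Category.comp_id a) := fun γ V a =>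
    γ.toNatTrans.naturality _
  refine ⟨⟨β.toNatTrans.app (Over.mk (𝟙 T)), (map_app β _).trans rfl⟩, fun {V} a ha =>
    ⟨Category.comp_id a, Category.comp_id a, ?_⟩, fun θ hθ => ?_⟩
  · show _ = _ ≫ β.toNatTrans.app (Over.mk (𝟙 T))
    rw [main]
    exact congrArg (fun t : (Stk.resSieve R 𝒳).obj G ⟶ (Stk.resSieve R 𝒳).obj G' =>
      t.toNatTrans.app ⟨Over.mk a, ha⟩ ≫ wm G' a (Category.comp_id a)) hβ.symm
  · -- every such isomorphism is a natural transformation on the slice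
    have hx : ∀ z : Over T, ∃! χ : G.obj z ⟶ G'.obj z,
        𝒳.p.map χ = eqToHom ((G.w_obj z).trans (G'.w_obj z).symm) ∧
          χ ≫ G'.map (AlgStLib.StackCrit.toTop z) = G.map (AlgStLib.StackCrit.toTop z) ≫ θ.hom :=
      fun z => existsUnique_cart hX _ _ _ (by simp [map_map, θ.map])
    choose χ hχ hu using hx
    let γ' : G.toFunctor ⟶ G'.toFunctor :=
      { app := χ
        naturality := fun z z' n => by
          refine cancel hX (G'.map (AlgStLib.StackCrit.toTop z')) (by simp [map_map, (hχ z).1, (hχ z').1]) ?_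
          have hm : n ≫ AlgStLib.StackCrit.toTop z' = AlgStLib.StackCrit.toTop z :=
            Over.OverMorphism.ext (Over.w n)
          rw [Category.assoc, Category.assoc, (hχ z').2, ← Functor.map_comp_assoc, ← Functor.map_comp, hm,
            (hχ z).2] }
    let γ : G ⟶ G' := BasedNatTrans.mk γ' fun z => IsHomLift.of_fac' 𝒳.p _ _ (G.w_obj z) (G'.w_obj z)
      ((hχ z).1.trans (by simp))
    have hγ : (Stk.resSieve R 𝒳).map γ = α := by
      apply BasedNatTrans.homCategory.ext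
      ext w
      show χ w.obj = (φ w.obj.hom w.property).hom
      exact (hu w.obj _ ⟨(φ w.obj.hom w.property).map, (hθ w.obj.hom w.property).2.2⟩).symm
    have e : γ = β := (Stk.resSieve R 𝒳).map_injective (hγ.trans hβ.symm)
    have ht : AlgStLib.StackCrit.toTop (Over.mk (𝟙 T)) = 𝟙 _ := Over.OverMorphism.ext rfl
    apply Hom2.ext
    show θ.hom = β.toNatTrans.app (Over.mk (𝟙 T))
    rw [← e]
    refine hu _ θ.hom ⟨θ.map, ?_⟩
    rw [ht, CategoryTheory.Functor.map_id, CategoryTheory.Functor.map_id, Category.comp_id, Category.id_comp]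

end Groth.Agent.ArtinAtlas

end
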