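import Groth.Agent.ArtinAtlas.Presentation
import Groth.Agent.AlgStLib.FieldPt
import Groth.Agent.AlgStLib.LocalSub
import Groth.Agent.AlgStLib.ResGerbe
import Groth.Agent.AlgStLib.IsoClassSp
import Groth.Agent.GerbLib.Basic
import Groth.Agent.ConsEngine.Core

/-!
# The substack of objects which are locally images of a field point
-/

set_option autoImplicit false
set_option backward.isDefEq.respectTransparency false
set_option backward.isDefEq.respectTransparency.types false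
set_option linter.style.haveILetI false
universe u

noncomputable section

namespace Groth.Agent.ArtinAtlas

open CategoryTheory CategoryTheory.Limits AlgebraicGeometry Opposite Groth.Agent.FibCatRep
  Groth.Agent.FibCat2Misc Groth.Agent.AlgSpLib Groth.Agent.StkBasic Groth.Agent.AlgStLib
open _root_.AlgSp _root_.AlgSt

variable {S : Scheme.{u}} {𝒵 : AlgSt.Cat S} {Y : Over S}

section image

variable (h𝒵 : FibCat.IsFibGrpd 𝒵.p) (z : AlgSt.ofSp (spOf Y).obj ⥤ᵇ 𝒵)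

/-- the morphisms along which an object comes from the point -/
def imSieve (ξ : 𝒵.obj) : Sieve (𝒵.p.obj ξ) where
  arrows V := {f | ∃ (b : V ⟶ Y) (m : z.obj ⟨V, ⟨b⟩⟩ ⟶ ξ), 𝒵.p.map m = eqToHom (z.w_obj _) ≫ f}
  downward_closed := by
    rintro V V' f ⟨b, m, hm⟩ k
    let n : (⟨V', ⟨k ≫ b⟩⟩ : Stk.EltObj ((pyon S).obj Y)) ⟶ ⟨V, ⟨b⟩⟩ := ⟨k, rfl⟩
    refine ⟨k ≫ b, z.map n ≫ m, ?_⟩
    rw [Functor.map_comp, hm, map_map z n]
    simp [n]

/-- objects which are locally images of the point -/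
def InImage (ξ : 𝒵.obj) : Prop := imSieve z ξ ∈ (Jf S) (𝒵.p.obj ξ)

include h𝒵 in
theorem inImage_of_hom {a a' : 𝒵.obj} (k : a' ⟶ a) (h : InImage z a) : InImage z a' := by
  refine GrothendieckTopology.superset_covering _ ?_ ((Jf S).pullback_stable (𝒵.p.map k) h)
  rintro V f ⟨b, m, hm⟩
  obtain ⟨χ, ⟨hχ, -⟩, -⟩ := existsUnique_cart h𝒵 k m (eqToHom (z.w_obj _) ≫ f)
    (by rw [hm, Category.assoc])
  exact ⟨b, χ, hχ⟩

include h𝒵 in
theorem inImage_of_local {a : 𝒵.obj} {R : Sieve (𝒵.p.obj a)} (hR : R ∈ (Jf S) (𝒵.p.obj a))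
    (h : ∀ ⦃V : Over S⦄ (f : V ⟶ 𝒵.p.obj a), R f → ∀ (b : 𝒵.obj) (m : b ⟶ a) (e : 𝒵.p.obj b = V),
      𝒵.p.map m = eqToHom e ≫ f → InImage z b) : InImage z a := by
  refine (Jf S).transitive hR _ fun V f hf => ?_
  obtain ⟨b, m, hm⟩ := GerbLib.lift_at h𝒵 rfl f
  haveI := hm
  have e : 𝒵.p.obj b = V := IsHomLift.domain_eq 𝒵.p f m
  have hmap : 𝒵.p.map m = eqToHom e ≫ f := by simpa using IsHomLift.fac' 𝒵.p f m
  refine GrothendieckTopology.superset_covering _ ?_ ((Jf S).pullback_stable (eqToHom e.symm) (h f hf b m e hmap))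
  rintro V' g ⟨c, n, hn⟩
  refine ⟨c, n ≫ m, ?_⟩
  rw [Functor.map_comp, hn, hmap]
  simp

theorem inImage_obj (o : (AlgSt.ofSp (spOf Y).obj).obj) : InImage z (z.obj o) := by
  refine GrothendieckTopology.superset_covering _ ?_ ((Jf S).top_mem _)
  intro V f _
  let k : V ⟶ o.base := f ≫ eqToHom (z.w_obj o)
  let n : (⟨V, ⟨k ≫ (o.sec : ULift.{u + 1} (o.base ⟶ Y)).down⟩⟩ : Stk.EltObj ((pyon S).obj Y)) ⟶ o := ⟨k, rfl⟩
  refine ⟨k ≫ (o.sec : ULift.{u + 1} (o.base ⟶ Y)).down, z.map n, ?_⟩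
  rw [map_map z n]
  simp [n, k]

include h𝒵 in
theorem isClosedUnderIso_inImage : ObjectProperty.IsClosedUnderIsomorphisms (InImage z) :=
  ⟨fun e h => inImage_of_hom h𝒵 z e.inv h⟩

/-- the point of the image -/
def toImage : AlgSt.ofSp (spOf Y).obj ⥤ᵇ AlgSt.fullSub 𝒵 (InImage z) := liftSub _ z (inImage_obj z)

theorem toImage_comp' : BasedFunctor.comp (toImage z) (AlgSt.subIncl 𝒵 (InImage z)) =
    BasedFunctor.comp (BasedFunctor.id _) z := rfl

theorem toImage_comp : BasedFunctor.comp (toImage z) (AlgSt.subIncl 𝒵 (InImage z)) = z := rfl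

theorem locSurjObj_toImage : Gerb.LocSurjObj (QuotSh.J Scheme.fppfPrecoverage S) (toImage z) := by
  intro ξ
  refine ⟨imSieve z ξ.obj, ξ.property, ?_⟩
  rintro V f ⟨b, m, hm⟩
  refine ⟨⟨V, ⟨b⟩⟩, ObjectProperty.homMk m, IsHomLift.of_fac' _ _ _ (z.w_obj _) rfl ?_⟩
  show 𝒵.p.map m = _
  rw [hm]
  simp

end image

/-- the self product of a field point of finite type is of finite presentation -/
theorem repWith_lfp_selfProd (h𝒵 : FibCat.IsFibGrpd 𝒵.p) {k : Type u} [Field k]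
    {str : Spec (CommRingCat.of k) ⟶ S} (z : AlgSt.ofSp (spOf (Over.mk str)).obj ⥤ᵇ 𝒵)
    (hz : RepByAlgSpWith (LocP @LocallyOfFiniteType) z) :
    RepByAlgSpWith (LocP @LocallyOfFinitePresentation) (FibCat.fpFst z z) := by
  obtain ⟨R, a, e, he, ⟨i⟩, ha⟩ := exists_model_of_repWith cls_lft.bc cls_lft.loc (isFibGrpd_ofSpace _) h𝒵 hz
    (spOf (Over.mk str)) z
  refine repWith_fpFst_of_model cls_lfp.bc he i fun U V x y h hx hy comm => ?_
  haveI : LocallyOfFiniteType h.left := ha x y h hx hy comm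
  obtain ⟨g, hg⟩ := exists_map_eq y
  haveI : Etale g.left := (repWith_yon_iff g).1 (hg.symm ▸ hy)
  haveI : IsLocallyNoetherian (Over.mk str).left :=
    inferInstanceAs (IsLocallyNoetherian (Spec (CommRingCat.of k)))
  haveI : IsLocallyNoetherian V.left := LocallyOfFiniteType.isLocallyNoetherian g.left
  exact ConsEngine.lfp_of_lft h.left

/-- stacks with an fppf presentation by a scheme -/
theorem isAlgStack_of_scheme_presentation {𝒳 : AlgSt.Cat S} (hS : Stk.IsStack (Jf S) 𝒳) {W : Over S}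
    (g : AlgSt.ofSp (spOf W).obj ⥤ᵇ 𝒳) (h₁ : RepByAlgSpWith (LocP @Flat) g)
    (h₂ : RepByAlgSpWith (LocP @LocallyOfFinitePresentation) g) (h₃ : RepByAlgSpWith AlgSp.IsSurjectiveMor g) :
    IsAlgStack Scheme.fppfPrecoverage 𝒳 :=
  isAlgStack_of_flat_presentation hS (B := (yon S).obj W) (IsAlgSpace.yon_obj W) g (repWith_flat_lfp h₁ h₂) h₃

/-- the image of a flat surjective field point of finite type is an algebraic stack -/
theorem isAlgStack_image (h𝒵 : IsAlgStack Scheme.fppfPrecoverage 𝒵) {k : Type u} [Field k]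
    {str : Spec (CommRingCat.of k) ⟶ S} (z : AlgSt.ofSp (spOf (Over.mk str)).obj ⥤ᵇ 𝒵)
    (hT : RepByAlgSpWith (LocP @LocallyOfFiniteType) z) (hS : RepByAlgSpWith AlgSp.IsSurjectiveMor z)
    (hF : RepByAlgSpWith (LocP @Flat) z) :
    IsAlgStack Scheme.fppfPrecoverage (AlgSt.fullSub 𝒵 (InImage z)) ∧
      RepByAlgSpWith (LocP @LocallyOfFinitePresentation) (toImage z) ∧
      RepByAlgSpWith AlgSp.IsSurjectiveMor (toImage z) ∧ RepByAlgSpWith (LocP @Flat) (toImage z) := by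
  have hg := h𝒵.isStack.1
  have hQ : Stk.IsStack (Jf S) (AlgSt.fullSub 𝒵 (InImage z)) := isStack_fullSub h𝒵.isStack
    (fun k h => inImage_of_hom hg z k h) (fun a R hR h => inImage_of_local hg z hR h)
  let i := AlgSt.subIncl 𝒵 (InImage z)
  let z' := toImage z
  have hF' : RepByAlgSpWith (LocP @Flat) z' := repWith_of_comp_ff _ (g := toImage z) (i := i) ((toImage_comp z).symm ▸ hF)
  have hS' : RepByAlgSpWith AlgSp.IsSurjectiveMor z' := repWith_of_comp_ff _ (g := toImage z) (i := i) ((toImage_comp z).symm ▸ hS)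
  have hr : RepByAlgSp1 z' := repByAlgSp1_of_with hF'
  have hl : Lifts z' := IsoSh.lifts_of_locSurjObj (isFibGrpd_ofSpace _) hQ.1 hr (locSurjObj_toImage z)
  let α : BasedFunctor.comp z' i ≅ BasedFunctor.comp (BasedFunctor.id _) z := eqToIso (toImage_comp' z)
  let E := fpMap (F := z) (G := z) z' z' (BasedFunctor.id _) (BasedFunctor.id _) i α α
  have hE : FibCat.IsEquivOver E :=
    isEquivOver_fpMap (F := z) (G := z) _ _ _ _ i α α isEquivOver_id isEquivOver_id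
  have hP' : RepByAlgSpWith (LocP @LocallyOfFinitePresentation) z' :=
    repWith_of_lifts cls_lfp.bc cls_lfp.loc hr hl
      ((repWith_iff_of_equiv _ (FibCat.fpFst z z) (FibCat.fpFst z' z') E (BasedFunctor.id _) hE isEquivOver_id
        (Iso.refl _)).1 (repWith_lfp_selfProd hg z hT))
  exact ⟨isAlgStack_of_scheme_presentation hQ (toImage z) hF' hP' hS', hP', hS', hF'⟩

/-- substacks with a point of finite presentation over a field are residual gerbes -/
theorem isResGerbe_of_fieldPt (h𝒵 : IsAlgStack Scheme.fppfPrecoverage 𝒵) (hsub : Subsingleton (AlgSt.Points 𝒵))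
    (x : AlgSt.Points 𝒵) {Q : 𝒵.obj → Prop} (hcl : ObjectProperty.IsClosedUnderIsomorphisms Q)
    (hA : IsAlgStack Scheme.fppfPrecoverage (AlgSt.fullSub 𝒵 Q)) {k : Type u} [Field k]
    {a : Spec (CommRingCat.of k) ⟶ S} {z : FibCat.overCat (Over.mk a) ⥤ᵇ AlgSt.fullSub 𝒵 Q}
    (hp : RepByAlgSpWith (LocP @LocallyOfFinitePresentation) z) (hs : RepByAlgSpWith AlgSp.IsSurjectiveMor z)
    (hf : RepByAlgSpWith (LocP @Flat) z) : Gerb.IsResGerbe Scheme.fppfPrecoverage 𝒵 x Q :=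
  ⟨hcl, hA, smoothLocally_reduced_of_fieldPt hA hs hf, smoothLocally_noetherian_of_fieldPt hA hp hs hf,
    (singleton_points hA.isStack.1 hs).1, (singleton_points hA.isStack.1 hs).2, fun _ => Subsingleton.elim _ _⟩

/-- residual gerbes are unique -/
theorem resGerbe_unique {𝒳 : AlgSt.Cat S} (h𝒳 : IsAlgStack Scheme.fppfPrecoverage 𝒳) {x : AlgSt.Points 𝒳}
    {Q Q' : 𝒳.obj → Prop} (hQ : Gerb.IsResGerbe Scheme.fppfPrecoverage 𝒳 x Q)
    (hQ' : Gerb.IsResGerbe Scheme.fppfPrecoverage 𝒳 x Q') (ξ : 𝒳.obj) (h : Q ξ) : Q' ξ := by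
  haveI := hQ'.1
  obtain ⟨g, ⟨i⟩⟩ := exists_map_resGerbe h𝒳 h𝒳 (BasedFunctor.id 𝒳) hQ (Q' := Q') (by rwa [map_id_points])
  exact ObjectProperty.prop_of_iso Q' (((BasedNatTrans.forgetful _ _).mapIso i).app ⟨ξ, h⟩) (g.obj ⟨ξ, h⟩).property

/-- a stack with a flat surjective field point contains a residual gerbe with its point of finite presentation -/
theorem exists_fieldImage (h𝒵 : IsAlgStack Scheme.fppfPrecoverage 𝒵) {k : Type u} [Field k]
    {a : Spec (CommRingCat.of k) ⟶ S} {z : FibCat.overCat (Over.mk a) ⥤ᵇ 𝒵}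
    (hzs : RepByAlgSpWith AlgSp.IsSurjectiveMor z) (hzf : RepByAlgSpWith (LocP @Flat) z) :
    ∃ Q : 𝒵.obj → Prop, ObjectProperty.IsClosedUnderIsomorphisms Q ∧
      IsAlgStack Scheme.fppfPrecoverage (AlgSt.fullSub 𝒵 Q) ∧
      ∃ (k' : Type u) (_ : Field k') (a' : Spec (CommRingCat.of k') ⟶ S)
        (z' : FibCat.overCat (Over.mk a') ⥤ᵇ AlgSt.fullSub 𝒵 Q),
        RepByAlgSpWith (LocP @LocallyOfFinitePresentation) z' ∧ RepByAlgSpWith AlgSp.IsSurjectiveMor z' ∧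
          RepByAlgSpWith (LocP @Flat) z' := by
  obtain ⟨U, Y, k', F, a', rfl, m, p, z', -, -, -, hT, hS, hF⟩ := exists_lft_fieldPt h𝒵 k a z hzs hzf
  obtain ⟨h₁, h₂, h₃, h₄⟩ := isAlgStack_image h𝒵 z' hT hS hF
  exact ⟨InImage z', isClosedUnderIso_inImage h𝒵.isStack.1 z', h₁, k', F, a',
    BasedFunctor.comp (AlgSt.ofOverCat _) (toImage z'), (repWith_ofOverCat_iff _ _).2 h₂,
    (repWith_ofOverCat_iff _ _).2 h₃, (repWith_ofOverCat_iff _ _).2 h₄⟩

end Groth.Agent.ArtinAtlas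

end
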