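import Groth.Agent.ArtinAtlas.Tab
import Groth.Agent.InjFibre.SliceAlg

/-!
# Lifting finite complete intersections in flat families along nilpotent thickenings
-/

set_option autoImplicit false
set_option linter.style.haveILetI false

universe u

open TensorProduct IsLocalRing RingTheory.Sequence

noncomputable section

namespace Groth.Agent.ArtinAtlas

section basics

variable {ι : Type} [Fintype ι] [DecidableEq ι] {T B : Type u} [CommRing T] [CommRing B] [Algebra T B]

/-- the table of a basis -/
def Tab.ofBasis (b : Module.Basis ι T B) : Tab ι T where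
  c i j k := b.repr (b i * b j) k
  one i := b.repr 1 i
  comm i j k := by rw [mul_comm]
  assoc i j k l := by
    have h : ∀ x y : B, b.repr (x * y) l = ∑ m, b.repr x m * b.repr (b m * y) l := fun x y => by
      conv_lhs => rw [← b.sum_repr x, Finset.sum_mul, map_sum, Finset.sum_apply']
      simp [smul_mul_assoc]
    rw [← h]
    simp only [mul_comm (b i) (b _), ← h, mul_comm (b i), mul_comm (b k)]
    congr 1
    ring
  one_mul i l := by
    have h : b.repr (1 * b i) l = ∑ m, b.repr 1 m * b.repr (b m * b i) l := by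
      conv_lhs => rw [← b.sum_repr 1, Finset.sum_mul, map_sum, Finset.sum_apply']
      simp [smul_mul_assoc]
    rw [← h, _root_.one_mul, b.repr_self, Finsupp.single_apply]

/-- an algebra with a basis is the algebra of its table -/
def Tab.toAlg (b : Module.Basis ι T B) : B →+* (Tab.ofBasis b).Alg where
  toFun x := (Tab.ofBasis b).coord.symm (b.repr x)
  map_one' := (Tab.ofBasis b).ext' fun i => by
    rw [LinearEquiv.apply_symm_apply, Tab.coord_one]; rfl
  map_zero' := (Tab.ofBasis b).ext' fun i => by simp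
  map_add' x y := (Tab.ofBasis b).ext' fun i => by simp
  map_mul' x y := (Tab.ofBasis b).ext' fun l => by
    rw [Tab.coord_mul]
    simp only [LinearEquiv.apply_symm_apply]
    conv_lhs => rw [← b.sum_repr x, ← b.sum_repr y, Finset.sum_mul, map_sum, Finset.sum_apply']
    refine Finset.sum_congr rfl fun i _ => ?_
    rw [Finset.mul_sum, map_sum, Finset.sum_apply']
    refine Finset.sum_congr rfl fun j _ => ?_
    simp [Tab.ofBasis, smul_smul, mul_assoc, mul_left_comm]

theorem Tab.coord_toAlg (b : Module.Basis ι T B) (x : B) (i : ι) :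
    (Tab.ofBasis b).coord (Tab.toAlg b x) i = b.repr x i :=
  congrFun ((Tab.ofBasis b).coord.apply_symm_apply _) i

theorem Tab.toAlg_algebraMap (b : Module.Basis ι T B) (r : T) :
    Tab.toAlg b (algebraMap T B r) = algebraMap T _ r := by
  refine (Tab.ofBasis b).ext' fun i => ?_
  rw [Tab.coord_toAlg, Tab.coord_algebraMap, Algebra.algebraMap_eq_smul_one, map_smul, Finsupp.smul_apply, smul_eq_mul]
  rfl

end basics

variable {A P : Type u} [CommRing A] [CommRing P] [Algebra A P]

/-- ideal membership descends along an extension of the residue field -/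
theorem mem_of_map_residue {O k : Type u} [CommRing O] [IsLocalRing O] [Field k] [Algebra A O] [Algebra A k]
    (ρ : O →ₐ[A] k) [IsLocalHom ρ.toRingHom] (L : Ideal (O ⊗[A] P))
    (hL : (maximalIdeal O).map (Algebra.TensorProduct.includeLeft : O →ₐ[O] O ⊗[A] P).toRingHom ≤ L) (x : O ⊗[A] P)
    (hx : Algebra.TensorProduct.map ρ (AlgHom.id A P) x ∈ L.map (Algebra.TensorProduct.map ρ (AlgHom.id A P)).toRingHom) :
    x ∈ L := by
  let κ := ResidueField O
  let ε : κ →+* k := Ideal.Quotient.lift _ ρ.toRingHom fun a ha => by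
    by_contra h
    exact ha ((isUnit_iff_ne_zero.2 h).of_map ρ.toRingHom a)
  have hεA : ∀ a, ε (algebraMap A κ a) = algebraMap A k a := fun a => ρ.commutes a
  letI : Algebra κ k := ε.toAlgebra
  haveI : IsScalarTower A κ k := IsScalarTower.of_algebraMap_eq fun a => (hεA a).symm
  obtain ⟨r, hr⟩ := (Algebra.linearMap κ k).exists_leftInverse_of_injective
    (LinearMap.ker_eq_bot.2 (algebraMap κ k).injective)
  have hr1 : ∀ c : κ, r (algebraMap κ k c) = c := fun c => LinearMap.congr_fun hr c
  let q : O →ₐ[A] κ := IsScalarTower.toAlgHom A O κ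
  let χ := Algebra.TensorProduct.map ρ (AlgHom.id A P)
  let χ₀ := Algebra.TensorProduct.map q (AlgHom.id A P)
  let R : k ⊗[A] P →ₗ[A] κ ⊗[A] P := TensorProduct.map (r.restrictScalars A) LinearMap.id
  have hR : ∀ (b : k ⊗[A] P) (y : O ⊗[A] P), R (b * χ y) = R b * χ₀ y := by
    intro b y
    induction y using TensorProduct.induction_on with
    | zero => simp
    | add y z hy hz => rw [map_add, mul_add, map_add, hy, hz, map_add, mul_add]
    | tmul o p =>
      induction b using TensorProduct.induction_on with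
      | zero => simp
      | add b c hb hc => rw [add_mul, map_add, hb, hc, map_add, add_mul]
      | tmul a p' =>
        simp only [χ, χ₀, R, Algebra.TensorProduct.map_tmul, Algebra.TensorProduct.tmul_mul_tmul, TensorProduct.map_tmul,
          LinearMap.id_apply, AlgHom.id_apply, LinearMap.restrictScalars_apply]
        congr 1
        have : a * ρ o = (q o) • a := by
          rw [Algebra.smul_def, mul_comm]; rfl
        rw [this, map_smul, smul_eq_mul, mul_comm]
  have h1 : R 1 = 1 := by
    show r 1 ⊗ₜ[A] (1 : P) = 1 ⊗ₜ 1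
    rw [← (algebraMap κ k).map_one, hr1]
  have key : R (χ x) ∈ L.map χ₀.toRingHom := by
    suffices ∀ y ∈ L.map χ.toRingHom, ∀ b, R (b * y) ∈ L.map χ₀.toRingHom by simpa using this _ hx 1
    intro y hy
    induction hy using Submodule.span_induction with
    | mem y hy =>
      obtain ⟨l, hl, rfl⟩ := hy
      intro b
      show R (b * χ l) ∈ _
      rw [hR]
      exact Ideal.mul_mem_left _ _ (Ideal.mem_map_of_mem χ₀.toRingHom hl)
    | zero => intro b; simp
    | add y z _ _ hy hz => intro b; rw [mul_add, map_add]; exact add_mem (hy b) (hz b)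
    | smul c y _ hy => intro b; rw [smul_eq_mul, ← mul_assoc]; exact hy _
  rw [← _root_.one_mul (χ x), hR, h1, _root_.one_mul] at key
  have hq : Function.Surjective q := Ideal.Quotient.mk_surjective
  have hk : RingHom.ker χ₀.toRingHom ≤ L := by
    refine le_trans (le_of_eq ?_) hL
    rw [show RingHom.ker χ₀.toRingHom = RingHom.ker χ₀ from rfl, Algebra.TensorProduct.rTensor_ker q hq]
    have : RingHom.ker q = maximalIdeal O := Ideal.mk_ker
    rw [this]
    rfl
  have hs : Function.Surjective χ₀.toRingHom := by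
    exact TensorProduct.map_surjective (g := q.toLinearMap) (g' := (LinearMap.id : P →ₗ[A] P)) hq Function.surjective_id
  obtain ⟨l, hl, e⟩ := (Ideal.mem_map_iff_of_surjective _ hs).1 key
  have : x - l ∈ RingHom.ker χ₀.toRingHom := by
    rw [RingHom.mem_ker, map_sub, sub_eq_zero]
    exact e.symm
  have := add_mem (hk this) hl
  rwa [sub_add_cancel] at this

/-- regularity on the closed fibre gives `SeqAt` at the primes over the closed point -/
theorem seqAt_of_ker {O P' F : Type u} [CommRing O] [IsLocalRing O] [CommRing P'] [CommRing F] [Algebra O P']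
    [Algebra.FinitePresentation O P'] [Module.Flat O P'] (θ : P' →+* F) (hθ : Function.Surjective θ)
    (hker : RingHom.ker θ = (maximalIdeal O).map (algebraMap O P')) (gs : List P')
    (hreg : IsWeaklyRegular F (gs.map θ)) (M : PrimeSpectrum P')
    (hM : M.asIdeal.comap (algebraMap O P') = maximalIdeal O) : InjFibre.SeqAt O gs M := by
  let S' := Localization.AtPrime M.asIdeal
  let α := algebraMap P' S'
  haveI : Module.Flat P' S' := IsLocalization.flat S' M.asIdeal.primeCompl
  haveI : Module.Flat O S' := Module.Flat.trans O P' S'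
  refine InjFibre.seqAt_of_fibre M S' gs ?_
  let J := (M.asIdeal.comap (algebraMap O P')).map (algebraMap O S')
  refine (isWeaklyRegular_map_algebraMap_iff (S' ⧸ J) (S' ⧸ J) _).1 ((InjFibre.isWeaklyRegular_ring_iff _).2 ?_)
  intro i hi z hz
  have hJ : J = ((maximalIdeal O).map (algebraMap O P')).map α := by
    simp only [J, hM, Ideal.map_map]
    rw [← IsScalarTower.algebraMap_eq]
  let mk := Ideal.Quotient.mk J
  have key : ∀ y : S', mk y ∈ Ideal.ofList (((gs.map α).map mk).take i) ↔
      y ∈ (Ideal.ofList (gs.take i) ⊔ RingHom.ker θ).map α := fun y => by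
    rw [InjFibre.map_ofList_take, InjFibre.map_ofList_take, Ideal.mem_quotient_iff_mem_sup, Ideal.map_sup, hker, hJ]
  obtain ⟨y, rfl⟩ := Ideal.Quotient.mk_surjective z
  obtain ⟨y, s, rfl⟩ := IsLocalization.exists_mk'_eq M.asIdeal.primeCompl y
  simp only [List.length_map] at hi
  have hu := IsLocalization.map_units S' s
  change _ * mk _ ∈ Ideal.ofList (((gs.map α).map mk).take i) at hz
  show mk _ ∈ Ideal.ofList (((gs.map α).map mk).take i)
  simp only [List.getElem_map] at hz
  rw [show (algebraMap S' (S' ⧸ J)) (α gs[i]) = mk (α gs[i]) from rfl, ← map_mul, key,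
    ← Ideal.unit_mul_mem_iff_mem _ hu, mul_left_comm, IsLocalization.mk'_spec', ← map_mul,
    IsLocalization.algebraMap_mem_map_algebraMap_iff M.asIdeal.primeCompl] at hz
  rw [key, ← Ideal.unit_mul_mem_iff_mem _ hu, IsLocalization.mk'_spec',
    IsLocalization.algebraMap_mem_map_algebraMap_iff M.asIdeal.primeCompl]
  obtain ⟨a, ha, hay⟩ := hz
  refine ⟨a, ha, ?_⟩
  have hF : θ gs[i] * θ (a * y) ∈ Ideal.ofList ((gs.map θ).take i) := by
    rw [InjFibre.map_ofList_take, ← map_mul, mul_left_comm]
    have := Ideal.mem_map_of_mem θ hay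
    rwa [Ideal.map_sup, (Ideal.map_eq_bot_iff_le_ker θ).2 le_rfl, sup_bot_eq] at this
  have := (InjFibre.isWeaklyRegular_ring_iff _).1 hreg i (by rwa [List.length_map]) (θ (a * y))
    (by rw [List.getElem_map]; exact hF)
  rw [InjFibre.map_ofList_take, ← Ideal.mem_comap, Ideal.comap_map_of_surjective' θ hθ] at this
  exact this

/-- flatness of a clopen piece of a complete intersection -/
theorem flat_of_seqAt_idem {O P' : Type u} [CommRing O] [CommRing P'] [Algebra O P'] (gs : List P') (e : P')
    (he : e - e * e ∈ Ideal.ofList gs)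
    (h : ∀ M : Ideal P', ∀ hM : M.IsMaximal, Ideal.ofList gs ⊔ Ideal.span {e} ≤ M →
      InjFibre.SeqAt O gs ⟨M, hM.isPrime⟩) :
    Module.Flat O (P' ⧸ (Ideal.ofList gs ⊔ Ideal.span {e})) := by
  let J := Ideal.ofList gs ⊔ Ideal.span {e}
  refine Module.flat_of_isLocalized_maximal (R := O) P' (P' ⧸ J)
    (fun M _ => LocalizedModule M.primeCompl (P' ⧸ J))
    (fun M _ => LocalizedModule.mkLinearMap M.primeCompl _) fun M hM => ?_
  by_cases hJ : J ≤ M
  · have h1 := (h M hM hJ).2 gs.length le_rfl
    have hg : Ideal.ofList (gs.take gs.length) = Ideal.ofList gs := by rw [List.take_length]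
    let f : (P' ⧸ Ideal.ofList (gs.take gs.length)) →ₗ[P'] P' ⧸ J := Submodule.factor (hg.le.trans le_sup_left)
    have he1 : 1 - e ∉ M := fun hm => hM.ne_top (M.eq_top_iff_one.2 (by
      have := add_mem hm (hJ (Ideal.mem_sup_right (Ideal.mem_span_singleton_self e)))
      simpa using this))
    let g := LocalizedModule.mkLinearMap M.primeCompl (P' ⧸ J) ∘ₗ f
    haveI : IsLocalizedModule M.primeCompl g := by
      refine ⟨fun s => IsLocalizedModule.map_units (LocalizedModule.mkLinearMap M.primeCompl (P' ⧸ J)) s, fun z => ?_,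
        fun {y y'} hy => ?_⟩
      · obtain ⟨⟨w, s⟩, hw⟩ := IsLocalizedModule.surj M.primeCompl
          (LocalizedModule.mkLinearMap M.primeCompl (P' ⧸ J)) z
        obtain ⟨w, rfl⟩ := Submodule.Quotient.mk_surjective _ w
        exact ⟨(Submodule.Quotient.mk w, s), hw⟩
      · obtain ⟨c, hc⟩ := IsLocalizedModule.exists_of_eq (S := M.primeCompl) (f := LocalizedModule.mkLinearMap M.primeCompl (P' ⧸ J)) hy
        obtain ⟨y, rfl⟩ := Submodule.Quotient.mk_surjective _ y
        obtain ⟨y', rfl⟩ := Submodule.Quotient.mk_surjective _ y'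
        change Submodule.Quotient.mk ((c : P') • y) = (Submodule.Quotient.mk ((c : P') • y') : P' ⧸ J) at hc
        rw [Submodule.Quotient.eq, smul_eq_mul, smul_eq_mul, ← mul_sub] at hc
        obtain ⟨u, hu, v, hv, huv⟩ := Submodule.mem_sup.1 hc
        obtain ⟨w, rfl⟩ := Ideal.mem_span_singleton'.1 hv
        refine ⟨⟨(1 - e) * c, M.primeCompl.mul_mem he1 c.2⟩, ?_⟩
        change Submodule.Quotient.mk (((1 - e) * (c : P')) • y) =
          (Submodule.Quotient.mk (((1 - e) * (c : P')) • y') : P' ⧸ Ideal.ofList (gs.take gs.length))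
        rw [Submodule.Quotient.eq, smul_eq_mul, smul_eq_mul, ← mul_sub, mul_assoc, ← huv, mul_add, hg,
          show (1 - e) * (w * e) = w * (e - e * e) by ring]
        exact add_mem (Ideal.mul_mem_left _ _ hu) (Ideal.mul_mem_left _ _ he)
    haveI := h1
    exact Module.Flat.of_linearEquiv ((IsLocalizedModule.iso M.primeCompl g).restrictScalars O).symm
  · obtain ⟨x, hx, hxM⟩ := Set.not_subset.1 hJ
    haveI : Subsingleton (LocalizedModule M.primeCompl (P' ⧸ J)) := by
      refine LocalizedModule.subsingleton_iff.2 fun m => ⟨x, hxM, ?_⟩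
      obtain ⟨m, rfl⟩ := Submodule.Quotient.mk_surjective _ m
      rw [← Submodule.Quotient.mk_smul, Submodule.Quotient.mk_eq_zero]
      exact Ideal.mul_mem_right _ _ hx
    infer_instance

/-- finite complete intersections lift along nilpotent thickenings of local rings -/
theorem exists_lift_point {ι : Type} [Fintype ι] [DecidableEq ι] [Algebra.FinitePresentation A P] [Module.Flat A P]
    (fs : List P) (hfs : IsWeaklyRegular P fs) (hfl : ∀ i ≤ fs.length, Module.Flat A (P ⧸ Ideal.ofList (fs.take i)))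
    {k O' O : Type u} [Field k] [CommRing O'] [CommRing O] [IsLocalRing O'] [IsLocalRing O] [Algebra A k]
    [Algebra A O'] [Algebra A O]
    (t₀ : Tab ι k) (φ₀ : P →+* t₀.Alg) (hφ₀ : ∀ a, φ₀ (algebraMap A P a) = algebraMap k _ (algebraMap A k a))
    (p : ι → P) (hp : ∀ j, φ₀ (p j) = t₀.basis j) (hf₀ : ∀ f ∈ fs, φ₀ f = 0)
    (hker : ∀ Ψ : k ⊗[A] P →+* t₀.Alg, (∀ a x, Ψ (a ⊗ₜ x) = a • φ₀ x) → RingHom.ker Ψ ≤
      RingHom.ker Ψ * RingHom.ker Ψ ⊔ (Ideal.ofList fs).map
        (Algebra.TensorProduct.includeRight : P →ₐ[A] k ⊗[A] P).toRingHom)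
    (π : O' →ₐ[A] O) (hπ : Function.Surjective π) (hI : IsNilpotent (RingHom.ker π.toRingHom))
    (ρ : O →ₐ[A] k) [IsLocalHom ρ.toRingHom] (t : Tab ι O) (ht : t.map ρ.toRingHom = t₀) (φ : P →+* t.Alg)
    (hφA : ∀ a, φ (algebraMap A P a) = algebraMap O _ (algebraMap A O a))
    (hφ : ∀ x i, ρ (t.coord (φ x) i) = t₀.coord (φ₀ x) i) :
    ∃ (t' : Tab ι O') (φ' : P →+* t'.Alg), t'.map π.toRingHom = t ∧
      (∀ a, φ' (algebraMap A P a) = algebraMap O' _ (algebraMap A O' a)) ∧
      ∀ x i, π (t'.coord (φ' x) i) = t.coord (φ x) i := by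
  classical
  letI : Algebra A t.Alg := ((algebraMap O t.Alg).comp (algebraMap A O)).toAlgebra
  haveI : IsScalarTower A O t.Alg := IsScalarTower.of_algebraMap_eq' rfl
  letI : Algebra A t₀.Alg := ((algebraMap k t₀.Alg).comp (algebraMap A k)).toAlgebra
  haveI : IsScalarTower A k t₀.Alg := IsScalarTower.of_algebraMap_eq' rfl
  let φA : P →ₐ[A] t.Alg := { φ with commutes' := hφA }
  let φ₀A : P →ₐ[A] t₀.Alg := { φ₀ with commutes' := hφ₀ }
  let ΨO : O ⊗[A] P →ₐ[O] t.Alg :=
    Algebra.TensorProduct.lift (Algebra.ofId O t.Alg) φA fun _ _ => Commute.all _ _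
  let Ψk : k ⊗[A] P →ₐ[k] t₀.Alg :=
    Algebra.TensorProduct.lift (Algebra.ofId k t₀.Alg) φ₀A fun _ _ => Commute.all _ _
  have hΨO : ∀ (o : O) x, ΨO (o ⊗ₜ x) = o • φ x := fun o x => by
    simp [ΨO, φA, Algebra.smul_def, Algebra.ofId_apply]
  have hΨk : ∀ (a : k) x, Ψk (a ⊗ₜ x) = a • φ₀ x := fun o x => by
    simp [Ψk, φ₀A, Algebra.smul_def, Algebra.ofId_apply]
  let χ : O ⊗[A] P →ₐ[A] k ⊗[A] P := Algebra.TensorProduct.map ρ (AlgHom.id A P)
  have hχ : ∀ (o : O) y, χ (o • y) = ρ o • χ y := fun o y => by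
    rw [Algebra.smul_def, Algebra.smul_def, map_mul]
    congr 1
  have hcomp : ∀ y, Ψk (χ y) = Tab.hom ρ.toRingHom ht (ΨO y) := by
    intro y
    induction y using TensorProduct.induction_on with
    | zero => simp
    | add y z hy hz => simp only [map_add, hy, hz]
    | tmul o x =>
      refine t₀.ext' fun i => ?_
      rw [show χ (o ⊗ₜ x) = ρ o ⊗ₜ x from rfl, hΨk, hΨO, map_smul, Pi.smul_apply, Tab.coord_hom, map_smul,
        Pi.smul_apply, smul_eq_mul, smul_eq_mul, map_mul]
      exact congrArg (ρ o * ·) (hφ x i).symm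
  -- surjectivity
  have hm : ∀ a : O, ρ a = 0 → a ∈ maximalIdeal O := fun a ha hu => by
    have := hu.map ρ.toRingHom
    simp [ha] at this
  have hsurj : Function.Surjective ΨO := by
    have h : (⊤ : Submodule O t.Alg) ≤ LinearMap.range ΨO.toLinearMap := by
      refine Submodule.le_of_le_smul_of_le_jacobson_bot Module.Finite.fg_top (IsLocalRing.maximalIdeal_le_jacobson _) ?_
      rw [← t.basis.span_eq, Submodule.span_le]
      rintro _ ⟨j, rfl⟩
      rw [← add_sub_cancel (φ (p j)) (t.basis j)]
      refine Submodule.add_mem_sup ⟨1 ⊗ₜ p j, (hΨO 1 (p j)).trans (one_smul _ _)⟩ ?_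
      rw [← t.sum_coord (t.basis j - φ (p j)), t.basis.span_eq]
      refine Submodule.sum_mem _ fun i _ => Submodule.smul_mem_smul (hm _ ?_) Submodule.mem_top
      rw [map_sub, Pi.sub_apply, map_sub, hφ, hp, t.coord_basis, t₀.coord_basis, Pi.single_apply, Pi.single_apply]
      split_ifs <;> simp
    exact fun y => h (Submodule.mem_top (x := y))
  choose q hq using fun j => hsurj (t.basis j)
  let s : t.Alg →ₗ[O] O ⊗[A] P := t.basis.constr O q
  have hs : ∀ v, s v = ∑ j, t.coord v j • q j := fun v => by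
    conv_lhs => rw [← t.sum_coord v]
    simp [s]
  have hΨs : ∀ v, ΨO (s v) = v := fun v => by
    rw [hs, map_sum]
    simp only [map_smul, hq]
    exact t.sum_coord v
  let πK : O ⊗[A] P →ₗ[O] O ⊗[A] P := LinearMap.id - s.comp ΨO.toLinearMap
  let K : Ideal (O ⊗[A] P) := RingHom.ker ΨO.toRingHom
  have hπK : ∀ y, πK y ∈ K := fun y => by
    show ΨO (y - s (ΨO y)) = 0
    rw [map_sub, hΨs, sub_self]
  -- perturbed equations
  let G : P → O ⊗[A] P := fun f => πK (1 ⊗ₜ f)
  have hG : ∀ f ∈ fs, χ (G f) = (1 : k) ⊗ₜ f := fun f hf => by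
    show χ ((1 : O) ⊗ₜ f - s (ΨO ((1 : O) ⊗ₜ f))) = _
    rw [map_sub, hΨO, one_smul, hs, map_sum, show χ ((1 : O) ⊗ₜ f) = ρ 1 ⊗ₜ f from rfl, map_one, sub_eq_self]
    refine Finset.sum_eq_zero fun j _ => ?_
    rw [hχ, hφ, hf₀ f hf, map_zero, Pi.zero_apply, zero_smul]
  let gs := fs.map G
  have hgK : Ideal.ofList gs ≤ K := Ideal.span_le.2 fun y hy => by
    obtain ⟨f, -, rfl⟩ := List.mem_map.1 hy
    exact hπK _
  have hgχ : (Ideal.ofList fs).map (Algebra.TensorProduct.includeRight : P →ₐ[A] k ⊗[A] P).toRingHom =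
      (Ideal.ofList gs).map χ.toRingHom := by
    rw [Ideal.map_ofList, Ideal.map_ofList, List.map_map]
    exact congrArg Ideal.ofList (List.map_congr_left fun f hf => (hG f hf).symm)
  have hK0 : RingHom.ker Ψk.toRingHom ≤ K.map χ.toRingHom := by
    have h : ∀ y, y - ∑ j, t₀.coord (Ψk y) j • χ (q j) ∈ K.map χ.toRingHom := by
      intro y
      induction y using TensorProduct.induction_on with
      | zero => simp
      | add y z hy hz =>
        simp only [map_add, Pi.add_apply, add_smul, Finset.sum_add_distrib]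
        rw [add_sub_add_comm]
        exact add_mem hy hz
      | tmul a x =>
        have e : a ⊗ₜ[A] x - ∑ j, t₀.coord (Ψk (a ⊗ₜ x)) j • χ (q j) = a • χ (πK (1 ⊗ₜ x)) := by
          show _ = a • χ ((1 : O) ⊗ₜ x - s (ΨO ((1 : O) ⊗ₜ x)))
          rw [map_sub, smul_sub, show χ ((1 : O) ⊗ₜ x) = ρ 1 ⊗ₜ x from rfl, map_one, TensorProduct.smul_tmul',
            smul_eq_mul, _root_.mul_one, hΨO, one_smul, hs, map_sum, Finset.smul_sum]
          congr 1
          refine Finset.sum_congr rfl fun j _ => ?_
          rw [hχ, hφ, hΨk, map_smul, Pi.smul_apply, smul_smul, smul_eq_mul]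
        rw [e]
        exact Submodule.smul_of_tower_mem _ a (Ideal.mem_map_of_mem _ (hπK _))
    intro y hy
    have := h y
    rw [show Ψk y = 0 from hy] at this
    simpa using this
  let m := maximalIdeal O
  let L₀ : Ideal (O ⊗[A] P) := K * K ⊔ Ideal.ofList gs
  have hmax : ∀ c ∈ m.map (algebraMap O (O ⊗[A] P)), c ∈ K → c ∈ m • Submodule.restrictScalars O K := by
    intro c hc hcK
    have h1 : c ∈ m • (⊤ : Submodule O (O ⊗[A] P)) := by rw [Ideal.smul_top_eq_map]; exact hc
    have h2 : πK c ∈ m • Submodule.restrictScalars O K := by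
      refine Submodule.smul_mono (le_refl m) (show LinearMap.range πK ≤ Submodule.restrictScalars O K from ?_) ?_
      · rintro _ ⟨y, rfl⟩; exact hπK y
      · rw [← Submodule.map_top, ← Submodule.map_smul'']
        exact Submodule.mem_map_of_mem h1
    have h3 : πK c = c := by
      show c - s (ΨO c) = c
      rw [show ΨO c = 0 from hcK, map_zero, sub_zero]
    rwa [h3] at h2
  have hK1 : Submodule.restrictScalars O K ≤ Submodule.restrictScalars O L₀ ⊔ m • Submodule.restrictScalars O K := by
    intro x hx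
    have hx0 : χ x ∈ RingHom.ker Ψk.toRingHom := by
      show Ψk (χ x) = 0
      rw [hcomp, show ΨO x = 0 from hx, map_zero]
    have hxL : x ∈ L₀ ⊔ m.map (algebraMap O (O ⊗[A] P)) := by
      refine mem_of_map_residue ρ _ (le_of_eq_of_le rfl le_sup_right) x ?_
      refine Ideal.map_mono le_sup_left ?_
      rw [Ideal.map_sup, Ideal.map_mul, ← hgχ]
      exact sup_le_sup_right (Ideal.mul_mono hK0 hK0) _ (hker Ψk.toRingHom hΨk hx0)
    obtain ⟨a, ha, c, hc, rfl⟩ := Submodule.mem_sup.1 hxL
    refine Submodule.add_mem_sup ha (hmax c hc ?_)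
    have haK : a ∈ K := sup_le Ideal.mul_le_left hgK ha
    exact (Submodule.add_mem_iff_right K haK).1 hx
  -- Nakayama
  haveI : Module.FinitePresentation O t.Alg := Module.finitePresentation_of_projective O t.Alg
  have hKfg : K.FG := Algebra.FinitePresentation.ker_fG_of_surjective ΨO hsurj
  obtain ⟨gen, hgen⟩ := hKfg
  let F : Submodule O (O ⊗[A] P) := Submodule.span O ↑(Finset.univ.biUnion fun j => gen.image fun z => q j * z)
  have hF1 : Submodule.restrictScalars O K ≤ F ⊔ Submodule.restrictScalars O L₀ := by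
    suffices ∀ x ∈ K, ∀ y, y * x ∈ F ⊔ Submodule.restrictScalars O L₀ from fun x hx => by simpa using this x hx 1
    intro x hx
    rw [← hgen] at hx
    induction hx using Submodule.span_induction with
    | mem z hz =>
      intro y
      have e : y * z = s (ΨO y) * z + πK y * z := by rw [← add_mul]; simp [πK]
      have hzK : z ∈ K := hgen ▸ Ideal.subset_span hz
      rw [e]
      refine add_mem (Submodule.mem_sup_left ?_)
        (Submodule.mem_sup_right (Ideal.mem_sup_left (Ideal.mul_mem_mul (hπK y) hzK)))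
      rw [hs, Finset.sum_mul]
      refine Submodule.sum_mem _ fun j _ => ?_
      rw [smul_mul_assoc]
      exact Submodule.smul_mem _ _ (Submodule.subset_span (Finset.mem_biUnion.2
        ⟨j, Finset.mem_univ _, Finset.mem_image_of_mem _ hz⟩))
    | zero => intro y; simp
    | add a b _ _ ha hb => intro y; rw [mul_add]; exact add_mem (ha y) (hb y)
    | smul c a _ ha => intro y; rw [smul_eq_mul, ← mul_assoc]; exact ha _
  have hFK : F ≤ Submodule.restrictScalars O K := Submodule.span_le.2 fun z hz => by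
    obtain ⟨j, -, hz⟩ := Finset.mem_biUnion.1 hz
    obtain ⟨w, hw, rfl⟩ := Finset.mem_image.1 hz
    exact K.mul_mem_left _ (hgen ▸ Ideal.subset_span hw)
  have hFL : F ≤ Submodule.restrictScalars O L₀ :=
    Submodule.le_of_le_smul_of_le_jacobson_bot (Submodule.fg_span (Finset.finite_toSet _))
      (IsLocalRing.maximalIdeal_le_jacobson _)
      (hFK.trans (hK1.trans (sup_le le_sup_left ((Submodule.smul_mono (le_refl m) hF1).trans (by
        rw [Submodule.smul_sup]
        exact sup_le le_sup_right (Submodule.smul_le_right.trans le_sup_left))))))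
  have hKL : K = L₀ := le_antisymm (fun x hx => by
    have := hF1 (show x ∈ Submodule.restrictScalars O K from hx)
    exact sup_le hFL le_rfl this) (sup_le Ideal.mul_le_left hgK)
  let mkO := Ideal.Quotient.mk (Ideal.ofList gs)
  have hidem : IsIdempotentElem (K.map mkO) := by
    have := congrArg (Ideal.map mkO) hKL
    simp only [L₀, Ideal.map_sup, Ideal.map_mul, Ideal.map_quotient_self, sup_bot_eq, mkO] at this
    exact this.symm
  obtain ⟨e, he, heK⟩ := (Ideal.isIdempotentElem_iff_of_fg _ (Ideal.FG.map (hgen ▸ ⟨gen, rfl⟩) mkO)).1 hidem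
  obtain ⟨e, rfl⟩ := Ideal.Quotient.mk_surjective e
  have hKe : K = Ideal.ofList gs ⊔ Ideal.span {e} := by
    calc K = (K.map mkO).comap mkO := by
          rw [Ideal.comap_map_of_surjective' mkO Ideal.Quotient.mk_surjective, Ideal.mk_ker]
          exact (sup_eq_left.2 hgK).symm
      _ = ((Ideal.span {e}).map mkO).comap mkO := by
          rw [Ideal.map_span, Set.image_singleton]
          exact congrArg _ heK
      _ = _ := by
          rw [Ideal.comap_map_of_surjective' mkO Ideal.Quotient.mk_surjective, Ideal.mk_ker, sup_comm]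
  -- lifting
  let θ : O' ⊗[A] P →ₐ[A] O ⊗[A] P := Algebra.TensorProduct.map π (AlgHom.id A P)
  have hθs : Function.Surjective θ :=
    TensorProduct.map_surjective (g := π.toLinearMap) (g' := (LinearMap.id : P →ₗ[A] P)) hπ Function.surjective_id
  let I := RingHom.ker π.toRingHom
  have hθk : RingHom.ker θ.toRingHom = I.map (algebraMap O' (O' ⊗[A] P)) := by
    rw [show RingHom.ker θ.toRingHom = RingHom.ker θ from rfl, Algebra.TensorProduct.rTensor_ker π hπ]
    rfl
  have hθsmul : ∀ (o : O') y, θ (o • y) = π o • θ y := fun o y => by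
    rw [Algebra.smul_def, Algebra.smul_def, map_mul]
    congr 1
  choose q' hq' using fun j => hθs (q j)
  choose c hc using fun (f : P) (j : ι) => hπ (t.coord (φ f) j)
  let G' : P → O' ⊗[A] P := fun f => (1 : O') ⊗ₜ f - ∑ j, c f j • q' j
  have hG' : ∀ f, θ (G' f) = G f := fun f => by
    show _ = (1 : O) ⊗ₜ f - s (ΨO ((1 : O) ⊗ₜ f))
    rw [hΨO, one_smul, hs, map_sub, map_sum, show θ ((1 : O') ⊗ₜ f) = π 1 ⊗ₜ f from rfl, map_one]
    simp only [hθsmul, hc, hq']
  let gs' := fs.map G'
  have hgs' : (Ideal.ofList gs').map θ.toRingHom = Ideal.ofList gs := by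
    rw [Ideal.map_ofList, List.map_map]
    exact congrArg Ideal.ofList (List.map_congr_left fun f _ => hG' f)
  let mk' := Ideal.Quotient.mk (Ideal.ofList gs')
  let θQ : (O' ⊗[A] P) ⧸ Ideal.ofList gs' →+* (O ⊗[A] P) ⧸ Ideal.ofList gs :=
    Ideal.quotientMap _ θ.toRingHom (Ideal.map_le_iff_le_comap.1 hgs'.le)
  have hnil : ∀ x ∈ RingHom.ker θQ, IsNilpotent x := fun x hx => by
    obtain ⟨x, rfl⟩ := Ideal.Quotient.mk_surjective x
    have hx' : θ x ∈ (Ideal.ofList gs').map θ.toRingHom := hgs' ▸ Ideal.Quotient.eq_zero_iff_mem.1 hx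
    obtain ⟨l, hl, hlx⟩ := (Ideal.mem_map_iff_of_surjective _ hθs).1 hx'
    have hd : x - l ∈ RingHom.ker θ.toRingHom := by
      rw [RingHom.mem_ker, map_sub, sub_eq_zero]; exact hlx.symm
    rw [hθk] at hd
    obtain ⟨N, hN⟩ := hI
    refine ⟨N, ?_⟩
    rw [show mk' x = mk' (x - l) by rw [map_sub, show mk' l = 0 from Ideal.Quotient.eq_zero_iff_mem.2 hl, sub_zero],
      ← map_pow]
    have := Ideal.pow_mem_pow hd N
    rw [← Ideal.map_pow, hN, Ideal.zero_eq_bot, Ideal.map_bot, Ideal.mem_bot] at this
    rw [this, map_zero]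
  obtain ⟨e'', he'', hee⟩ := exists_isIdempotentElem_eq_of_ker_isNilpotent θQ hnil (mkO e)
    (by obtain ⟨y, rfl⟩ := hθs e; exact ⟨mk' y, rfl⟩) he
  obtain ⟨e', rfl⟩ := Ideal.Quotient.mk_surjective e''
  have he' : e' - e' * e' ∈ Ideal.ofList gs' := by
    rw [← Ideal.Quotient.eq, map_mul]; exact he''.eq.symm
  let J := Ideal.ofList gs' ⊔ Ideal.span {e'}
  have hJ : J.map θ.toRingHom = K := by
    rw [Ideal.map_sup, hgs', Ideal.map_span, Set.image_singleton, hKe]
    have hd : θ e' - e ∈ Ideal.ofList gs := Ideal.Quotient.eq.1 hee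
    refine le_antisymm (sup_le le_sup_left ?_) (sup_le le_sup_left ?_) <;>
      rw [Ideal.span_le, Set.singleton_subset_iff]
    · show θ e' ∈ _
      rw [← sub_add_cancel (θ e') e]
      exact Submodule.add_mem_sup hd (Ideal.mem_span_singleton_self e)
    · show e ∈ _
      rw [← sub_sub_cancel (θ e') e, sub_eq_add_neg, add_comm]
      exact Submodule.add_mem_sup (neg_mem hd) (Ideal.mem_span_singleton_self (θ e'))
  let B := (O' ⊗[A] P) ⧸ J
  let mkB : O' ⊗[A] P →ₐ[O'] B := Ideal.Quotient.mkₐ O' J
  let lin : (ι → O') →ₗ[O'] B := Fintype.linearCombination O' fun j => mkB (q' j)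
  have hlin : ∀ r, lin r = mkB (∑ j, r j • q' j) := fun r => by
    simp [lin, Fintype.linearCombination_apply]
  have hdec : ∀ x, x - ∑ j, Function.surjInv hπ (t.coord (ΨO (θ x)) j) • q' j ∈ J ⊔ RingHom.ker θ.toRingHom := by
    intro x
    rw [← Ideal.comap_map_of_surjective' θ.toRingHom hθs, Ideal.mem_comap, hJ]
    show ΨO (θ (x - _)) = 0
    simp only [map_sub, map_sum, hθsmul, Function.surjInv_eq hπ, hq', map_smul, hq, t.sum_coord, sub_self]
  have hspan : Function.Surjective lin := by
    have h0 : ∀ n, (⊤ : Submodule O' B) ≤ LinearMap.range lin ⊔ (I ^ n) • ⊤ := by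
      intro n
      induction n with
      | zero => rw [pow_zero, Submodule.one_smul]; exact le_sup_right
      | succ n ih =>
        refine ih.trans (sup_le le_sup_left ?_)
        have h1 : (⊤ : Submodule O' B) ≤ LinearMap.range lin ⊔ I • ⊤ := by
          intro y _
          obtain ⟨x, rfl⟩ := Ideal.Quotient.mk_surjective y
          obtain ⟨a, ha, b, hb, hab⟩ := Submodule.mem_sup.1 (hdec x)
          have e1 : mkB x = lin (fun j => Function.surjInv hπ (t.coord (ΨO (θ x)) j)) + mkB b := by
            rw [hlin, ← map_add, ← sub_eq_zero, ← map_sub]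
            refine Ideal.Quotient.eq_zero_iff_mem.2 ?_
            convert ha using 1
            rw [← eq_sub_iff_add_eq] at hab
            rw [hab]; abel
          show mkB x ∈ _
          rw [e1]
          refine Submodule.add_mem_sup ⟨_, rfl⟩ ?_
          rw [hθk] at hb
          have hb' : b ∈ I • (⊤ : Submodule O' (O' ⊗[A] P)) := by rw [Ideal.smul_top_eq_map]; exact hb
          exact Submodule.smul_mono (le_refl I) le_top
            (Submodule.map_smul'' I ⊤ mkB.toLinearMap ▸ Submodule.mem_map_of_mem hb')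
        refine (Submodule.smul_mono (le_refl _) h1).trans ?_
        rw [Submodule.smul_sup, ← Submodule.mul_smul, ← pow_succ]
        exact sup_le_sup_right Submodule.smul_le_right _
    obtain ⟨N, hN⟩ := hI
    intro y
    have := h0 N (Submodule.mem_top (x := y))
    rw [hN, Ideal.zero_eq_bot, Submodule.bot_smul, sup_bot_eq] at this
    exact this
  haveI : Module.Finite O' B := Module.Finite.of_surjective lin hspan
  -- flatness
  let κ := ResidueField O'
  let qκ : O' →ₐ[A] κ := IsScalarTower.toAlgHom A O' κ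
  let θF : O' ⊗[A] P →ₐ[A] κ ⊗[A] P := Algebra.TensorProduct.map qκ (AlgHom.id A P)
  have hqκ : Function.Surjective qκ := Ideal.Quotient.mk_surjective
  have hθFs : Function.Surjective θF.toRingHom :=
    TensorProduct.map_surjective (g := qκ.toLinearMap) (g' := (LinearMap.id : P →ₗ[A] P)) hqκ Function.surjective_id
  have hθFk : RingHom.ker θF.toRingHom = (maximalIdeal O').map (algebraMap O' (O' ⊗[A] P)) := by
    rw [show RingHom.ker θF.toRingHom = RingHom.ker θF from rfl, Algebra.TensorProduct.rTensor_ker qκ hqκ,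
      show RingHom.ker qκ = maximalIdeal O' from Ideal.mk_ker]
    rfl
  have hreg : IsWeaklyRegular (κ ⊗[A] P) (gs'.map θF.toRingHom) := by
    have h := InjFibre.isWeaklyRegular_baseChange (R := A) fs hfs hfl κ
    convert h using 1
    rw [List.map_map]
    refine List.map_congr_left fun f hf => ?_
    show θF ((1 : O') ⊗ₜ f - ∑ j, c f j • q' j) = (1 : κ) ⊗ₜ f
    rw [map_sub, show θF ((1 : O') ⊗ₜ f) = qκ 1 ⊗ₜ f from rfl, map_one, sub_eq_self, map_sum]
    refine Finset.sum_eq_zero fun j _ => ?_
    show θF.toRingHom (c f j • q' j) = 0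
    rw [← RingHom.mem_ker, hθFk, Algebra.smul_def]
    refine Ideal.mul_mem_right _ _ (Ideal.mem_map_of_mem _ fun hu => ?_)
    have := (hu.map π.toRingHom).map ρ.toRingHom
    rw [show π.toRingHom (c f j) = t.coord (φ f) j from hc f j, show ρ.toRingHom (t.coord (φ f) j) = _ from hφ f j,
      hf₀ f hf, map_zero, Pi.zero_apply, isUnit_zero_iff] at this
    exact zero_ne_one this
  haveI : Module.Flat O' B := flat_of_seqAt_idem gs' e' he' fun M hM hJM => by
    refine seqAt_of_ker θF.toRingHom hθFs hθFk gs' hreg _ ?_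
    have hM' : (M.map (Ideal.Quotient.mk J)).IsMaximal :=
      hM.map_of_surjective_of_ker_le Ideal.Quotient.mk_surjective (by rw [Ideal.mk_ker]; exact hJM)
    haveI : Algebra.IsIntegral O' B := Algebra.IsIntegral.of_finite O' B
    have h1 := Ideal.isMaximal_comap_of_isIntegral_of_isMaximal (R := O') (M.map (Ideal.Quotient.mk J))
    have h2 : (M.map (Ideal.Quotient.mk J)).comap (algebraMap O' B) = M.comap (algebraMap O' (O' ⊗[A] P)) := by
      rw [show algebraMap O' B = (Ideal.Quotient.mk J).comp (algebraMap O' (O' ⊗[A] P)) from rfl, ← Ideal.comap_comap,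
        Ideal.comap_map_of_surjective' _ Ideal.Quotient.mk_surjective, Ideal.mk_ker, sup_eq_left.2 hJM]
    rw [h2] at h1
    exact IsLocalRing.eq_maximalIdeal h1
  haveI : Module.Free O' B := Module.free_of_flat_of_isLocalRing
  obtain ⟨sec, hsec⟩ := Module.projective_lifting_property lin (LinearMap.id : B →ₗ[O'] B) hspan
  have hcoord : ∀ (x : O' ⊗[A] P) (r : ι → O'), lin r = mkB x → ∀ j, π (r j) = t.coord (ΨO (θ x)) j := by
    intro x r hr j
    rw [hlin] at hr
    have h := Ideal.mem_map_of_mem θ.toRingHom (Ideal.Quotient.eq.1 hr.symm)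
    rw [hJ] at h
    have h' : ΨO (θ (x - ∑ j, r j • q' j)) = 0 := h
    simp only [map_sub, map_sum, hθsmul, hq', map_smul, hq, sub_eq_zero] at h'
    rw [h', map_sum, Finset.sum_apply]
    simp [t.coord_basis, Pi.single_apply]
  have hinj : Function.Injective lin := by
    rw [← LinearMap.ker_eq_bot]
    let eN : (ι → O') →ₗ[O'] (ι → O') := LinearMap.id - sec.comp lin
    have h0 : LinearMap.range eN ≤ LinearMap.ker lin := by
      rintro _ ⟨r, rfl⟩
      show lin (r - sec (lin r)) = 0
      rw [map_sub, show lin (sec (lin r)) = lin r from LinearMap.congr_fun hsec _, sub_self]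
    have h1 : LinearMap.ker lin ≤ I • LinearMap.ker lin := by
      intro r hr
      have hrI : r ∈ I • (⊤ : Submodule O' (ι → O')) := by
        rw [show r = ∑ j, r j • (Pi.single j 1 : ι → O') from
          funext fun i => by simp [Finset.sum_apply, Pi.single_apply]]
        refine Submodule.sum_mem _ fun j _ => Submodule.smul_mem_smul ?_ Submodule.mem_top
        show π (r j) = 0
        rw [hcoord 0 r (hr.trans (map_zero _).symm) j, map_zero, map_zero, map_zero, Pi.zero_apply]
      have : eN r ∈ I • LinearMap.range eN := by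
        rw [← Submodule.map_top, ← Submodule.map_smul'']
        exact Submodule.mem_map_of_mem hrI
      have e2 : eN r = r := by
        show r - sec (lin r) = r
        rw [show lin r = 0 from hr, map_zero, sub_zero]
      exact Submodule.smul_mono (le_refl I) h0 (e2 ▸ this)
    have h2 : ∀ n, LinearMap.ker lin ≤ (I ^ n) • LinearMap.ker lin := by
      intro n
      induction n with
      | zero => simp
      | succ n ih =>
        calc LinearMap.ker lin ≤ I • LinearMap.ker lin := h1
          _ ≤ I • (I ^ n • LinearMap.ker lin) := Submodule.smul_mono (le_refl I) ih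
          _ = _ := by rw [← Submodule.mul_smul, pow_succ']
    obtain ⟨N, hN⟩ := hI
    have := h2 N
    rw [hN, Ideal.zero_eq_bot, Submodule.bot_smul] at this
    exact le_bot_iff.1 this
  let b : Module.Basis ι O' B := Module.Basis.ofEquivFun (LinearEquiv.ofBijective lin ⟨hinj, hspan⟩).symm
  have hb : ∀ x i, π (b.repr (mkB x) i) = t.coord (ΨO (θ x)) i := fun x i => by
    refine hcoord x _ ?_ i
    show lin (fun j => b.repr (mkB x) j) = _
    exact (LinearEquiv.ofBijective lin ⟨hinj, hspan⟩).apply_symm_apply (mkB x)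
  have hbq : ∀ i, b i = mkB (q' i) := fun i => by
    simp only [b, Module.Basis.coe_ofEquivFun]
    show lin (Pi.single i 1) = _
    rw [hlin]
    simp [Pi.single_apply, ite_smul]
  refine ⟨Tab.ofBasis b,
    ((Tab.toAlg b).comp mkB.toRingHom).comp (Algebra.TensorProduct.includeRight : P →ₐ[A] O' ⊗[A] P).toRingHom,
    Tab.ext (funext fun i => funext fun j => funext fun l => ?_) (funext fun i => ?_), fun a => ?_, fun x i => ?_⟩
  · show π (b.repr (b i * b j) l) = _
    rw [hbq, hbq, ← map_mul, hb, map_mul, map_mul, hq', hq', hq, hq, t.basis_mul]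
    exact congrFun (t.coord.apply_symm_apply _) l
  · show π (b.repr 1 i) = _
    rw [← map_one mkB, hb, map_one, map_one, t.coord_one]
  · show Tab.toAlg b (mkB ((1 : O') ⊗ₜ algebraMap A P a)) = _
    rw [show ((1 : O') ⊗ₜ[A] algebraMap A P a) = algebraMap O' (O' ⊗[A] P) (algebraMap A O' a) by
        rw [Algebra.TensorProduct.algebraMap_apply, Algebra.algebraMap_self, RingHom.id_apply,
          Algebra.algebraMap_eq_smul_one a, Algebra.algebraMap_eq_smul_one a, TensorProduct.smul_tmul],
      AlgHom.commutes, Tab.toAlg_algebraMap]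
  · show π ((Tab.ofBasis b).coord (Tab.toAlg b (mkB ((1 : O') ⊗ₜ x))) i) = _
    rw [Tab.coord_toAlg, hb, show θ ((1 : O') ⊗ₜ x) = π 1 ⊗ₜ x from rfl, map_one, hΨO, one_smul]

end Groth.Agent.ArtinAtlas

end
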