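import Groth.Agent.ArtinAtlas.Dat
import Groth.Agent.ArtinAtlas.Charts

/-!
# The moduli of descent data for a chart
-/

set_option autoImplicit false
set_option backward.isDefEq.respectTransparency false
set_option backward.isDefEq.respectTransparency.types false
set_option linter.style.haveILetI false
universe v₂ u₂ u

noncomputable section

namespace Groth.Agent.ArtinAtlas

open CategoryTheory CategoryTheory.Limits AlgebraicGeometry CommRingCat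

variable {ι : Type} [Fintype ι] [DecidableEq ι] {S : Scheme.{u}} {R₀ A C₂ : Type u} [CommRing R₀] [CommRing A]
  [Algebra R₀ A] [CommRing C₂] {j : Spec (CommRingCat.of R₀) ⟶ S} {a₂ b₂ : A →+* C₂}
  {T T' : Type u} [CommRing T] [CommRing T'] {σ : R₀ →+* T} {σ' : R₀ →+* T'}

variable (j) in
/-- the point of a datum on schemes -/
abbrev Dat.wbar (d : Dat ι a₂ b₂ σ) : spT j σ d.t ⟶ ovR j (algebraMap R₀ A) := ovMap d.w d.w_comm

theorem Dat.g_comm (d : Dat ι a₂ b₂ σ) :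
    d.g.comp (a₂.comp (algebraMap R₀ A)) = (algebraMap T (d.t.sq d.t).Alg).comp σ := by
  rw [← RingHom.comp_assoc, d.g_a, RingHom.comp_assoc, d.w_comm, ← RingHom.comp_assoc,
    AlgHom.toRingHom_eq_coe, AlgHom.comp_algebraMap]

variable (j) in
/-- the comparison of a datum on schemes -/
abbrev Dat.gbar (d : Dat ι a₂ b₂ σ) : spT j σ (d.t.sq d.t) ⟶ ovR j (a₂.comp (algebraMap R₀ A)) := ovMap d.g d.g_comm

variable (j) in
/-- first point of the comparison chart -/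
abbrev cA : ovR j (a₂.comp (algebraMap R₀ A)) ⟶ ovR j (algebraMap R₀ A) := ovMap a₂ rfl

variable (j) in
/-- second point of the comparison chart -/
abbrev cB (hab : b₂.comp (algebraMap R₀ A) = a₂.comp (algebraMap R₀ A)) :
    ovR j (a₂.comp (algebraMap R₀ A)) ⟶ ovR j (algebraMap R₀ A) := ovMap b₂ hab

theorem Dat.gbar_cA (d : Dat ι a₂ b₂ σ) : d.gbar j ≫ cA j = prL j σ d.t d.t ≫ d.wbar j := by
  rw [ovMap_comp, ovMap_comp]
  exact ovMap_congr _ d.g_a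

theorem Dat.gbar_cB (d : Dat ι a₂ b₂ σ) (hab : b₂.comp (algebraMap R₀ A) = a₂.comp (algebraMap R₀ A)) :
    d.gbar j ≫ cB j hab = prR j σ d.t d.t ≫ d.wbar j := by
  rw [ovMap_comp, ovMap_comp]
  exact ovMap_congr _ d.g_b

theorem IsPull.spMap_wbar {f : T →+* T'} {d : Dat ι a₂ b₂ σ} {d' : Dat ι a₂ b₂ σ'} (h : IsPull f d d') :
    spMap (j := j) f h.hσ h.ht ≫ d.wbar j = d'.wbar j := by
  rw [ovMap_comp]
  exact ovMap_congr _ h.hw.symm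

theorem IsPull.spMap_gbar {f : T →+* T'} {d : Dat ι a₂ b₂ σ} {d' : Dat ι a₂ b₂ σ'} (h : IsPull f d d') :
    spMap (j := j) f h.hσ (Tab.map_sq_of_eq f h.ht h.ht) ≫ d.gbar j = d'.gbar j := by
  rw [ovMap_comp]
  exact ovMap_congr _ h.hg.symm

section compat

variable {κ : Type} [Fintype κ] [DecidableEq κ] {t : Tab ι T} {t' : Tab ι T'} {s : Tab κ T} {s' : Tab κ T'}

theorem spMap_prL (f : T →+* T') (hσ : f.comp σ = σ') (h : t.map f = t') (h' : s.map f = s') :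
    spMap (j := j) f hσ (Tab.map_sq_of_eq f h h') ≫ prL j σ t s = prL j σ' t' s' ≫ spMap f hσ h := by
  rw [ovMap_comp, ovMap_comp]
  exact ovMap_congr _ (RingHom.ext fun x => Tab.hom_inl f h h' x)

theorem spMap_prR (f : T →+* T') (hσ : f.comp σ = σ') (h : t.map f = t') (h' : s.map f = s') :
    spMap (j := j) f hσ (Tab.map_sq_of_eq f h h') ≫ prR j σ t s = prR j σ' t' s' ≫ spMap f hσ h' := by
  rw [ovMap_comp, ovMap_comp]
  exact ovMap_congr _ (RingHom.ext fun x => Tab.hom_inr f h h' x)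

end compat

variable (j σ) in
/-- the projection to the first and second factors of the triple product -/
abbrev p₁₂ (t : Tab ι T) : spT j σ ((t.sq t).sq t) ⟶ spT j σ (t.sq t) := prL j σ (t.sq t) t

variable (j σ) in
/-- the projection to the last two factors -/
def p₂₃ (t : Tab ι T) : spT j σ ((t.sq t).sq t) ⟶ spT j σ (t.sq t) :=
  (isPullback_prT t t).lift (p₁₂ j σ t ≫ prR j σ t t) (prR j σ (t.sq t) t)
    (by rw [Category.assoc]; exact (isPullback_prT₃ (j := j) (σ := σ) (t := t)).w)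

variable (j σ) in
/-- the projection to the outer factors -/
def p₁₃ (t : Tab ι T) : spT j σ ((t.sq t).sq t) ⟶ spT j σ (t.sq t) :=
  (isPullback_prT t t).lift (p₁₂ j σ t ≫ prL j σ t t) (prR j σ (t.sq t) t)
    (by rw [Category.assoc, (isPullback_prT t t).w]; exact (isPullback_prT₃ (j := j) (σ := σ) (t := t)).w)

theorem spMap_p₂₃ {t : Tab ι T} {t' : Tab ι T'} (f : T →+* T') (hσ : f.comp σ = σ') (h : t.map f = t') :
    spMap (j := j) f hσ (Tab.map_sq_of_eq f (Tab.map_sq_of_eq f h h) h) ≫ p₂₃ j σ t =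
      p₂₃ j σ' t' ≫ spMap f hσ (Tab.map_sq_of_eq f h h) := by
  refine (isPullback_prT t t).hom_ext ?_ ?_
  · rw [Category.assoc, Category.assoc, p₂₃, IsPullback.lift_fst, spMap_prL f hσ h h, p₂₃, IsPullback.lift_fst_assoc,
      reassoc_of% spMap_prL f hσ (Tab.map_sq_of_eq f h h) h, spMap_prR f hσ h h, Category.assoc]
  · rw [Category.assoc, Category.assoc, p₂₃, IsPullback.lift_snd, spMap_prR f hσ h h, p₂₃, IsPullback.lift_snd_assoc,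
      spMap_prR f hσ (Tab.map_sq_of_eq f h h) h]

theorem spMap_p₁₃ {t : Tab ι T} {t' : Tab ι T'} (f : T →+* T') (hσ : f.comp σ = σ') (h : t.map f = t') :
    spMap (j := j) f hσ (Tab.map_sq_of_eq f (Tab.map_sq_of_eq f h h) h) ≫ p₁₃ j σ t =
      p₁₃ j σ' t' ≫ spMap f hσ (Tab.map_sq_of_eq f h h) := by
  refine (isPullback_prT t t).hom_ext ?_ ?_
  · rw [Category.assoc, Category.assoc, p₁₃, IsPullback.lift_fst, spMap_prL f hσ h h, p₁₃, IsPullback.lift_fst_assoc,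
      reassoc_of% spMap_prL f hσ (Tab.map_sq_of_eq f h h) h, spMap_prL f hσ h h, Category.assoc]
  · rw [Category.assoc, Category.assoc, p₁₃, IsPullback.lift_snd, spMap_prR f hσ h h, p₁₃, IsPullback.lift_snd_assoc,
      spMap_prR f hσ (Tab.map_sq_of_eq f h h) h]

variable {𝒳 : BasedCategory.{v₂, u₂} (Over S)} (hX : FibCat.IsFibGrpd 𝒳.p)
  {hab : b₂.comp (algebraMap R₀ A) = a₂.comp (algebraMap R₀ A)}
  {x₁ : FibCat.overCat (ovR j (algebraMap R₀ A)) ⥤ᵇ 𝒳} (θ₂ : Hom2 x₁ x₁ (cA j (a₂ := a₂)) (cB j hab))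

include hX

/-- the isomorphism of a datum -/
def Dat.η (d : Dat ι a₂ b₂ σ) : Hom2 x₁ x₁ (prL j σ d.t d.t ≫ d.wbar j) (prR j σ d.t d.t ≫ d.wbar j) :=
  (Hom2.exists_res hX θ₂ (d.gbar j) _ _ d.gbar_cA (d.gbar_cB hab)).exists.choose

theorem Dat.η_spec (d : Dat ι a₂ b₂ σ) : Hom2.Res (d.gbar j) θ₂ (d.η hX θ₂) :=
  (Hom2.exists_res hX θ₂ (d.gbar j) _ _ d.gbar_cA (d.gbar_cB hab)).exists.choose_spec

theorem IsPull.res_η {f : T →+* T'} {d : Dat ι a₂ b₂ σ} {d' : Dat ι a₂ b₂ σ'} (h : IsPull f d d') :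
    Hom2.Res (spMap f h.hσ (Tab.map_sq_of_eq f h.ht h.ht)) (d.η hX θ₂) (d'.η hX θ₂) := by
  obtain ⟨θ', hθ', -⟩ := Hom2.exists_res hX (d.η hX θ₂) (spMap f h.hσ (Tab.map_sq_of_eq f h.ht h.ht))
    (prL j σ' d'.t d'.t ≫ d'.wbar j) (prR j σ' d'.t d'.t ≫ d'.wbar j)
    (by rw [reassoc_of% spMap_prL f h.hσ h.ht h.ht, h.spMap_wbar])
    (by rw [reassoc_of% spMap_prR f h.hσ h.ht h.ht, h.spMap_wbar])
  have r := (d.η_spec hX θ₂).trans hθ'
  rw [h.spMap_gbar] at r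
  obtain rfl := r.unique hX (d'.η_spec hX θ₂)
  exact hθ'

/-- restriction of the isomorphism of a datum to the first two factors -/
def Dat.θ₁₂ (d : Dat ι a₂ b₂ σ) : Hom2 x₁ x₁ ((p₁₂ j σ d.t ≫ prL j σ d.t d.t) ≫ d.wbar j)
    ((p₁₂ j σ d.t ≫ prR j σ d.t d.t) ≫ d.wbar j) :=
  (Hom2.exists_res hX (d.η hX θ₂) (p₁₂ j σ d.t) _ _ (Category.assoc _ _ _).symm
    (Category.assoc _ _ _).symm).exists.choose

/-- restriction of the isomorphism of a datum to the last two factors -/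
def Dat.θ₂₃ (d : Dat ι a₂ b₂ σ) : Hom2 x₁ x₁ ((p₁₂ j σ d.t ≫ prR j σ d.t d.t) ≫ d.wbar j)
    (prR j σ (d.t.sq d.t) d.t ≫ d.wbar j) :=
  (Hom2.exists_res hX (d.η hX θ₂) (p₂₃ j σ d.t) _ _ (by rw [← Category.assoc, p₂₃, IsPullback.lift_fst])
    (by rw [← Category.assoc, p₂₃, IsPullback.lift_snd])).exists.choose

/-- restriction of the isomorphism of a datum to the outer factors -/
def Dat.θ₁₃ (d : Dat ι a₂ b₂ σ) : Hom2 x₁ x₁ ((p₁₂ j σ d.t ≫ prL j σ d.t d.t) ≫ d.wbar j)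
    (prR j σ (d.t.sq d.t) d.t ≫ d.wbar j) :=
  (Hom2.exists_res hX (d.η hX θ₂) (p₁₃ j σ d.t) _ _ (by rw [← Category.assoc, p₁₃, IsPullback.lift_fst])
    (by rw [← Category.assoc, p₁₃, IsPullback.lift_snd])).exists.choose

theorem Dat.θ_spec (d : Dat ι a₂ b₂ σ) : Hom2.Res (p₁₂ j σ d.t) (d.η hX θ₂) (d.θ₁₂ hX θ₂) ∧
    Hom2.Res (p₂₃ j σ d.t) (d.η hX θ₂) (d.θ₂₃ hX θ₂) ∧ Hom2.Res (p₁₃ j σ d.t) (d.η hX θ₂) (d.θ₁₃ hX θ₂) :=
  ⟨(Hom2.exists_res hX (d.η hX θ₂) (p₁₂ j σ d.t) _ _ (Category.assoc _ _ _).symm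
      (Category.assoc _ _ _).symm).exists.choose_spec,
    (Hom2.exists_res hX (d.η hX θ₂) (p₂₃ j σ d.t) _ _ (by rw [← Category.assoc, p₂₃, IsPullback.lift_fst])
      (by rw [← Category.assoc, p₂₃, IsPullback.lift_snd])).exists.choose_spec,
    (Hom2.exists_res hX (d.η hX θ₂) (p₁₃ j σ d.t) _ _ (by rw [← Category.assoc, p₁₃, IsPullback.lift_fst])
      (by rw [← Category.assoc, p₁₃, IsPullback.lift_snd])).exists.choose_spec⟩

/-- the cocycle condition -/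
def Dat.Coc (d : Dat ι a₂ b₂ σ) : Prop := (d.θ₁₂ hX θ₂).comp (d.θ₂₃ hX θ₂) = d.θ₁₃ hX θ₂

/-- descent data of a datum satisfying the cocycle condition -/
def Dat.desc1 (d : Dat ι a₂ b₂ σ) (hc : d.Coc hX θ₂) : Desc1 x₁ (qT j σ d.t) where
  w := d.wbar j
  T₂ := spT j σ (d.t.sq d.t)
  pr₁ := prL j σ d.t d.t
  pr₂ := prR j σ d.t d.t
  sq := isPullback_prT d.t d.t
  T₃ := spT j σ ((d.t.sq d.t).sq d.t)
  p₁₂ := p₁₂ j σ d.t
  p₃ := prR j σ (d.t.sq d.t) d.t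
  sq₃ := isPullback_prT₃ d.t
  η := d.η hX θ₂
  cocycle k₂₃ k₁₃ e₁ e₂ e₃ e₄ a b c θ θ' θ'' r r' r'' := by
    obtain rfl : k₂₃ = p₂₃ j σ d.t :=
      (isPullback_prT d.t d.t).hom_ext (by rw [e₁, p₂₃, IsPullback.lift_fst]) (by rw [e₂, p₂₃, IsPullback.lift_snd])
    obtain rfl : k₁₃ = p₁₃ j σ d.t :=
      (isPullback_prT d.t d.t).hom_ext (by rw [e₃, p₁₃, IsPullback.lift_fst]) (by rw [e₄, p₁₃, IsPullback.lift_snd])
    obtain ⟨s₁, s₂, s₃⟩ := d.θ_spec hX θ₂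
    obtain rfl : (p₁₂ j σ d.t ≫ prL j σ d.t d.t) ≫ d.wbar j = a := by rw [← r.1, Category.assoc]
    obtain rfl : (p₁₂ j σ d.t ≫ prR j σ d.t d.t) ≫ d.wbar j = b := by rw [← r.2.1, Category.assoc]
    obtain rfl : prR j σ (d.t.sq d.t) d.t ≫ d.wbar j = c := by
      rw [← r'.2.1, ← Category.assoc, e₂]
    rw [r.unique hX s₁, r'.unique hX s₂, r''.unique hX s₃]
    exact hc

theorem IsPull.res_θ {f : T →+* T'} {d : Dat ι a₂ b₂ σ} {d' : Dat ι a₂ b₂ σ'} (h : IsPull f d d') :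
    Hom2.Res (spMap f h.hσ (Tab.map_sq_of_eq f (Tab.map_sq_of_eq f h.ht h.ht) h.ht))
        ((d.θ₁₂ hX θ₂).comp (d.θ₂₃ hX θ₂)) ((d'.θ₁₂ hX θ₂).comp (d'.θ₂₃ hX θ₂)) ∧
      Hom2.Res (spMap f h.hσ (Tab.map_sq_of_eq f (Tab.map_sq_of_eq f h.ht h.ht) h.ht))
        (d.θ₁₃ hX θ₂) (d'.θ₁₃ hX θ₂) := by
  obtain ⟨s₁, s₂, s₃⟩ := d.θ_spec hX θ₂
  obtain ⟨t₁, t₂, t₃⟩ := d'.θ_spec hX θ₂
  have hl := spMap_prL (j := j) f h.hσ h.ht h.ht
  have hr := spMap_prR (j := j) f h.hσ h.ht h.ht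
  have hl' := spMap_prL (j := j) f h.hσ (Tab.map_sq_of_eq f h.ht h.ht) h.ht
  have hr' := spMap_prR (j := j) f h.hσ (Tab.map_sq_of_eq f h.ht h.ht) h.ht
  obtain ⟨χ₁, r₁, -⟩ := Hom2.exists_res hX (d.θ₁₂ hX θ₂)
    (spMap f h.hσ (Tab.map_sq_of_eq f (Tab.map_sq_of_eq f h.ht h.ht) h.ht))
    ((p₁₂ j σ' d'.t ≫ prL j σ' d'.t d'.t) ≫ d'.wbar j) ((p₁₂ j σ' d'.t ≫ prR j σ' d'.t d'.t) ≫ d'.wbar j)
    (by rw [Category.assoc, reassoc_of% hl', reassoc_of% hl, h.spMap_wbar, Category.assoc])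
    (by rw [Category.assoc, reassoc_of% hl', reassoc_of% hr, h.spMap_wbar, Category.assoc])
  obtain ⟨χ₂, r₂, -⟩ := Hom2.exists_res hX (d.θ₂₃ hX θ₂)
    (spMap f h.hσ (Tab.map_sq_of_eq f (Tab.map_sq_of_eq f h.ht h.ht) h.ht))
    ((p₁₂ j σ' d'.t ≫ prR j σ' d'.t d'.t) ≫ d'.wbar j) (prR j σ' (d'.t.sq d'.t) d'.t ≫ d'.wbar j)
    (by rw [Category.assoc, reassoc_of% hl', reassoc_of% hr, h.spMap_wbar, Category.assoc])
    (by rw [reassoc_of% hr', h.spMap_wbar])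
  obtain ⟨χ₃, r₃, -⟩ := Hom2.exists_res hX (d.θ₁₃ hX θ₂)
    (spMap f h.hσ (Tab.map_sq_of_eq f (Tab.map_sq_of_eq f h.ht h.ht) h.ht))
    ((p₁₂ j σ' d'.t ≫ prL j σ' d'.t d'.t) ≫ d'.wbar j) (prR j σ' (d'.t.sq d'.t) d'.t ≫ d'.wbar j)
    (by rw [Category.assoc, reassoc_of% hl', reassoc_of% hl, h.spMap_wbar, Category.assoc])
    (by rw [reassoc_of% hr', h.spMap_wbar])
  have e₁ := s₁.trans r₁
  rw [spMap_prL f h.hσ (Tab.map_sq_of_eq f h.ht h.ht) h.ht] at e₁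
  have e₂ := s₂.trans r₂
  rw [spMap_p₂₃ f h.hσ h.ht] at e₂
  have e₃ := s₃.trans r₃
  rw [spMap_p₁₃ f h.hσ h.ht] at e₃
  obtain rfl := e₁.unique hX ((h.res_η hX θ₂).trans t₁)
  obtain rfl := e₂.unique hX ((h.res_η hX θ₂).trans t₂)
  obtain rfl := e₃.unique hX ((h.res_η hX θ₂).trans t₃)
  exact ⟨Hom2.res_comp r₁ r₂, r₃⟩

theorem IsPull.coc_iff {f : T →+* T'} {d : Dat ι a₂ b₂ σ} {d' : Dat ι a₂ b₂ σ'} (h : IsPull f d d') :
    d'.Coc hX θ₂ ↔ SameRes x₁ x₁ (spMap f h.hσ (Tab.map_sq_of_eq f (Tab.map_sq_of_eq f h.ht h.ht) h.ht))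
      (spMap f h.hσ (Tab.map_sq_of_eq f (Tab.map_sq_of_eq f h.ht h.ht) h.ht))
      ((d.θ₁₂ hX θ₂).comp (d.θ₂₃ hX θ₂)) (d.θ₁₃ hX θ₂) := by
  obtain ⟨r₁, r₂⟩ := h.res_θ hX θ₂
  refine ⟨fun hc => ⟨_, _, _, r₁, hc.symm ▸ r₂⟩, fun ⟨a, b, θ, q₁, q₂⟩ => ?_⟩
  obtain rfl := q₁.1.symm.trans r₁.1
  obtain rfl := q₁.2.1.symm.trans r₁.2.1
  exact ((q₁.unique hX r₁).symm.trans (q₂.unique hX r₂) :)

theorem IsPull.coc {f : T →+* T'} {d : Dat ι a₂ b₂ σ} {d' : Dat ι a₂ b₂ σ'} (h : IsPull f d d')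
    (hc : d.Coc hX θ₂) : d'.Coc hX θ₂ := by
  obtain ⟨r₁, r₂⟩ := h.res_θ hX θ₂
  exact (r₁.unique hX (hc.symm ▸ r₂) :)

/-- the moduli of descent data near a given affine piece of the cocycle locus -/
theorem exists_mod (d₀ : Dat ι a₂ b₂ σ)
    (huniv : ∀ (Z : Type u) [CommRing Z] (σZ : R₀ →+* Z) (d : Dat ι a₂ b₂ σZ), ∃! f : T →+* Z, IsPull f d₀ d)
    {C₃ : Type u} [CommRing C₃] (f₃ : ((d₀.t.sq d₀.t).sq d₀.t).Alg →+* C₃) [Mono (Spec.map (ofHom f₃))]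
    (hE : SameRes x₁ x₁ (ovMap (j := j) f₃ rfl) (ovMap f₃ rfl) ((d₀.θ₁₂ hX θ₂).comp (d₀.θ₂₃ hX θ₂))
      (d₀.θ₁₃ hX θ₂)) :
    ∃ (W : Type u) (_ : CommRing W) (σW : R₀ →+* W) (d₁ : Dat ι a₂ b₂ σW) (f₀ : T →+* W),
      IsPull f₀ d₀ d₁ ∧ d₁.Coc hX θ₂ ∧
      (∃ (h : ((d₀.t.sq d₀.t).sq d₀.t).map f₀ = (d₁.t.sq d₁.t).sq d₁.t)
        (k : C₃ →+* ((d₁.t.sq d₁.t).sq d₁.t).Alg), k.comp f₃ = Tab.hom f₀ h) ∧
      ∀ (Z : Type u) [CommRing Z] (σZ : R₀ →+* Z) (d : Dat ι a₂ b₂ σZ) (f : T →+* Z) (hf : IsPull f d₀ d),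
        (∃ k : C₃ →+* ((d.t.sq d.t).sq d.t).Alg,
          k.comp f₃ = Tab.hom f (Tab.map_sq_of_eq f (Tab.map_sq_of_eq f hf.ht hf.ht) hf.ht)) →
        ∃! f' : W →+* Z, IsPull f' d₁ d := by
  let t₃ := (d₀.t.sq d₀.t).sq d₀.t
  letI : Algebra T C₃ := (f₃.comp (algebraMap T t₃.Alg)).toAlgebra
  obtain ⟨W, _, _, F, hF, -⟩ := exists_wres t₃ T C₃ (Set.range fun z => (f₃ z, z))
  obtain ⟨d₁, hd₁⟩ := d₀.exists_pull (algebraMap T W)
  have h3 : t₃.map (algebraMap T W) = (d₁.t.sq d₁.t).sq d₁.t :=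
    Tab.map_sq_of_eq _ (Tab.map_sq_of_eq _ hd₁.ht hd₁.ht) hd₁.ht
  have hid : (t₃.map (algebraMap T W)).map (RingHom.id W) = (d₁.t.sq d₁.t).sq d₁.t := by rw [Tab.map_id, h3]
  let k := (Tab.hom (RingHom.id W) hid).comp F
  have hk : k.comp f₃ = Tab.hom (algebraMap T W) h3 := RingHom.ext fun z => by
    show Tab.hom _ hid (F (f₃ z)) = _
    rw [hF.2.1 _ ⟨z, rfl⟩]
    exact ((d₁.t.sq d₁.t).sq d₁.t).ext' fun p => by rw [Tab.coord_hom, Tab.coord_mapHom, Tab.coord_hom]; rfl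
  have hcoc : d₁.Coc hX θ₂ := by
    rw [hd₁.coc_iff hX θ₂]
    have hm : spMap (j := j) (algebraMap T W) hd₁.hσ h3 =
        ovMap k (by rw [← RingHom.comp_assoc, hk, ← RingHom.comp_assoc,
          show (Tab.hom (algebraMap T W) h3).comp (algebraMap T t₃.Alg) =
            (algebraMap W ((d₁.t.sq d₁.t).sq d₁.t).Alg).comp (algebraMap T W) from
            RingHom.ext (Tab.hom_algebraMap _ h3), RingHom.comp_assoc]) ≫ ovMap f₃ rfl := by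
      rw [ovMap_comp]
      exact ovMap_congr _ hk.symm
    rw [hm]
    exact hE.precomp hX _
  refine ⟨W, inferInstance, _, d₁, algebraMap T W, hd₁, hcoc, ⟨h3, k, hk⟩, fun Z _ σZ d f hf hkz => ?_⟩
  obtain ⟨kz, hkz⟩ := hkz
  have hf3 : t₃.map f = (d.t.sq d.t).sq d.t := Tab.map_sq_of_eq f (Tab.map_sq_of_eq f hf.ht hf.ht) hf.ht
  obtain ⟨f', ⟨hf', hf'F⟩, hu⟩ := hF.2.2 Z f ((d.t.sq d.t).sq d.t) hf3 kz
    (fun r => by
      show kz (f₃ (algebraMap T t₃.Alg r)) = algebraMap Z _ (f r)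
      rw [show kz (f₃ (algebraMap T t₃.Alg r)) = Tab.hom f hf3 (algebraMap T t₃.Alg r) from RingHom.congr_fun hkz _,
        Tab.hom_algebraMap])
    (by rintro _ ⟨z, rfl⟩; exact RingHom.congr_fun hkz z)
  refine ⟨f', ⟨?_, ?_, ?_, ?_⟩, fun f'' h'' => ?_⟩
  · rw [← RingHom.comp_assoc, hf', hf.hσ]
  · rw [← hd₁.ht, Tab.map_map, hf', hf.ht]
  · refine RingHom.ext fun x => ?_
    rw [hf.hw, hd₁.hw, RingHom.comp_apply, RingHom.comp_apply, RingHom.comp_apply, Tab.hom_hom]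
    congr 2
    exact hf'.symm
  · refine RingHom.ext fun x => ?_
    rw [hf.hg, hd₁.hg, RingHom.comp_apply, RingHom.comp_apply, RingHom.comp_apply, Tab.hom_hom]
    congr 2
    exact hf'.symm
  · have e : f''.comp (algebraMap T W) = f := (huniv Z σZ d).unique (hd₁.trans h'') hf
    refine hu f'' ⟨e, fun z p => ?_⟩
    have e3 : ((d₁.t.sq d₁.t).sq d₁.t).map f'' = (d.t.sq d.t).sq d.t :=
      Tab.map_sq_of_eq f'' (Tab.map_sq_of_eq f'' h''.ht h''.ht) h''.ht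
    -- maps out of the chart of the cocycle locus are determined on the triple product
    have key : ∀ k' : C₃ →+* ((d.t.sq d.t).sq d.t).Alg, k'.comp f₃ = kz.comp f₃ → k' = kz := fun k' hk' => by
      have := (cancel_mono (Spec.map (ofHom f₃))).1
        (show Spec.map (ofHom k') ≫ Spec.map (ofHom f₃) = Spec.map (ofHom kz) ≫ Spec.map (ofHom f₃) by
          rw [← Spec.map_comp, ← ofHom_comp, hk', ofHom_comp, Spec.map_comp])
      exact congrArg CommRingCat.Hom.hom (Spec.map_injective this)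
    have hkk := key ((Tab.hom f'' e3).comp k) (by
      rw [RingHom.comp_assoc, hk, hkz]
      refine RingHom.ext fun x => ?_
      rw [RingHom.comp_apply, Tab.hom_hom]
      congr 2)
    rw [← hkk]
    show _ = ((d.t.sq d.t).sq d.t).coord (Tab.hom f'' e3 (Tab.hom _ hid (F z))) p
    rw [Tab.coord_hom]
    exact congrArg f'' (Tab.coord_hom (RingHom.id W) hid (F z) p).symm

end Groth.Agent.ArtinAtlas

end
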