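import Groth.Agent.ArtinAtlas.Setup

/-!
# The moduli of descent data near the datum of a germ
-/

set_option autoImplicit false
set_option backward.isDefEq.respectTransparency false
set_option backward.isDefEq.respectTransparency.types false
set_option linter.style.haveILetI false
universe v₂ u₂ u

noncomputable section

namespace Groth.Agent.ArtinAtlas

open CategoryTheory CategoryTheory.Limits AlgebraicGeometry CommRingCat Opposite Groth.Agent.AlgSpLib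
open _root_.AlgSp _root_.AlgSt

variable {S : Scheme.{u}} {𝒳 : BasedCategory.{v₂, u₂} (Over S)} {R₀ A : Type u} [CommRing R₀] [CommRing A]
  [Algebra R₀ A] {j : Spec (CommRingCat.of R₀) ⟶ S} {x₁ : FibCat.overCat (ovR j (algebraMap R₀ A)) ⥤ᵇ 𝒳}
  {hX : FibCat.IsFibGrpd 𝒳.p} {k : Type u} [Field k] {str₀ : A →+* k}

/-- the datum of a germ -/
abbrev Germ.d (G : Germ x₁ hX str₀) : Dat (Fin G.n) G.a₂ G.b₂ (str₀.comp (algebraMap R₀ A)) :=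
  ⟨G.t, G.φ.comp G.bP, (⟨str₀, rfl, G.φ, G.φA⟩ : Fr A G.P (str₀.comp (algebraMap R₀ A)) G.t).w_comm G.hab, G.g, G.g_a, G.g_b⟩

/-- the moduli of descent data near a germ, with the descended chart -/
structure Moduli (G : Germ x₁ hX str₀) where
  /-- the ring -/
  W : Type u
  [ring : CommRing W]
  σ : R₀ →+* W
  /-- the family -/
  d : Dat (Fin G.n) G.a₂ G.b₂ σ
  coc : d.Coc hX G.θ₂
  /-- the descended chart -/
  c : FibCat.overCat (ovR j σ) ⥤ᵇ 𝒳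
  /-- its restriction -/
  φc : Hom2 c x₁ (qT j σ d.t) (d.wbar j)
  compat : ∀ {a : spT j σ (d.t.sq d.t) ⟶ ovR j σ} (φ₁ : Hom2 c x₁ a (prL j σ d.t d.t ≫ d.wbar j))
      (φ₂ : Hom2 c x₁ a (prR j σ d.t d.t ≫ d.wbar j)),
    Hom2.Res (prL j σ d.t d.t) φc φ₁ → Hom2.Res (prR j σ d.t d.t) φc φ₂ → φ₁.comp (d.η hX G.θ₂) = φ₂
  unique : ∀ {Z : Type u} [CommRing Z] {σZ : R₀ →+* Z} {d' : Dat (Fin G.n) G.a₂ G.b₂ σZ} {f f' : W →+* Z},
    IsPull f d d' → IsPull f' d d' → f = f'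
  univ : ∀ (Z : Type u) [CommRing Z] (σZ : R₀ →+* Z) (d' : Dat (Fin G.n) G.a₂ G.b₂ σZ),
    d'.Coc hX G.θ₂ → ∀ (h : Z →+* k), IsPull h d' G.d → ∃ f : Z, h f ≠ 0 ∧
      ∀ (Z' : Type u) [CommRing Z'] (σ' : R₀ →+* Z') (g : Z →+* Z') (d'' : Dat (Fin G.n) G.a₂ G.b₂ σ'),
        IsPull g d' d'' → IsUnit (g f) → ∃! f' : W →+* Z', IsPull f' d d''

attribute [instance] Moduli.ring

variable [Mono j]

/-- moduli of descent data exist near a germ -/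
theorem exists_moduli (hS : Stk.IsStack (QuotSh.J Scheme.fppfPrecoverage S) 𝒳)
    (hx₁ : RepByAlgSp1 x₁) (G : Germ x₁ hX str₀) : Nonempty (Moduli G) := by
  classical
  haveI : Nonempty (Fin G.n) := ⟨⟨0, G.hn⟩⟩
  obtain ⟨W₀, _, σ₀, d₀, hu₀⟩ := exists_univ_dat (ι := Fin G.n) (a₂ := G.a₂) (b₂ := G.b₂) (R₀ := R₀) (A := A)
  obtain ⟨fk, hfk, -⟩ := hu₀ k _ G.d
  have hck : G.d.Coc hX G.θ₂ := Fr.Lifts.coc hX G.θP G.θ₂ G.lifts
  obtain ⟨D, -⟩ := exists_pairSp hX x₁ hx₁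
  obtain ⟨E, q, hq, hqq, hE⟩ := D.exists_eqLocus hX ((d₀.θ₁₂ hX G.θ₂).comp (d₀.θ₂₃ hX G.θ₂)) (d₀.θ₁₃ hX G.θ₂)
  haveI := hq
  obtain ⟨w₃, hw₃⟩ := hE _ ((hfk.coc_iff hX G.θ₂).1 hck)
  let t₃ : Tab ((Fin G.n × Fin G.n) × Fin G.n) k := (G.t.sq G.t).sq G.t
  haveI : Subsingleton (PrimeSpectrum t₃.Alg) := Tab.Loc.subsingleton (Tab.Loc.sq (Tab.Loc.sq G.loc G.loc) G.loc)
  haveI : Nontrivial t₃.Alg := Tab.nontrivial_alg _
  let z₀ : PrimeSpectrum t₃.Alg := Classical.arbitrary _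
  obtain ⟨V, hV, hzV, -⟩ := exists_isAffineOpen_mem_and_subset (X := E.left) (x := w₃.left z₀) (U := ⊤) trivial
  have hrange : Set.range w₃.left ⊆ V := by
    rintro _ ⟨z, rfl⟩
    obtain rfl : z = z₀ := @Subsingleton.elim (PrimeSpectrum t₃.Alg) _ z z₀
    exact hzV
  let E₀ : Over S := Over.mk (V.ι ≫ E.hom)
  let i : E₀ ⟶ E := Over.homMk V.ι
  haveI : IsAffine E₀.left := hV
  obtain ⟨C₃, _, f₃, e, he⟩ := exists_ovR_iso (j := j) (i ≫ q)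
  haveI : IsIso e.hom.left := inferInstanceAs (IsIso ((Over.forget S).map e.hom))
  haveI : IsOpenImmersion i.left := inferInstanceAs (IsOpenImmersion V.ι)
  haveI : Mono q.left := (Over.forget S).map_mono q
  haveI : Mono (Spec.map (ofHom f₃)) := by
    rw [show Spec.map (ofHom f₃) = e.hom.left ≫ i.left ≫ q.left from (congrArg Over.Hom.left he).symm]
    infer_instance
  have hE₃ := hqq.precomp hX (e.hom ≫ i)
  rw [Category.assoc, he] at hE₃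
  -- factorisation through the affine piece
  have fact : ∀ {Z : Type u} [CommRing Z] {σZ : R₀ →+* Z} {d' : Dat (Fin G.n) G.a₂ G.b₂ σZ} {f : W₀ →+* Z}
      (hf : IsPull f d₀ d') (wz : spT j σZ ((d'.t.sq d'.t).sq d'.t) ⟶ E),
      wz ≫ q = spMap f hf.hσ (Tab.map_sq_of_eq f (Tab.map_sq_of_eq f hf.ht hf.ht) hf.ht) →
      Set.range wz.left ⊆ V →
      ∃ kk : C₃ →+* ((d'.t.sq d'.t).sq d'.t).Alg,
        kk.comp f₃ = Tab.hom f (Tab.map_sq_of_eq f (Tab.map_sq_of_eq f hf.ht hf.ht) hf.ht) := by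
    intro Z _ σZ d' f hf wz hwz hr
    let v : spT j σZ ((d'.t.sq d'.t).sq d'.t) ⟶ E₀ :=
      Over.homMk (IsOpenImmersion.lift V.ι wz.left (hr.trans_eq V.range_ι.symm)) (by
        show _ ≫ V.ι ≫ E.hom = _
        rw [IsOpenImmersion.lift_fac_assoc, Over.w wz])
    have hv : v ≫ i = wz := Over.OverMorphism.ext (IsOpenImmersion.lift_fac _ _ _)
    obtain ⟨kk, hkk, hvk⟩ := exists_ovMap (v ≫ e.inv)
    have e2 : v ≫ e.inv ≫ ovMap f₃ rfl = wz ≫ q := by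
      rw [← he, e.inv_hom_id_assoc, ← Category.assoc, hv]
    rw [← Category.assoc, hvk, hwz, ovMap_comp] at e2
    exact ⟨kk, ovMap_injective e2⟩
  obtain ⟨W, _, σW, d₁, f₀, hf₀, hcoc, ⟨h3, k₁, hk₁⟩, huniv⟩ :=
    exists_mod hX G.θ₂ d₀ hu₀ f₃ hE₃
  obtain ⟨c, φc, hφc⟩ := (d₁.desc1 hX G.θ₂ hcoc).exists_chart hS
  refine ⟨⟨W, σW, d₁, hcoc, c, φc, @hφc, @fun Z _ σZ d' f f' hf hf' => ?_, fun Z _ σZ d' hc h hh => ?_⟩⟩
  · obtain ⟨g₀, -, hug⟩ := hu₀ Z σZ d'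
    refine (huniv Z σZ d' (f.comp f₀) (hf₀.trans hf) ⟨(Tab.hom f (Tab.map_sq_of_eq f (Tab.map_sq_of_eq f hf.ht hf.ht) hf.ht)).comp k₁, ?_⟩).unique hf hf'
    exact RingHom.ext fun z => by
      rw [RingHom.comp_apply, RingHom.comp_apply, show k₁ (f₃ z) = Tab.hom f₀ h3 z from RingHom.congr_fun hk₁ z, Tab.hom_hom]
  obtain ⟨g₀, hg₀, hug⟩ := hu₀ Z σZ d'
  obtain ⟨wz, hwz⟩ := hE _ ((hg₀.coc_iff hX G.θ₂).1 hc)
  have hgk : h.comp g₀ = fk := by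
    obtain ⟨fk', -, hu'⟩ := hu₀ k _ G.d
    rw [hu' _ (hg₀.trans hh), hu' _ hfk]
  have ht₃ := Tab.map_sq_of_eq h (Tab.map_sq_of_eq h hh.ht hh.ht) hh.ht
  have hk3 : spMap (j := j) h hh.hσ ht₃ ≫ wz = w₃ := by
    rw [← cancel_mono q, Category.assoc, hwz, hw₃, ovMap_comp]
    exact ovMap_congr _ (RingHom.ext fun z => by
      rw [RingHom.comp_apply, Tab.hom_hom]; simp only [hgk])
  obtain ⟨f, hf, hfu⟩ := exists_away h hh.hσ ht₃ wz V (by rw [hk3]; exact hrange)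
  refine ⟨f, hf, fun Z' _ σ' g d'' hd'' hu => ?_⟩
  have hg' : IsPull (g.comp g₀) d₀ d'' := hg₀.trans hd''
  refine huniv Z' σ' d'' (g.comp g₀) hg' (fact hg' (spMap g hd''.hσ
    (Tab.map_sq_of_eq g (Tab.map_sq_of_eq g hd''.ht hd''.ht) hd''.ht) ≫ wz) ?_ (hfu Z' σ' g hd''.hσ _ _ hu))
  rw [Category.assoc, hwz, ovMap_comp]
  exact ovMap_congr _ (RingHom.ext fun z => by rw [RingHom.comp_apply, Tab.hom_hom])

end Groth.Agent.ArtinAtlas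

end
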