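import Groth.Agent.ArtinAtlas.Piece

/-!
# Frames over a chart of isomorphisms form etale schemes
-/

set_option autoImplicit false
set_option backward.isDefEq.respectTransparency false
set_option backward.isDefEq.respectTransparency.types false
set_option linter.style.haveILetI false
universe v₂ u₂ u

noncomputable section

namespace Groth.Agent.ArtinAtlas

open CategoryTheory CategoryTheory.Limits AlgebraicGeometry CommRingCat
open _root_.AlgSp _root_.AlgSt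

variable {S : Scheme.{u}} {𝒳 : BasedCategory.{v₂, u₂} (Over S)} {R₀ A : Type u} [CommRing R₀] [CommRing A]
  [Algebra R₀ A] {j : Spec (CommRingCat.of R₀) ⟶ S} {x₁ : FibCat.overCat (ovR j (algebraMap R₀ A)) ⥤ᵇ 𝒳}
  {hX : FibCat.IsFibGrpd 𝒳.p} {k : Type u} [Field k] {str₀ : A →+* k} {G : Germ x₁ hX str₀} {Mo : Moduli G}
  {Sl : Slice Mo}

theorem QPt.eqA (q : QPt Sl) : q.e.comp q.qA = Sl.h.comp Sl.fW := by
  have e := q.same.endpoints.1
  rw [ovMap_comp, ovMap_comp] at e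
  exact ovMap_injective e

theorem QPt.eqB (q : QPt Sl) : q.e.comp q.qB = str₀ := by
  have e := q.same.endpoints.2
  rw [ovMap_comp, ovMap_comp] at e
  exact (ovMap_injective e).trans Sl.hpk.hstr.symm

/-- frames whose descended isomorphism is the one of the chart, as an etale scheme over the chart -/
structure OPiece (q : QPt Sl) where
  /-- the ring -/
  O : Type u
  [ring : CommRing O]
  aO : q.Q →+* O
  etale : aO.Etale
  σ : R₀ →+* O
  hσ : aO.comp (q.qA.comp Mo.σ) = σ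
  /-- the datum -/
  d : Dat (Fin G.n) G.a₂ G.b₂ σ
  hd : IsPull (aO.comp q.qA) Mo.d d
  /-- the frame -/
  p : Fr A G.P σ d.t
  hstr : p.str = aO.comp q.qB
  lifts : Fr.Lifts hX G.θP G.θ₂ d p
  desc : ∀ ψ' : Hom2 Mo.c x₁ (ovMap (j := j) (aO.comp q.qA) hd.hσ) p.sbar,
    Hom2.Res (ovMap (j := j) aO hσ) q.θQ ψ' → Mo.IsDesc hd.hσ hd.ht p ψ'
  /-- the point -/
  h : O →+* k
  ha : h.comp aO = q.e
  hdk : IsPull h d G.d
  hpk : IsPullFr h p G.p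
  univ : ∀ {Z : Type u} [CommRing Z] {σ' : R₀ →+* Z} (c : q.Q →+* Z) (hc : c.comp (q.qA.comp Mo.σ) = σ')
    {d' : Dat (Fin G.n) G.a₂ G.b₂ σ'} {p' : Fr A G.P σ' d'.t} (hd' : IsPull (c.comp q.qA) Mo.d d'),
    d'.w = p'.φ.comp G.bP → ∀ (ψ' : Hom2 Mo.c x₁ (ovMap (j := j) (c.comp q.qA) hd'.hσ) p'.sbar),
    Hom2.Res (ovMap (j := j) c hc) q.θQ ψ' → Mo.IsDesc hd'.hσ hd'.ht p' ψ' →
    ∀ (hz : Z →+* k), hz.comp c = q.e → IsPull hz d' G.d → IsPullFr hz p' G.p → ∃ f : Z, hz f ≠ 0 ∧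
      ∀ {Z' : Type u} [CommRing Z'] {σ'' : R₀ →+* Z'} {g : Z →+* Z'} {d'' : Dat (Fin G.n) G.a₂ G.b₂ σ''}
        {p'' : Fr A G.P σ'' d''.t}, IsPull g d' d'' → IsPullFr g p' p'' → IsUnit (g f) →
        ∃ r : O →+* Z', r.comp aO = g.comp c ∧ IsPull r d d'' ∧ IsPullFr r p p''
  sep : ∀ {Z : Type u} [CommRing Z] {σ' : R₀ →+* Z} {t' : Tab (Fin G.n) Z} {p' : Fr A G.P σ' t'}
    {r r' : O →+* Z}, r.comp aO = r'.comp aO → IsPullFr r p p' → IsPullFr r' p p' → r = r'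

attribute [instance] OPiece.ring

variable [Mono j]

/-- frames over the chart of isomorphisms form an etale piece -/
theorem exists_oPiece (q : QPt Sl) : Nonempty (OPiece q) := by
  haveI : Nonempty (Fin G.n) := ⟨⟨0, G.hn⟩⟩
  haveI := G.nontrivial
  haveI : Subsingleton (PrimeSpectrum G.t.Alg) := Tab.Loc.subsingleton G.loc
  obtain ⟨dQ, hdQ⟩ := Mo.d.exists_pull q.qA
  obtain ⟨θn, hθn⟩ := Moduli.isDesc_iff hdQ q.hB (θQ := q.θQ)
  obtain ⟨W, lW, qW, hqW, hlW, huW⟩ := G.liftP θn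
  haveI := hqW
  -- the point
  have hk : IsPull q.e dQ G.d := hdQ.of_comp (by rw [q.eqA]; exact Sl.hd.trans Sl.hdk)
  have hsk : SameRes x₁ x₁ G.p.φbar (spMap q.e hk.hσ hk.ht) G.θP θn := by
    obtain ⟨ψk, hψk, -⟩ := Hom2.exists_res hX q.θQ (ovMap q.e q.he)
      (ovMap (j := j) (q.e.comp q.qA) (by rw [RingHom.comp_assoc, q.he])) G.p.sbar
      (ovMap_comp _ _ _ _) ((ovMap_comp _ _ _ _).trans (ovMap_congr _ q.eqB))
    refine (hθn hk.hσ hk.ht _ (by rw [← hk.ht, ← hdQ.ht, Tab.map_map]) hψk ?_).1 ?_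
    · rw [hk.spMap_wbar, Fr.wbar_eq G.lifts.hw]
    · obtain ⟨a, b, χ, r₁, r₂⟩ := q.same
      obtain rfl := r₁.1.symm.trans hψk.1
      obtain rfl := r₁.2.1.symm.trans hψk.2.1
      obtain rfl := r₁.unique hX hψk
      exact Moduli.IsDesc.pull (hd := Sl.hd) Sl.lifts.hw q.desc Sl.hpk q.eqA.symm _ _ r₂
  obtain ⟨wk, ⟨hwk, hwk'⟩, hwku⟩ := huW _ _ hsk
  obtain ⟨O, _, _, h, σO, tO, hσO, htO, l, hσk, htk, V, hO, hh, hlq, hlk, hwkV, hlV, hVu⟩ :=
    exists_lift_space (tk := G.t) q.e hk.hσ hk.ht qW wk hwk'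
  subst hσO
  let aO := algebraMap q.Q O
  obtain ⟨d, hd⟩ := dQ.exists_pull aO
  obtain rfl : d.t = tO := hd.ht.symm.trans htO
  obtain ⟨φ, hφ, hφe⟩ := exists_ovMap (l ≫ lW)
  have hs := hlW.precomp hX l
  rw [hφe, hlq] at hs
  obtain ⟨ea, eb⟩ := hs.endpoints
  rw [← Category.assoc, ← qT_ovMap hd.hσ hd.ht, Category.assoc, ovMap_comp, ovMap_comp, ovMap_comp] at ea
  rw [hd.spMap_wbar, ovMap_comp] at eb
  have hstr : (aO.comp q.qB).comp (algebraMap R₀ A) = aO.comp (q.qA.comp Mo.σ) := by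
    rw [RingHom.comp_assoc, q.hB]
  let p : Fr A G.P (aO.comp (q.qA.comp Mo.σ)) d.t := ⟨aO.comp q.qB, hstr, φ, ovMap_injective ea⟩
  have hw : d.w = p.φ.comp G.bP := (ovMap_injective eb).symm
  have hdW : IsPull (aO.comp q.qA) Mo.d d := hdQ.trans hd
  have hdesc : ∀ ψ' : Hom2 Mo.c x₁ (ovMap (j := j) (aO.comp q.qA) hdW.hσ) p.sbar,
      Hom2.Res (ovMap (j := j) aO rfl) q.θQ ψ' → Mo.IsDesc hdW.hσ hdW.ht p ψ' := fun ψ' hψ' =>
    (hθn hd.hσ hd.ht hdW.hσ hdW.ht hψ' (by rw [hd.spMap_wbar, Fr.wbar_eq hw])).2 hs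
  have hlift : Fr.Lifts hX G.θP G.θ₂ d p := by
    obtain ⟨ψ', hψ', -⟩ := Hom2.exists_res hX q.θQ (ovMap (j := j) aO rfl)
      (ovMap (j := j) (aO.comp q.qA) hdW.hσ) p.sbar (ovMap_comp _ _ _ _) (ovMap_comp _ _ _ _)
    exact Moduli.IsDesc.lifts (hd := hdW) hw (hdesc ψ' hψ')
  have mk : ∀ {Z : Type u} [CommRing Z] {σ' : R₀ →+* Z} {t' : Tab (Fin G.n) Z} {p' : Fr A G.P σ' t'}
      (r : O →+* Z) (hσ : r.comp (aO.comp (q.qA.comp Mo.σ)) = σ') (ht : d.t.map r = t'),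
      p'.str = r.comp p.str → (spMap (j := j) r hσ ht ≫ l) ≫ lW = p'.φbar → IsPullFr r p p' := by
    intro Z _ σ' t' p' r hσ ht hs' e
    rw [Category.assoc, hφe, ovMap_comp] at e
    exact ⟨hσ, ht, hs', (ovMap_injective e).symm⟩
  have hpk : IsPullFr h p G.p := by
    refine mk h hσk htk ?_ (by rw [hlk, hwk])
    show str₀ = h.comp (aO.comp q.qB)
    rw [← RingHom.comp_assoc, hh, q.eqB]
  have hdk : IsPull h d G.d := hd.of_comp (by rw [hh]; exact hk)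
  refine ⟨⟨O, aO, RingHom.etale_algebraMap.2 hO, _, rfl, d, hdW, p, rfl, hlift, hdesc, h, hh, hdk, hpk, ?_, ?_⟩⟩
  · intro Z _ σ' c hc d' p' hd' hw' ψ' hψ' hD hz hzc hzd hzp
    have hcd : IsPull c dQ d' := hdQ.of_comp hd'
    obtain ⟨wz, ⟨hwz, hwz'⟩, -⟩ := huW _ _ ((hθn hcd.hσ hcd.ht hd'.hσ hd'.ht hψ'
      (by rw [hcd.spMap_wbar, Fr.wbar_eq hw'])).1 hD)
    have hkz : spMap (j := j) hz hzd.hσ hzd.ht ≫ wz = wk := by
      refine hwku _ ⟨?_, ?_⟩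
      · rw [Category.assoc, hwz, ovMap_comp]; exact ovMap_congr _ hzp.hφ.symm
      · rw [Category.assoc, hwz', spMap_comp]
        exact ovMap_congr _ (RingHom.ext fun x => by simp only [hzc])
    obtain ⟨f, hf, hfu⟩ := exists_away hz hzd.hσ hzd.ht wz V (by rw [hkz]; exact hwkV)
    refine ⟨f, hf, ?_⟩
    intro Z' _ σ'' g d'' p'' hgd hgp hu
    have hc' : IsPull (g.comp c) dQ d'' := hcd.trans hgd
    obtain ⟨r, ⟨hra, hrσ, hrt, hrl⟩, -⟩ := hVu Z' σ'' (g.comp c) hc'.hσ d''.t hc'.ht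
      (spMap g hgd.hσ hgd.ht ≫ wz) (by rw [Category.assoc, hwz', spMap_comp]) (hfu Z' σ'' g hgd.hσ _ _ hu)
    refine ⟨r, hra, hd.of_comp (by rw [hra]; exact hc'), mk r hrσ hrt ?_ ?_⟩
    · have es : ovMap c hc ≫ ovMap (j := j) q.qB q.hB = p'.sbar := hψ'.2.1
      rw [ovMap_comp] at es
      show p''.str = r.comp (aO.comp q.qB)
      rw [hgp.hstr, ← ovMap_injective es, ← RingHom.comp_assoc, ← RingHom.comp_assoc, hra]
    · rw [hrl, Category.assoc, hwz, ovMap_comp]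
      exact ovMap_congr _ hgp.hφ.symm
  · intro Z _ σ' t' p' r r' e hr hr'
    have hc : (r.comp aO).comp (q.qA.comp Mo.σ) = σ' := by rw [RingHom.comp_assoc]; exact hr.hσ
    have ht : dQ.t.map (r.comp aO) = t' := by rw [← Tab.map_map, hd.ht, hr.ht]
    have key : ∀ (r : O →+* Z) (hr : IsPullFr r p p'),
        (spMap (j := j) r hr.hσ hr.ht ≫ l) ≫ lW = p'.φbar := by
      intro r hr
      rw [Category.assoc, hφe, ovMap_comp]
      exact ovMap_congr _ hr.hφ.symm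
    have hq : (spMap (j := j) r hr.hσ hr.ht ≫ l) ≫ qW = spMap (r.comp aO) hc ht := by
      rw [Category.assoc, hlq, spMap_comp]
    have hq' : (spMap (j := j) r' hr'.hσ hr'.ht ≫ l) ≫ qW = spMap (r.comp aO) hc ht := by
      rw [Category.assoc, hlq, spMap_comp]
      exact ovMap_congr _ (RingHom.ext fun x => by simp only [e]; rfl)
    have hsr := hlW.precomp hX (spMap r hr.hσ hr.ht ≫ l)
    rw [key r hr, hq] at hsr
    have ew : spMap (j := j) r' hr'.hσ hr'.ht ≫ l = spMap r hr.hσ hr.ht ≫ l :=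
      (huW _ _ hsr).unique ⟨key r' hr', hq'⟩ ⟨key r hr, hq⟩
    refine (hVu Z σ' _ hc _ ht _ hq ?_).unique ⟨rfl, hr.hσ, hr.ht, rfl⟩ ⟨e.symm, hr'.hσ, hr'.ht, ew⟩
    rintro _ ⟨z, rfl⟩
    exact hlV ⟨_, rfl⟩

end Groth.Agent.ArtinAtlas

end
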