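import Groth.Agent.ArtinAtlas.Pairs
import Groth.Agent.AlgStLib.Rep
import Groth.Agent.AlgStLib.Calc
import Groth.Agent.AlgStLib.Stacks

/-!
# The algebraic space of isomorphisms between points of two charts
-/

set_option autoImplicit false
set_option backward.isDefEq.respectTransparency false
set_option backward.isDefEq.respectTransparency.types false
set_option linter.style.haveILetI false
universe v₂ u₂ u

noncomputable section

namespace Groth.Agent.ArtinAtlas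

open CategoryTheory CategoryTheory.Limits AlgebraicGeometry Opposite Groth.Agent.FibCatRep
  Groth.Agent.AlgSpLib Groth.Agent.AlgStLib
open _root_.AlgSp _root_.AlgSt

variable {S : Scheme.{u}} {𝒳 : BasedCategory.{v₂, u₂} (Over S)} {U₁ U₂ : Over S}

/-- an algebraic space whose points are the isomorphisms between points of two charts -/
structure PairSp (x : FibCat.overCat U₁ ⥤ᵇ 𝒳) (y : FibCat.overCat U₂ ⥤ᵇ 𝒳) where
  /-- the space -/
  F : Sp S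
  isAlgSpace : IsAlgSpace F
  /-- first point -/
  pr₁ : F ⟶ (yon S).obj U₁
  /-- a section classifies an isomorphism -/
  Cl : ∀ {T : Over S}, F.obj.obj (op T) → ∀ {a : T ⟶ U₁} {b : T ⟶ U₂}, Hom2 x y a b → Prop
  pr₁_eq : ∀ {T : Over S} {p : F.obj.obj (op T)} {a : T ⟶ U₁} {b : T ⟶ U₂} {θ : Hom2 x y a b},
    Cl p θ → (pr₁.hom.app (op T) p : ULift.{u + 1} (T ⟶ U₁)).down = a
  exists_cl : ∀ {T : Over S} (p : F.obj.obj (op T)), ∃ (a : T ⟶ U₁) (b : T ⟶ U₂) (θ : Hom2 x y a b), Cl p θ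
  existsUnique : ∀ {T : Over S} {a : T ⟶ U₁} {b : T ⟶ U₂} (θ : Hom2 x y a b), ∃! p, Cl p θ
  unique : ∀ {T : Over S} {p : F.obj.obj (op T)} {a a' : T ⟶ U₁} {b b' : T ⟶ U₂} {θ : Hom2 x y a b}
    {θ' : Hom2 x y a' b'}, Cl p θ → Cl p θ' → Hom2.Res (𝟙 T) θ θ'
  natural : ∀ {T T' : Over S} (f : T' ⟶ T) {p : F.obj.obj (op T)} {a : T ⟶ U₁} {b : T ⟶ U₂} {θ : Hom2 x y a b}
    {a' : T' ⟶ U₁} {b' : T' ⟶ U₂} {θ' : Hom2 x y a' b'}, Cl p θ → Hom2.Res f θ θ' → Cl (F.obj.map f.op p) θ'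

/-- the space of isomorphisms exists for a representable chart; its projection is a model of the base change -/
theorem exists_pairSp' (hX : FibCat.IsFibGrpd 𝒳.p) (x : FibCat.overCat U₁ ⥤ᵇ 𝒳) {y : FibCat.overCat U₂ ⥤ᵇ 𝒳}
    (hy : RepByAlgSp1 y) :
    ∃ D : PairSp x y, (∀ Q : MorphismProperty (Sp S), Q.RespectsIso → RepByAlgSpWith Q y → Q D.pr₁) ∧
      ∀ Q : MorphismProperty (Sp S), Q D.pr₁ → ∃ (F : AlgSp.Space S) (e : ofSp F.obj ⥤ᵇ FibCat.fp x y),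
        FibCat.IsEquivOver e ∧ Q (spMapOfOver (BasedFunctor.comp e (FibCat.fpFst x y))) := by
  let x₀ := BasedFunctor.comp (AlgSt.toOverCat U₁) x
  obtain ⟨P, e, he, hg⟩ := (AlgStLib.repWith_iff ⊤ y).1 (repByAlgSpWith_top_iff.2 hy) U₁ x₀
  obtain ⟨hP, hA⟩ := (good_top_iff _).1 hg
  obtain ⟨heq, hess⟩ := isEquivOver_data he
  haveI := heq
  let mk : ∀ {T : Over S} {a : T ⟶ U₁} {b : T ⟶ U₂}, Hom2 x y a b → (FibCat.fp x₀ y).obj :=
    fun {T a b} θ =>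
      haveI := θ.isIso hX
      ⟨⟨⟨T, ⟨a⟩⟩, Over.mk b, asIso θ.hom⟩, fpProp_of_map _ _ _ _ θ.map⟩
  let Cl : ∀ {T : Over S}, P.obj (op T) → ∀ {a : T ⟶ U₁} {b : T ⟶ U₂}, Hom2 x y a b → Prop :=
    fun {T} p {a b} θ => ∃ i : e.obj ⟨T, p⟩ ⟶ mk θ, i.hom.fst.hom = eqToHom (e.w_obj ⟨T, p⟩)
  let π : (⟨P, hP⟩ : Sp S) ⟶ (yon S).obj U₁ := ObjectProperty.homMk (prjMap e)
  refine ⟨⟨⟨P, hP⟩, hA, π, fun {T} p {a b} θ => Cl p θ, ?_, ?_, ?_, ?_, ?_⟩, fun Q hQ hQy => ?_, fun Q hQ => ?_⟩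
  · rintro T p a b θ ⟨i, hi⟩
    show (secOf (BasedFunctor.comp e (FibCat.fpFst x₀ y)) ⟨T, p⟩).down = a
    have h := congrArg ULift.down i.hom.fst.map_sec
    show eqToHom (e.w_obj ⟨T, p⟩).symm ≫ (e.obj ⟨T, p⟩).obj.fst.sec.down = a
    rw [← h]
    show _ ≫ i.hom.fst.hom ≫ a = a
    rw [hi]
    exact (eqToHom_trans_assoc _ _ _).trans (Category.id_comp _)
  · intro T p
    let o := e.obj ⟨T, p⟩
    have h1 : o.obj.fst.base = T := e.w_obj ⟨T, p⟩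
    have h2 : o.obj.snd.left = T := (fp_obj_eq o).trans h1
    let a : T ⟶ U₁ := eqToHom h1.symm ≫ o.obj.fst.sec.down
    let b : T ⟶ U₂ := eqToHom h2.symm ≫ o.obj.snd.hom
    let m₁ : o.obj.fst ⟶ (⟨T, ⟨a⟩⟩ : Stk.EltObj ((pyon S).obj U₁)) := ⟨eqToHom h1, by
      apply ULift.ext
      show eqToHom h1 ≫ a = _
      simp [a]⟩
    let n₁ : (⟨T, ⟨a⟩⟩ : Stk.EltObj ((pyon S).obj U₁)) ⟶ o.obj.fst := ⟨eqToHom h1.symm, by
      apply ULift.ext
      rfl⟩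
    let m₂ : o.obj.snd ⟶ (Over.mk b : Over U₂) := Over.homMk (eqToHom h2) (by simp [b])
    obtain ⟨q, hq⟩ := map_iso_hom o
    let θ : Hom2 x y a b := ⟨x₀.map n₁ ≫ o.obj.iso.hom ≫ y.map m₂, by
      rw [Functor.map_comp, Functor.map_comp, map_map, map_map, hq]
      show (_ ≫ n₁.hom ≫ _) ≫ _ ≫ _ ≫ m₂.left ≫ _ = _
      simp [n₁, m₂]⟩
    refine ⟨a, b, θ, ObjectProperty.homMk ⟨m₁, m₂, ?_⟩, rfl⟩
    show x₀.map m₁ ≫ x₀.map n₁ ≫ o.obj.iso.hom ≫ y.map m₂ = o.obj.iso.hom ≫ y.map m₂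
    rw [← Category.assoc, ← x₀.toFunctor.map_comp, show m₁ ≫ n₁ = 𝟙 _ from Stk.EltObj.hom_ext (by simp [m₁, n₁]),
      x₀.toFunctor.map_id, Category.id_comp]
  · intro T a b θ
    obtain ⟨ξ, i, hξ, hi⟩ := hess (mk θ)
    have hT : ξ.base = T := (e.w_obj ξ).symm.trans hξ
    obtain ⟨V, p⟩ := ξ
    obtain rfl : V = T := hT
    refine ⟨p, ⟨i.hom, hi⟩, fun p' ⟨j, hj⟩ => ?_⟩
    obtain ⟨n, hn⟩ := e.toFunctor.map_surjective (j ≫ i.inv)
    have hn' := map_map e n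
    rw [hn] at hn'
    have hk : (j ≫ i.inv).hom.fst.hom = eqToHom ((e.w_obj ⟨V, p'⟩).trans (e.w_obj ⟨V, p⟩).symm) := by
      show j.hom.fst.hom ≫ i.inv.hom.fst.hom = _
      have hii : i.hom.hom.fst.hom ≫ i.inv.hom.fst.hom = 𝟙 _ :=
        congrArg (fun k : e.obj ⟨V, p⟩ ⟶ e.obj ⟨V, p⟩ => k.hom.fst.hom) i.hom_inv_id
      rw [show i.hom.hom.fst.hom = eqToHom hξ from hi] at hii
      rw [hj, ← cancel_epi (eqToHom ((e.w_obj ⟨V, p⟩).trans (e.w_obj ⟨V, p'⟩).symm))]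
      rw [eqToHom_trans_assoc, eqToHom_trans, hii, eqToHom_refl]
      rfl
    have hid : n.hom = 𝟙 V := by
      have h3 := hk.symm.trans hn'
      rw [← cancel_epi (eqToHom (e.w_obj ⟨V, p'⟩)), ← cancel_mono (eqToHom (e.w_obj ⟨V, p⟩).symm)]
      exact h3.symm.trans (((congrArg (fun t => eqToHom (e.w_obj ⟨V, p'⟩) ≫ t) (Category.id_comp
        (eqToHom (e.w_obj ⟨V, p⟩).symm))).trans (eqToHom_trans _ _)).symm)
    have h := n.map_sec
    rw [hid] at h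
    simpa using h.symm
  · rintro T p a a' b b' θ θ' ⟨i, hi⟩ ⟨j, hj⟩
    haveI : IsIso ((FibCat.fp x₀ y).p.map i) := by
      show IsIso i.hom.fst.hom
      rw [hi]; infer_instance
    haveI : IsIso i := isIso_of_map (isFibGrpd_fp (Stk.isFibGrpd_ofPsh _) (isFibGrpd_overCat _) hX x₀ y) i
    let k := CategoryTheory.inv i ≫ j
    have hk : k.hom.fst.hom = 𝟙 T := by
      show (CategoryTheory.inv i).hom.fst.hom ≫ j.hom.fst.hom = _
      have hii : i.hom.fst.hom ≫ (CategoryTheory.inv i).hom.fst.hom = 𝟙 _ :=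
        congrArg (fun k : e.obj ⟨T, p⟩ ⟶ e.obj ⟨T, p⟩ => k.hom.fst.hom) (IsIso.hom_inv_id i)
      rw [hi] at hii
      rw [hj, ← cancel_epi (eqToHom (e.w_obj ⟨T, p⟩)), reassoc_of% hii]
      exact (Category.comp_id _).symm
    have hk₂ : k.hom.snd.left = 𝟙 T := by
      refine (map_snd k).trans ?_
      show eqToHom _ ≫ k.hom.fst.hom ≫ eqToHom _ = _
      rw [hk, Category.id_comp, eqToHom_trans, eqToHom_refl]
      rfl
    have ha : 𝟙 T ≫ a = a' → True := fun _ => trivial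
    have ea : a' = a := by
      have := congrArg ULift.down k.hom.fst.map_sec
      change k.hom.fst.hom ≫ a' = a at this
      rwa [hk, Category.id_comp] at this
    have eb : b' = b := by
      have := Over.w k.hom.snd
      change k.hom.snd.left ≫ b' = b at this
      rw [hk₂] at this
      exact (Category.id_comp _).symm.trans this
    refine ⟨(Category.id_comp _).trans ea.symm, (Category.id_comp _).trans eb.symm, ?_⟩
    have w := k.hom.w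
    subst ea eb
    have e₁ : x₀.map k.hom.fst = 𝟙 (ob x a') := by
      rw [show k.hom.fst = 𝟙 _ from Stk.EltObj.hom_ext hk]; exact x₀.toFunctor.map_id _
    have e₂ : y.map k.hom.snd = 𝟙 (ob y b') := by
      rw [show k.hom.snd = 𝟙 _ from Over.OverMorphism.ext hk₂]; exact y.toFunctor.map_id _
    rw [wm_id, wm_id, Category.comp_id, Category.id_comp]
    change x₀.map k.hom.fst ≫ θ'.hom = θ.hom ≫ y.map k.hom.snd at w
    rw [e₁, e₂] at w
    exact (Category.id_comp _).symm.trans (w.trans (Category.comp_id _))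
  · rintro T T' f p a b θ a' b' θ' ⟨i, hi⟩ ⟨ha, hb, e'⟩
    let r : mk θ' ⟶ mk θ := ObjectProperty.homMk ⟨⟨f, ULift.ext _ _ ha⟩, Over.homMk f hb, e'.symm⟩
    let n : (⟨T', P.map f.op p⟩ : Stk.EltObj P) ⟶ ⟨T, p⟩ := ⟨f, rfl⟩
    let g : (FibCat.fp x₀ y).p.obj (e.obj ⟨T', P.map f.op p⟩) ⟶ (FibCat.fp x₀ y).p.obj (mk θ') :=
      eqToHom (e.w_obj ⟨T', P.map f.op p⟩)
    obtain ⟨χ, ⟨hχ, -⟩, -⟩ := existsUnique_cart
      (isFibGrpd_fp (Stk.isFibGrpd_ofPsh _) (isFibGrpd_overCat _) hX x₀ y) r (e.map n ≫ i) g (by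
        refine Eq.trans ?_ ((((FibCat.fp x₀ y).p.map_comp (e.map n) i).trans
          (congrArg (· ≫ (FibCat.fp x₀ y).p.map i) (map_map e n))).symm)
        show eqToHom (e.w_obj ⟨T', P.map f.op p⟩) ≫ f = (eqToHom _ ≫ f ≫ eqToHom (e.w_obj ⟨T, p⟩).symm) ≫ i.hom.fst.hom
        rw [hi, Category.assoc, Category.assoc]
        exact congrArg (eqToHom _ ≫ ·) ((congrArg (f ≫ ·) ((eqToHom_trans _ _).trans (eqToHom_refl _ rfl))).trans
          (Category.comp_id _)).symm)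
    exact ⟨χ, hχ⟩
  · haveI := hQ
    obtain ⟨_, _, hq⟩ := good_of_model hQy he
    exact hq
  · refine ⟨⟨⟨P, hP⟩, hA⟩, BasedFunctor.comp e (slFun U₁ x y), FibCat2Misc.isEquivOver_comp he (isEquivOver_slFun U₁ x y), ?_⟩
    convert hQ using 1
    exact ObjectProperty.hom_ext _ (prjMap_slFun (F := (⟨P, hP⟩ : Sp S)) e)

/-- the space of isomorphisms exists for a representable chart, with the properties of the chart -/
theorem exists_pairSp (hX : FibCat.IsFibGrpd 𝒳.p) (x : FibCat.overCat U₁ ⥤ᵇ 𝒳) {y : FibCat.overCat U₂ ⥤ᵇ 𝒳}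
    (hy : RepByAlgSp1 y) :
    ∃ D : PairSp x y, ∀ Q : MorphismProperty (Sp S), Q.RespectsIso → RepByAlgSpWith Q y → Q D.pr₁ :=
  let ⟨D, h, _⟩ := exists_pairSp' hX x hy
  ⟨D, h⟩

end Groth.Agent.ArtinAtlas

end
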