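import Groth.Agent.FibCatRep.Basic
import Groth.Agent.FibCatRep.Cart
import Groth.Prelude.Def_AlgSt2

/-!
# Isomorphisms between points of two charts
-/

set_option autoImplicit false
set_option backward.isDefEq.respectTransparency false
set_option backward.isDefEq.respectTransparency.types false
set_option linter.style.haveILetI false
universe v₂ u₂ u

noncomputable section

namespace Groth.Agent.ArtinAtlas

open CategoryTheory CategoryTheory.Limits AlgebraicGeometry Groth.Agent.FibCatRep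

variable {S : Scheme.{u}} {𝒳 : BasedCategory.{v₂, u₂} (Over S)}

/-- the object of a point of a chart -/
abbrev ob {U : Over S} (w : FibCat.overCat U ⥤ᵇ 𝒳) {T : Over S} (a : T ⟶ U) : 𝒳.obj := w.obj (Over.mk a)

theorem p_ob {U : Over S} (w : FibCat.overCat U ⥤ᵇ 𝒳) {T : Over S} (a : T ⟶ U) : 𝒳.p.obj (ob w a) = T :=
  w.w_obj (Over.mk a)

/-- the morphism between points of a chart over a morphism of test schemes -/
abbrev wm {U : Over S} (w : FibCat.overCat U ⥤ᵇ 𝒳) {T' T : Over S} (f : T' ⟶ T) {a' : T' ⟶ U} {a : T ⟶ U}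
    (h : f ≫ a = a') : ob w a' ⟶ ob w a :=
  w.map (Over.homMk f h : (Over.mk a' : Over U) ⟶ Over.mk a)

theorem map_wm {U : Over S} (w : FibCat.overCat U ⥤ᵇ 𝒳) {T' T : Over S} (f : T' ⟶ T) {a' : T' ⟶ U} {a : T ⟶ U}
    (h : f ≫ a = a') : 𝒳.p.map (wm w f h) = eqToHom (p_ob w a') ≫ f ≫ eqToHom (p_ob w a).symm :=
  map_map w (Over.homMk f h : (Over.mk a' : Over U) ⟶ Over.mk a)

theorem wm_comp {U : Over S} (w : FibCat.overCat U ⥤ᵇ 𝒳) {T'' T' T : Over S} (g : T'' ⟶ T') (f : T' ⟶ T)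
    {a'' : T'' ⟶ U} {a' : T' ⟶ U} {a : T ⟶ U} (hg : g ≫ a' = a'') (hf : f ≫ a = a') :
    wm w g hg ≫ wm w f hf = wm w (g ≫ f) (a := a) (by rw [Category.assoc, hf, hg]) := by
  show w.map _ ≫ w.map _ = w.map _
  rw [← w.toFunctor.map_comp]
  congr 1

theorem wm_id {U : Over S} (w : FibCat.overCat U ⥤ᵇ 𝒳) {T : Over S} (a : T ⟶ U) :
    wm w (𝟙 T) (Category.id_comp a) = 𝟙 (ob w a) := by
  show w.map _ = _
  exact (congrArg w.map (Over.OverMorphism.ext rfl)).trans (w.toFunctor.map_id _)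

variable {U₁ U₂ U₃ : Over S} {x : FibCat.overCat U₁ ⥤ᵇ 𝒳} {y : FibCat.overCat U₂ ⥤ᵇ 𝒳}
  {z : FibCat.overCat U₃ ⥤ᵇ 𝒳}

variable (x y) in
/-- isomorphisms over the identity between points of two charts -/
@[ext] structure Hom2 {T : Over S} (a : T ⟶ U₁) (b : T ⟶ U₂) where
  hom : ob x a ⟶ ob y b
  map : 𝒳.p.map hom = eqToHom ((p_ob x a).trans (p_ob y b).symm)

/-- the identity -/
def Hom2.refl {T : Over S} (a : T ⟶ U₁) : Hom2 x x a a := ⟨𝟙 _, by simp⟩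

/-- the identity of equal points -/
def Hom2.ofEq {T : Over S} {a a' : T ⟶ U₁} (h : a = a') : Hom2 x x a a' :=
  ⟨eqToHom (by rw [h]), by subst h; simp⟩

/-- composition -/
def Hom2.comp {T : Over S} {a : T ⟶ U₁} {b : T ⟶ U₂} {c : T ⟶ U₃} (θ : Hom2 x y a b) (η : Hom2 y z b c) :
    Hom2 x z a c :=
  ⟨θ.hom ≫ η.hom, by rw [Functor.map_comp, θ.map, η.map]; simp⟩

theorem Hom2.comp_assoc {U₄ : Over S} {w : FibCat.overCat U₄ ⥤ᵇ 𝒳} {T : Over S} {a : T ⟶ U₁} {b : T ⟶ U₂}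
    {c : T ⟶ U₃} {d : T ⟶ U₄} (θ : Hom2 x y a b) (η : Hom2 y z b c) (ζ : Hom2 z w c d) :
    (θ.comp η).comp ζ = θ.comp (η.comp ζ) := Hom2.ext (Category.assoc _ _ _)

theorem Hom2.refl_comp {T : Over S} {a : T ⟶ U₁} {b : T ⟶ U₂} (θ : Hom2 x y a b) : (Hom2.refl a).comp θ = θ :=
  Hom2.ext (Category.id_comp _)

theorem Hom2.comp_refl {T : Over S} {a : T ⟶ U₁} {b : T ⟶ U₂} (θ : Hom2 x y a b) : θ.comp (Hom2.refl b) = θ :=
  Hom2.ext (Category.comp_id _)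

/-- restriction of isomorphisms -/
def Hom2.Res {T T' : Over S} {a : T ⟶ U₁} {b : T ⟶ U₂} {a' : T' ⟶ U₁} {b' : T' ⟶ U₂} (f : T' ⟶ T)
    (θ : Hom2 x y a b) (θ' : Hom2 x y a' b') : Prop :=
  ∃ (ha : f ≫ a = a') (hb : f ≫ b = b'), θ'.hom ≫ wm y f hb = wm x f ha ≫ θ.hom

theorem Hom2.res_id {T : Over S} {a : T ⟶ U₁} {b : T ⟶ U₂} (θ : Hom2 x y a b) : Hom2.Res (𝟙 T) θ θ :=
  ⟨Category.id_comp _, Category.id_comp _, by rw [wm_id, wm_id, Category.comp_id, Category.id_comp]⟩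

theorem Hom2.Res.trans {T T' T'' : Over S} {a : T ⟶ U₁} {b : T ⟶ U₂} {a' : T' ⟶ U₁} {b' : T' ⟶ U₂}
    {a'' : T'' ⟶ U₁} {b'' : T'' ⟶ U₂} {f : T' ⟶ T} {g : T'' ⟶ T'} {θ : Hom2 x y a b} {θ' : Hom2 x y a' b'}
    {θ'' : Hom2 x y a'' b''} (h : Hom2.Res f θ θ') (h' : Hom2.Res g θ' θ'') : Hom2.Res (g ≫ f) θ θ'' := by
  obtain ⟨ha, hb, e⟩ := h
  obtain ⟨ha', hb', e'⟩ := h'
  refine ⟨by rw [Category.assoc, ha, ha'], by rw [Category.assoc, hb, hb'], ?_⟩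
  rw [← wm_comp y g f hb' hb, ← wm_comp x g f ha' ha, ← Category.assoc, e', Category.assoc, e, Category.assoc]

theorem Hom2.res_comp {T T' : Over S} {a : T ⟶ U₁} {b : T ⟶ U₂} {c : T ⟶ U₃} {a' : T' ⟶ U₁} {b' : T' ⟶ U₂}
    {c' : T' ⟶ U₃} {f : T' ⟶ T} {θ : Hom2 x y a b} {η : Hom2 y z b c} {θ' : Hom2 x y a' b'} {η' : Hom2 y z b' c'}
    (h : Hom2.Res f θ θ') (h' : Hom2.Res f η η') : Hom2.Res f (θ.comp η) (θ'.comp η') := by
  obtain ⟨ha, hb, e⟩ := h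
  obtain ⟨hb', hc, e'⟩ := h'
  refine ⟨ha, hc, ?_⟩
  show (θ'.hom ≫ η'.hom) ≫ _ = _ ≫ θ.hom ≫ η.hom
  rw [Category.assoc, e', ← Category.assoc, e, Category.assoc]

theorem Hom2.res_refl {T T' : Over S} (f : T' ⟶ T) (a : T ⟶ U₁) {a' : T' ⟶ U₁} (h : f ≫ a = a') :
    Hom2.Res f (Hom2.refl (x := x) a) (Hom2.refl a') :=
  ⟨h, h, (Category.id_comp _).trans (Category.comp_id _).symm⟩

section grpd

variable (hX : FibCat.IsFibGrpd 𝒳.p)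
include hX

theorem Hom2.isIso {T : Over S} {a : T ⟶ U₁} {b : T ⟶ U₂} (θ : Hom2 x y a b) : IsIso θ.hom :=
  haveI : IsIso (𝒳.p.map θ.hom) := by rw [θ.map]; infer_instance
  isIso_of_map hX _

/-- the inverse -/
def Hom2.inv {T : Over S} {a : T ⟶ U₁} {b : T ⟶ U₂} (θ : Hom2 x y a b) : Hom2 y x b a :=
  haveI := θ.isIso hX
  ⟨CategoryTheory.inv θ.hom, map_inv_of_eqToHom _ θ.map⟩

theorem Hom2.comp_inv {T : Over S} {a : T ⟶ U₁} {b : T ⟶ U₂} (θ : Hom2 x y a b) :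
    θ.comp (θ.inv hX) = Hom2.refl a :=
  haveI := θ.isIso hX
  Hom2.ext (IsIso.hom_inv_id θ.hom)

theorem Hom2.inv_comp {T : Over S} {a : T ⟶ U₁} {b : T ⟶ U₂} (θ : Hom2 x y a b) :
    (θ.inv hX).comp θ = Hom2.refl b :=
  haveI := θ.isIso hX
  Hom2.ext (IsIso.inv_hom_id θ.hom)

theorem Hom2.res_inv {T T' : Over S} {a : T ⟶ U₁} {b : T ⟶ U₂} {a' : T' ⟶ U₁} {b' : T' ⟶ U₂} {f : T' ⟶ T}
    {θ : Hom2 x y a b} {θ' : Hom2 x y a' b'} (h : Hom2.Res f θ θ') : Hom2.Res f (θ.inv hX) (θ'.inv hX) := by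
  obtain ⟨ha, hb, e⟩ := h
  refine ⟨hb, ha, ?_⟩
  haveI := θ.isIso hX
  haveI := θ'.isIso hX
  show CategoryTheory.inv θ'.hom ≫ _ = _ ≫ CategoryTheory.inv θ.hom
  rw [IsIso.inv_comp_eq, ← Category.assoc, IsIso.eq_comp_inv, e]

theorem Hom2.exists_res {T' T : Over S} {a : T ⟶ U₁} {b : T ⟶ U₂} (θ : Hom2 x y a b) (f : T' ⟶ T)
    (a' : T' ⟶ U₁) (b' : T' ⟶ U₂) (ha : f ≫ a = a') (hb : f ≫ b = b') :
    ∃! θ' : Hom2 x y a' b', Hom2.Res f θ θ' := by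
  obtain ⟨χ, ⟨h₁, h₂⟩, hu⟩ := existsUnique_cart hX (wm y f hb) (wm x f ha ≫ θ.hom)
    (eqToHom ((p_ob x a').trans (p_ob y b').symm))
    (by rw [Functor.map_comp, map_wm, map_wm, θ.map]; simp)
  exact ⟨⟨χ, h₁⟩, ⟨ha, hb, h₂⟩, fun θ' ⟨_, _, h⟩ => Hom2.ext (hu _ ⟨θ'.map, h⟩)⟩

/-- the restriction -/
def Hom2.res {T' T : Over S} {a : T ⟶ U₁} {b : T ⟶ U₂} (θ : Hom2 x y a b) (f : T' ⟶ T) :
    Hom2 x y (f ≫ a) (f ≫ b) :=
  (Hom2.exists_res hX θ f _ _ rfl rfl).exists.choose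

theorem Hom2.res_spec {T' T : Over S} {a : T ⟶ U₁} {b : T ⟶ U₂} (θ : Hom2 x y a b) (f : T' ⟶ T) :
    Hom2.Res f θ (θ.res hX f) :=
  (Hom2.exists_res hX θ f _ _ rfl rfl).exists.choose_spec

theorem Hom2.Res.unique {T' T : Over S} {a : T ⟶ U₁} {b : T ⟶ U₂} {f : T' ⟶ T} {θ : Hom2 x y a b}
    {a' : T' ⟶ U₁} {b' : T' ⟶ U₂} {θ' θ'' : Hom2 x y a' b'} (h : Hom2.Res f θ θ') (h' : Hom2.Res f θ θ'') :
    θ' = θ'' :=
  (Hom2.exists_res hX θ f a' b' h.1 h.2.1).unique h h'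

end grpd

end Groth.Agent.ArtinAtlas

end
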