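import Groth.Agent.ArtinAtlas.Descended

/-!
# Charts of the comparison between the moduli chart and the given chart at a point of the slice
-/

set_option autoImplicit false
set_option backward.isDefEq.respectTransparency false
set_option backward.isDefEq.respectTransparency.types false
set_option linter.style.haveILetI false
universe v₂ u₂ u

noncomputable section

namespace Groth.Agent.ArtinAtlas

open CategoryTheory CategoryTheory.Limits AlgebraicGeometry CommRingCat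
open _root_.AlgSp _root_.AlgSt

variable {S : Scheme.{u}} {𝒳 : BasedCategory.{v₂, u₂} (Over S)}

/-- an etale algebra over an algebraically closed field which is not zero has a point -/
theorem exists_point_of_etale {k C : Type u} [Field k] [IsAlgClosed k] [CommRing C] [Nontrivial C] (f : k →+* C)
    (hf : f.Etale) : ∃ s : C →+* k, s.comp f = RingHom.id k := by
  letI : Algebra k C := f.toAlgebra
  haveI : Algebra.Etale k C := hf
  obtain ⟨M, hM⟩ := Ideal.exists_maximal C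
  haveI := hM
  haveI : Algebra.FiniteType k (C ⧸ M) :=
    Algebra.FiniteType.of_surjective (Ideal.Quotient.mkₐ k M) Ideal.Quotient.mk_surjective
  letI : Field (C ⧸ M) := Ideal.Quotient.field M
  haveI : Module.Finite k (C ⧸ M) := finite_of_finite_type_of_isJacobsonRing k (C ⧸ M)
  let e : k ≃ₐ[k] C ⧸ M :=
    AlgEquiv.ofBijective (Algebra.ofId k (C ⧸ M)) (IsAlgClosed.algebraMap_bijective_of_isIntegral (k := k) (K := C ⧸ M))
  exact ⟨((e.symm.toAlgHom).comp (Ideal.Quotient.mkₐ k M)).toRingHom,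
    RingHom.ext fun x => ((e.symm.toAlgHom).comp (Ideal.Quotient.mkₐ k M)).commutes x⟩

/-- geometric points lift to affine charts -/
theorem PairSp.exists_chart_point (hX : FibCat.IsFibGrpd 𝒳.p) {U₁ U₂ : Over S}
    {x : FibCat.overCat U₁ ⥤ᵇ 𝒳} {y : FibCat.overCat U₂ ⥤ᵇ 𝒳} (D : PairSp x y) {k : Type u} [Field k]
    [IsAlgClosed k] {T : Over S} (iT : T.left ≅ Spec (CommRingCat.of k)) {a : T ⟶ U₁} {b : T ⟶ U₂}
    (η : Hom2 x y a b) :
    ∃ (Φ : Chart D) (_ : IsAffine Φ.C.left) (s : T ⟶ Φ.C), SameRes x y s (𝟙 T) Φ.θ η := by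
  let z₀ : ↥T.left := iT.inv (⟨⊥, Ideal.isPrime_bot⟩ : PrimeSpectrum k)
  obtain ⟨Φ, hΦ, W, l, q, hq, hlq, w, hw⟩ := D.exists_affine_chart hX η z₀
  obtain ⟨V, hV, hwV, -⟩ := exists_isAffineOpen_mem_and_subset (X := W.left) (x := w) (U := ⊤) trivial
  haveI : IsAffine (↑V : Scheme) := hV
  obtain ⟨f, hf⟩ := Spec.map_surjective (R := CommRingCat.of k)
    ((↑V : Scheme).isoSpec.inv ≫ V.ι ≫ q.left ≫ iT.hom)
  have hfe : f.hom.Etale := by
    haveI := hq
    haveI : Etale (Spec.map f) := by rw [hf]; infer_instance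
    exact (HasRingHomProperty.Spec_iff (P := @Etale)).1 ‹_›
  haveI : Nonempty (PrimeSpectrum Γ((↑V : Scheme), ⊤)) := ⟨(↑V : Scheme).isoSpec.hom ⟨w, hwV⟩⟩
  haveI : Nontrivial Γ((↑V : Scheme), ⊤) := PrimeSpectrum.nonempty_iff_nontrivial.1 inferInstance
  obtain ⟨s, hs⟩ := exists_point_of_etale f.hom hfe
  let m₀ : T.left ⟶ W.left := iT.hom ≫ Spec.map (ofHom s) ≫ (↑V : Scheme).isoSpec.inv ≫ V.ι
  have hm₀ : m₀ ≫ q.left = 𝟙 T.left := by
    rw [← cancel_mono iT.hom]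
    simp only [m₀, Category.assoc, Category.id_comp]
    rw [← hf, ← Spec.map_comp, show f ≫ ofHom s = ofHom (RingHom.id k) from CommRingCat.hom_ext hs]
    exact (congrArg (iT.hom ≫ ·) (Spec.map_id _)).trans (Category.comp_id _)
  let m : T ⟶ W := Over.homMk m₀ (by rw [← Over.w q, ← Category.assoc, hm₀, Category.id_comp])
  have hm : m ≫ q = 𝟙 T := Over.OverMorphism.ext hm₀
  have h := hlq.precomp hX m
  rw [hm] at h
  exact ⟨Φ, hΦ, m ≫ l, h⟩

variable {R₀ A : Type u} [CommRing R₀] [CommRing A]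
  [Algebra R₀ A] {j : Spec (CommRingCat.of R₀) ⟶ S} {x₁ : FibCat.overCat (ovR j (algebraMap R₀ A)) ⥤ᵇ 𝒳}
  {hX : FibCat.IsFibGrpd 𝒳.p} {k : Type u} [Field k] {str₀ : A →+* k} {G : Germ x₁ hX str₀} {Mo : Moduli G}

/-- a chart of the isomorphisms between the two charts, with a point of the slice -/
structure QPt (Sl : Slice Mo) where
  /-- the ring -/
  Q : Type u
  [ring : CommRing Q]
  /-- first point -/
  qA : Mo.W →+* Q
  /-- second point -/
  qB : A →+* Q
  hB : qB.comp (algebraMap R₀ A) = qA.comp Mo.σ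
  /-- the isomorphism -/
  θQ : Hom2 Mo.c x₁ (ovMap (j := j) qA rfl) (ovMap (j := j) qB hB)
  lift : Liftable θQ
  flat : qA.Flat
  fp : qA.FinitePresentation
  /-- the point -/
  e : Q →+* k
  he : e.comp (qA.comp Mo.σ) = str₀.comp (algebraMap R₀ A)
  /-- the isomorphism on the slice -/
  ψ : Hom2 Mo.c x₁ (ovMap (j := j) Sl.fW Sl.hd.hσ) Sl.p.sbar
  desc : Mo.IsDesc Sl.hd.hσ Sl.hd.ht Sl.p ψ
  same : SameRes Mo.c x₁ (ovMap (j := j) e he) (ovMap (j := j) Sl.h Sl.hdk.hσ) θQ ψ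

attribute [instance] QPt.ring

variable [Mono j]

/-- charts through the point of the slice exist -/
theorem exists_qPt [IsAlgClosed k] (hS : Stk.IsStack (QuotSh.J Scheme.fppfPrecoverage S) 𝒳)
    (hx₁ : RepByAlgSpWith (LocP (@Flat ⊓ @LocallyOfFinitePresentation)) x₁) (Sl : Slice Mo) :
    Nonempty (QPt Sl) := by
  obtain ⟨ψ, hψ, -⟩ := Moduli.existsUnique_isDesc hS Sl.hd Sl.lifts
  haveI := respectsIso_locP (S := S) (@Flat ⊓ @LocallyOfFinitePresentation)
  obtain ⟨D, hD⟩ := exists_pairSp hX Mo.c (AlgStLib.repByAlgSp1_of_with hx₁)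
  have hD' := hD _ inferInstance hx₁
  obtain ⟨Φ, hΦ, s, hs⟩ := D.exists_chart_point hX (T := ovR j (str₀.comp (algebraMap R₀ A))) (Iso.refl _)
    (ψ.res hX (ovMap Sl.h Sl.hdk.hσ))
  haveI := hΦ
  obtain ⟨Q, _, qA, i, hi⟩ := exists_ovR_iso (j := j) Φ.a
  obtain ⟨qB, hB, hb⟩ := exists_ovMap (j := j) (σ := algebraMap R₀ A) (σ' := qA.comp Mo.σ) (i.hom ≫ Φ.b)
  obtain ⟨θQ, hθ, -⟩ := Hom2.exists_res hX Φ.θ i.hom (ovMap (j := j) qA rfl) (ovMap (j := j) qB hB) hi hb
  obtain ⟨e, he, hse⟩ := exists_ovMap (j := j) (s ≫ i.inv)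
  obtain ⟨hfl, hfp⟩ := Φ.prop_a _ hD'
  haveI : IsIso i.hom.left := inferInstanceAs (IsIso ((Over.forget S).map i.hom))
  haveI : Flat Φ.a.left := hfl
  haveI : LocallyOfFinitePresentation Φ.a.left := hfp
  have hf : Spec.map (ofHom qA) = i.hom.left ≫ Φ.a.left := (congrArg Over.Hom.left hi).symm
  refine ⟨⟨Q, qA, qB, hB, θQ, Liftable.of_iso hX (Chart.liftable hX Φ) i hθ, ?_, ?_, e, he, ψ, hψ, ?_⟩⟩
  · have h : Flat (Spec.map (ofHom qA)) := by rw [hf]; infer_instance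
    exact (HasRingHomProperty.Spec_iff (P := @Flat)).1 h
  · have h : LocallyOfFinitePresentation (Spec.map (ofHom qA)) := by rw [hf]; infer_instance
    exact (HasRingHomProperty.Spec_iff (P := @LocallyOfFinitePresentation)).1 h
  · obtain ⟨a, b, χ, r₁, r₂⟩ := hs
    have r := (ψ.res_spec hX (ovMap Sl.h Sl.hdk.hσ)).trans r₂
    rw [Category.id_comp] at r
    have hse' : ovMap (j := j) e he ≫ i.hom = s := by rw [← hse, Category.assoc, i.inv_hom_id, Category.comp_id]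
    obtain ⟨χ', hχ', -⟩ := Hom2.exists_res hX θQ (ovMap e he) a b
      (by rw [← hi, ← Category.assoc]; exact (congrArg (· ≫ Φ.a) hse').trans r₁.1)
      (by rw [← hb, ← Category.assoc]; exact (congrArg (· ≫ Φ.b) hse').trans r₁.2.1)
    have t := hθ.trans hχ'
    rw [hse'] at t
    obtain rfl := t.unique hX r₁
    exact ⟨a, b, χ', hχ', r⟩

/-- an affine piece of the lifts of the isomorphism on the slice to the chart -/
structure Piece {Sl : Slice Mo} (q : QPt Sl) where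
  /-- the ring -/
  B : Type u
  [ring : CommRing B]
  eB : Sl.H →+* B
  lB : q.Q →+* B
  hσ : lB.comp (q.qA.comp Mo.σ) = eB.comp Sl.σ
  /-- the point -/
  hB : B →+* k
  hBe : hB.comp eB = Sl.h
  hBl : hB.comp lB = q.e
  etale : eB.Etale
  same : SameRes Mo.c x₁ (ovMap (j := j) lB hσ) (ovMap (j := j) eB rfl) q.θQ q.ψ
  univ : ∀ {Z : Type u} [CommRing Z] {σZ : R₀ →+* Z} (c : q.Q →+* Z) (g : Sl.H →+* Z)
    (hc : c.comp (q.qA.comp Mo.σ) = σZ) (hg : g.comp Sl.σ = σZ),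
    SameRes Mo.c x₁ (ovMap (j := j) c hc) (ovMap (j := j) g hg) q.θQ q.ψ →
    ∀ (hz : Z →+* k), hz.comp c = q.e → hz.comp g = Sl.h → ∃ f : Z, hz f ≠ 0 ∧
      ∀ {Z' : Type u} [CommRing Z'] (g' : Z →+* Z'), IsUnit (g' f) →
        ∃ v : B →+* Z', v.comp lB = g'.comp c ∧ v.comp eB = g'.comp g
  sep : ∀ {Z : Type u} [CommRing Z] {v v' : B →+* Z}, v.comp lB = v'.comp lB → v.comp eB = v'.comp eB → v = v'

attribute [instance] Piece.ring

/-- pieces exist -/
theorem exists_piece {Sl : Slice Mo} (q : QPt Sl) : Nonempty (Piece q) := by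
  obtain ⟨W, l, qw, hqw, hlq, hu⟩ := q.lift q.ψ
  haveI := hqw
  obtain ⟨w₀, ⟨hw₀, hw₀'⟩, hw₀u⟩ := hu _ _ q.same
  let pt : ↥(ovR j (str₀.comp (algebraMap R₀ A))).left := (⟨⊥, Ideal.isPrime_bot⟩ : PrimeSpectrum k)
  obtain ⟨V, hV, hVw, -⟩ := exists_isAffineOpen_mem_and_subset (X := W.left) (x := w₀.left pt) (U := ⊤) trivial
  let W₀ : Over S := Over.mk (V.ι ≫ W.hom)
  let iV : W₀ ⟶ W := Over.homMk V.ι
  haveI : IsAffine W₀.left := hV
  haveI : Mono iV := (Over.forget S).mono_of_mono_map (inferInstanceAs (Mono V.ι))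
  obtain ⟨B, _, eB, i, hi⟩ := exists_ovR_iso (j := j) (iV ≫ qw)
  haveI : IsIso i.hom.left := inferInstanceAs (IsIso ((Over.forget S).map i.hom))
  obtain ⟨lB, hlB, hl⟩ := exists_ovMap (j := j) (i.hom ≫ iV ≫ l)
  have factor : ∀ {Z : Type u} [CommRing Z] {σZ : R₀ →+* Z} (w : ovR j σZ ⟶ W), Set.range w.left ⊆ V →
      ∃ (v : B →+* Z) (hv : v.comp (eB.comp Sl.σ) = σZ), ovMap v hv ≫ i.hom ≫ iV = w := by
    intro Z _ σZ w hw
    let w' : ovR j σZ ⟶ W₀ := Over.homMk (IsOpenImmersion.lift V.ι w.left (hw.trans_eq V.range_ι.symm)) (by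
      show _ ≫ V.ι ≫ W.hom = _
      rw [IsOpenImmersion.lift_fac_assoc, Over.w w])
    obtain ⟨v, hv, hv'⟩ := exists_ovMap (j := j) (w' ≫ i.inv)
    refine ⟨v, hv, ?_⟩
    rw [← hv', Category.assoc, i.inv_hom_id_assoc]
    exact Over.OverMorphism.ext (IsOpenImmersion.lift_fac _ _ _)
  have hpt : Set.range w₀.left ⊆ V := by
    rintro _ ⟨z, rfl⟩
    haveI : Subsingleton (PrimeSpectrum k) := inferInstance
    rw [show z = pt from @Subsingleton.elim (PrimeSpectrum k) _ z pt]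
    exact hVw
  obtain ⟨hB, hBσ, hBw⟩ := factor w₀ hpt
  have hBl : hB.comp lB = q.e := by
    have e : ovMap hB hBσ ≫ i.hom ≫ iV ≫ l = ovMap q.e q.he := by
      rw [← hw₀, ← hBw]; simp only [Category.assoc]
    rw [hl, ovMap_comp] at e
    exact ovMap_injective e
  have hBe : hB.comp eB = Sl.h := by
    have e : ovMap hB hBσ ≫ i.hom ≫ iV ≫ qw = ovMap Sl.h Sl.hdk.hσ := by
      rw [← hw₀', ← hBw]; simp only [Category.assoc]
    rw [hi, ovMap_comp] at e
    exact ovMap_injective e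
  refine ⟨⟨B, eB, lB, hlB, hB, hBe, hBl, ?_, ?_, ?_, ?_⟩⟩
  · have h1 : Spec.map (ofHom eB) = i.hom.left ≫ iV.left ≫ qw.left := (congrArg Over.Hom.left hi).symm
    haveI : Etale iV.left := inferInstanceAs (Etale V.ι)
    have h : Etale (Spec.map (ofHom eB)) := by rw [h1]; infer_instance
    exact (HasRingHomProperty.Spec_iff (P := @Etale)).1 h
  · have h := hlq.precomp hX (i.hom ≫ iV)
    rw [Category.assoc, hl, Category.assoc, hi] at h
    exact h
  · intro Z _ σZ c g hc hg hsame hz hzc hzg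
    obtain ⟨w, ⟨hw, hw'⟩, -⟩ := hu _ _ hsame
    have hσz : hz.comp σZ = str₀.comp (algebraMap R₀ A) := by
      rw [← hg, ← RingHom.comp_assoc, hzg, Sl.hdk.hσ]
    have hk : ovMap hz hσz ≫ w = w₀ := by
      refine hw₀u _ ⟨?_, ?_⟩
      · rw [Category.assoc, hw, ovMap_comp]; exact ovMap_congr _ hzc
      · rw [Category.assoc, hw', ovMap_comp]; exact ovMap_congr _ hzg
    let z₀ : PrimeSpectrum Z := PrimeSpectrum.comap hz ⟨⊥, Ideal.isPrime_bot⟩
    have hz₀ : z₀ ∈ (w.left ⁻¹' (V : Set W.left) : Set (PrimeSpectrum Z)) := by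
      show w.left ((ovMap (j := j) hz hσz).left pt) ∈ (V : Set W.left)
      have e := congrArg (fun m : ovR j (str₀.comp (algebraMap R₀ A)) ⟶ W => m.left pt) hk
      exact e.symm ▸ hVw
    obtain ⟨_, ⟨f, rfl⟩, hzf, hf⟩ := PrimeSpectrum.isTopologicalBasis_basic_opens.exists_subset_of_mem_open hz₀
      (V.2.preimage w.left.continuous)
    refine ⟨f, fun h0 => hzf (show hz f ∈ (⊥ : Ideal k) by rw [h0]; exact Ideal.zero_mem _), ?_⟩
    intro Z' _ g' hu'
    obtain ⟨v, hv, hvw⟩ := factor (ovMap (j := j) g' rfl ≫ w) (by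
      rintro _ ⟨z', rfl⟩
      refine hf (show PrimeSpectrum.comap g' z' ∈ PrimeSpectrum.basicOpen f from fun hfz => ?_)
      exact z'.isPrime.ne_top (Ideal.eq_top_of_isUnit_mem _ hfz hu'))
    refine ⟨v, ?_, ?_⟩
    · have e : ovMap v hv ≫ i.hom ≫ iV ≫ l = ovMap (g'.comp c) (by rw [RingHom.comp_assoc, hc]) := by
        rw [← Category.assoc i.hom, ← Category.assoc, hvw, Category.assoc, hw, ovMap_comp]
      rw [hl, ovMap_comp] at e
      exact ovMap_injective e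
    · have e : ovMap v hv ≫ i.hom ≫ iV ≫ qw = ovMap (g'.comp g) (by rw [RingHom.comp_assoc, hg]) := by
        rw [← Category.assoc i.hom, ← Category.assoc, hvw, Category.assoc, hw', ovMap_comp]
      rw [hi, ovMap_comp] at e
      exact ovMap_injective e
  · intro Z _ v v' hvl hve
    let σZ := v.comp (eB.comp Sl.σ)
    have hσ' : v'.comp (eB.comp Sl.σ) = σZ := by rw [← RingHom.comp_assoc, ← hve, RingHom.comp_assoc]
    have hs := hlq.precomp hX (ovMap (j := j) v (rfl : v.comp (eB.comp Sl.σ) = σZ) ≫ i.hom ≫ iV)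
    have e1 : ∀ {X : Over S} (m : W ⟶ X) (M : ovR j (eB.comp Sl.σ) ⟶ X), i.hom ≫ iV ≫ m = M →
        ∀ (r : B →+* Z) (h : r.comp (eB.comp Sl.σ) = σZ), (ovMap (j := j) r h ≫ i.hom ≫ iV) ≫ m = ovMap r h ≫ M := by
      intro X m M hM r h
      rw [← hM]; simp only [Category.assoc]
    obtain ⟨w, -, huw⟩ := hu _ _ hs
    have k₁ := huw _ ⟨rfl, rfl⟩
    have k₂ : ovMap (j := j) v' hσ' ≫ i.hom ≫ iV = w := by
      refine huw _ ⟨?_, ?_⟩
      · rw [e1 l _ hl, e1 l _ hl, ovMap_comp, ovMap_comp]; exact ovMap_congr _ hvl.symm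
      · rw [e1 qw _ hi, e1 qw _ hi, ovMap_comp, ovMap_comp]; exact ovMap_congr _ hve.symm
    have e := k₁.trans k₂.symm
    simp only [cancel_mono] at e
    exact ovMap_injective e

end Groth.Agent.ArtinAtlas

end
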