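import Groth.Agent.ArtinAtlas.Lift
import Groth.Agent.CMChart.Slice
import Groth.Agent.CMChart.Locus
import Groth.Agent.CMChart.OverField
import Groth.Agent.CMChart.Scheme
import Groth.Agent.FlatDepth.Fibre
import Groth.Agent.KoszulLib.SeqFibre

/-!
# Points cut out by regular sequences in the fibres of a flat algebra
-/

set_option autoImplicit false
set_option linter.style.haveILetI false

universe u

open CategoryTheory AlgebraicGeometry TensorProduct IsLocalRing RingTheory.Sequence

noncomputable section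

namespace Groth.Agent.ArtinAtlas

/-- a nonzero algebra of finite type over a field has a Cohen–Macaulay closed point -/
theorem exists_maximal_cm {K F : Type u} [Field K] [CommRing F] [Algebra K F] [Algebra.FiniteType K F] [Nontrivial F] :
    ∃ (M : Ideal F) (_ : M.IsMaximal), LocCoh.IsCohenMacaulayLocalRing (Localization.AtPrime M) := by
  let f := Spec.map (CommRingCat.ofHom (algebraMap K F))
  haveI : IsNoetherianRing F := Algebra.FiniteType.isNoetherianRing K F
  haveI : Algebra.FinitePresentation K F := Algebra.FinitePresentation.of_finiteType.1 inferInstance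
  haveI : LocallyOfFinitePresentation f := (HasRingHomProperty.Spec_iff (P := @LocallyOfFinitePresentation)).mpr
    (RingHom.finitePresentation_algebraMap.mpr inferInstance)
  have iffStalk : ∀ x : PrimeSpectrum F, MoreMor.IsCMAt f x ↔
      LocCoh.IsCohenMacaulayLocalRing (Localization.AtPrime x.asIdeal) := fun x => by
    let e := (IsLocalization.algEquiv x.asIdeal.primeCompl (Localization.AtPrime x.asIdeal)
      ((Spec.structureSheaf F).presheaf.stalk x)).toRingEquiv
    rw [CMChart.isCMAt_iff_stalk]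
    exact ⟨fun h => haveI := h; CMChart.isCohenMacaulayLocalRing_of_ringEquiv e.symm h,
      fun h => CMChart.isCohenMacaulayLocalRing_of_ringEquiv e h⟩
  obtain ⟨Q, hQ⟩ := (⊥ : Ideal F).nonempty_minimalPrimes bot_ne_top
  haveI := hQ.1.1
  have h0 : LocCoh.IsCohenMacaulayLocalRing (Localization.AtPrime Q) := by
    refine CMChart.isCohenMacaulayLocalRing_of_dim_zero ?_
    rw [IsLocalization.AtPrime.ringKrullDim_eq_height Q (Localization.AtPrime Q), Ideal.height_eq_zero_iff.2 hQ]
    rfl
  haveI : IsJacobsonRing F := isJacobsonRing_of_finiteType (A := K)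
  haveI : JacobsonSpace (PrimeSpectrum F) := PrimeSpectrum.isJacobsonRing_iff_jacobsonSpace.1 inferInstance
  haveI : JacobsonSpace ↥(Spec (CommRingCat.of F)) := ‹JacobsonSpace (PrimeSpectrum F)›
  obtain ⟨x, hx, hxc⟩ := nonempty_inter_closedPoints (X := ↥(Spec (CommRingCat.of F)))
    (Z := {x | MoreMor.IsCMAt f x}) ⟨⟨Q, inferInstance⟩, (iffStalk _).2 h0⟩
    (CMChart.isOpen_isCMAt f).isLocallyClosed
  haveI hxm := (PrimeSpectrum.isClosed_singleton_iff_isMaximal x).1 hxc
  exact ⟨x.asIdeal, hxm, (iffStalk x).1 hx⟩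

variable {A P : Type u} [CommRing A] [CommRing P] [Algebra A P]

/-- weak regularity only depends on the elements up to units -/
theorem isWeaklyRegular_of_associated {L : Type u} [CommRing L] (r : List L) (σ : L → L)
    (hσ : ∀ x ∈ r, Associated (σ x) x) (h : IsWeaklyRegular L r) :
    IsWeaklyRegular L (r.map σ) ∧ Ideal.ofList (r.map σ) = Ideal.ofList r := by
  have key : ∀ l : List L, (∀ x ∈ l, Associated (σ x) x) → Ideal.ofList (l.map σ) = Ideal.ofList l := by
    intro l hl
    refine le_antisymm (Ideal.span_le.2 ?_) (Ideal.span_le.2 ?_)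
    · intro y hy
      obtain ⟨x, hx, rfl⟩ := List.mem_map.1 hy
      obtain ⟨c, hc⟩ := (hl x hx).symm.dvd
      rw [hc]
      exact Ideal.mul_mem_right _ _ (Ideal.subset_span hx)
    · intro x hx
      obtain ⟨c, hc⟩ := (hl x hx).dvd
      rw [hc]
      exact Ideal.mul_mem_right _ _ (Ideal.subset_span (List.mem_map_of_mem hx))
  refine ⟨(InjFibre.isWeaklyRegular_ring_iff _).2 fun i hi x hx => ?_, key r hσ⟩
  rw [List.length_map] at hi
  have hk := key (r.take i) fun x hx => hσ x (List.mem_of_mem_take hx)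
  rw [List.map_take] at hk
  rw [hk] at hx ⊢
  obtain ⟨u, hu⟩ := hσ r[i] (List.getElem_mem hi)
  refine (InjFibre.isWeaklyRegular_ring_iff _).1 h i hi x ?_
  rw [List.getElem_map] at hx
  rw [← hu, mul_right_comm]
  exact Ideal.mul_mem_right _ _ hx

/-- after localising, a regular sequence cuts out a finite scheme in the fibre at a prime -/
theorem exists_ci_chart [Algebra.FinitePresentation A P] [Module.Flat A P] (p : Ideal A) [p.IsPrime]
    [Nontrivial (p.Fiber P)] :
    ∃ (g : P) (fs : List (Localization.Away g)), IsWeaklyRegular (Localization.Away g) fs ∧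
      (∀ i ≤ fs.length, Module.Flat A (Localization.Away g ⧸ Ideal.ofList (fs.take i))) ∧
      Nontrivial (p.Fiber (Localization.Away g ⧸ Ideal.ofList fs)) ∧
      Module.Finite p.ResidueField (p.Fiber (Localization.Away g ⧸ Ideal.ofList fs)) := by
  classical
  obtain ⟨q, hq, hcm⟩ := exists_maximal_cm (K := p.ResidueField) (F := p.Fiber P)
  let ι : P →ₐ[A] p.Fiber P := Algebra.TensorProduct.includeRight
  let r := q.comap ι
  haveI : r.IsPrime := inferInstance
  have hover : ∀ (Q : Ideal (p.Fiber P)) [Q.IsPrime], (Q.comap ι).comap (algebraMap A P) = p := by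
    intro Q _
    exact (congrArg (fun f : A →+* p.Fiber P => Q.comap f) ι.comp_algebraMap).trans
      (inferInstance : Q.LiesOver p).over.symm
  have hinj : ∀ (Q Q' : Ideal (p.Fiber P)) [Q.IsPrime] [Q'.IsPrime], Q.comap ι = Q'.comap ι → Q ≤ Q' := by
    intro Q Q' _ _ e x hx
    obtain ⟨a, ha, s, hs⟩ := Ideal.Fiber.exists_smul_eq_one_tmul p x
    have h1 : ι s ∈ Q := by
      show (1 : p.ResidueField) ⊗ₜ[A] s ∈ Q
      rw [← hs, Algebra.smul_def]
      exact Q.mul_mem_left _ hx
    have h2 : ι s ∈ Q' := (e ▸ (show s ∈ Q.comap ι from h1) : s ∈ Q'.comap ι)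
    change (1 : p.ResidueField) ⊗ₜ[A] s ∈ Q' at h2
    rw [← hs, Algebra.smul_def] at h2
    refine (‹Q'.IsPrime›.mem_or_mem h2).resolve_left fun h3 => ha ?_
    rw [(inferInstance : Q'.LiesOver p).over]
    exact h3
  let S' := Localization.AtPrime r
  let L := S' ⧸ p.map (algebraMap A S')
  -- the fibre local ring
  haveI : (q.comap ι).LiesOver p := ⟨(hover q).symm⟩
  letI := Localization.AtPrime.algebraOfLiesOver p (q.comap ι)
  let e' : Localization.AtPrime q ≃+* L := (Ideal.Fiber.localizationAlgEquivQuotient p q).toRingEquiv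
  haveI : LocCoh.IsCohenMacaulayLocalRing L := CMChart.isCohenMacaulayLocalRing_of_ringEquiv e' hcm
  obtain ⟨rs, hrs, hdim⟩ := CMChart.exists_regular_zeroDim L
  let π : S' →+* L := Ideal.Quotient.mk _
  have hnum : ∀ x : L, ∃ f : P, Associated (π (algebraMap P S' f)) x := fun x => by
    obtain ⟨x, rfl⟩ := Ideal.Quotient.mk_surjective x
    obtain ⟨y, s, rfl⟩ := IsLocalization.exists_mk'_eq r.primeCompl x
    refine ⟨y, Associated.map π ?_⟩
    have e : algebraMap P S' y = algebraMap P S' s * IsLocalization.mk' S' y s := (IsLocalization.mk'_spec' S' y s).symm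
    rw [e]
    exact associated_unit_mul_left _ _ (IsLocalization.map_units S' s)
  choose num hnum using hnum
  let fs₀ := rs.map num
  obtain ⟨hreg, hofList⟩ := isWeaklyRegular_of_associated rs (fun x => π (algebraMap P S' (num x)))
    (fun x _ => hnum x) hrs.toIsWeaklyRegular
  have hmap : (fs₀.map (algebraMap P S')).map π = rs.map fun x => π (algebraMap P S' (num x)) := by
    simp [fs₀, List.map_map, Function.comp_def]
  haveI : Module.Flat P S' := IsLocalization.flat S' r.primeCompl
  haveI : Module.Flat A S' := Module.Flat.trans A P S'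
  let rp : PrimeSpectrum P := ⟨r, inferInstance⟩
  have hseq : InjFibre.SeqAt A fs₀ rp := by
    refine InjFibre.seqAt_of_fibre rp S' fs₀ ?_
    show IsWeaklyRegular (S' ⧸ (r.comap (algebraMap A P)).map (algebraMap A S')) _
    rw [hover q]
    refine (isWeaklyRegular_map_algebraMap_iff (S' ⧸ p.map (algebraMap A S')) (S' ⧸ p.map (algebraMap A S')) _).1 ?_
    exact hmap ▸ hreg
  obtain ⟨g₁, hg₁, hg₁'⟩ := KoszulLib.exists_away_of_seqAt fs₀ rp hseq
  -- the point is isolated
  let J : Ideal (p.Fiber P) := (Ideal.ofList fs₀).map ι.toRingHom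
  have hJq : J ≤ q := by
    refine Ideal.map_le_iff_le_comap.2 (Ideal.span_le.2 fun f hf => ?_)
    obtain ⟨x, hx, rfl⟩ := List.mem_map.1 hf
    show num x ∈ r
    have h1 : ¬IsUnit (π (algebraMap P S' (num x))) := fun hu => by
      have : IsUnit x := (hnum x).isUnit hu
      exact hrs.top_ne_smul ((Ideal.mul_top _).trans
        (Ideal.eq_top_of_isUnit_mem _ (show x ∈ Ideal.ofList rs from Ideal.subset_span hx) this)).symm
    by_contra hn
    exact h1 ((IsLocalization.map_units S' (⟨num x, hn⟩ : r.primeCompl)).map π)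
  have hmin : ∀ Q : Ideal (p.Fiber P), Q.IsPrime → J ≤ Q → Q ≤ q → Q = q := by
    intro Q hQ hJQ hQq
    refine le_antisymm hQq (hinj q Q ?_)
    refine le_antisymm (fun x hx => ?_) (Ideal.comap_mono hQq)
    let r' := Q.comap ι
    have hr' : r' ≤ r := Ideal.comap_mono hQq
    haveI : Nontrivial (L ⧸ Ideal.ofList rs) :=
      Ideal.Quotient.nontrivial_iff.2 fun h => hrs.top_ne_smul ((Ideal.mul_top _).trans h).symm
    haveI : Ring.KrullDimLE 0 (L ⧸ Ideal.ofList rs) := Ring.krullDimLE_iff.2 hdim.le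
    have hdis : Disjoint (r.primeCompl : Set P) (r' : Set P) := Set.disjoint_left.2 fun y hy hy' => hy (hr' hy')
    have hP1 : (r'.map (algebraMap P S')).IsPrime := IsLocalization.isPrime_of_isPrime_disjoint _ S' r' inferInstance hdis
    have hp1 : p.map (algebraMap A S') ≤ r'.map (algebraMap P S') := by
      rw [IsScalarTower.algebraMap_eq A P S', ← Ideal.map_map]
      exact Ideal.map_mono (Ideal.map_le_iff_le_comap.2 (hover Q).ge)
    haveI hP2 : ((r'.map (algebraMap P S')).map π).IsPrime :=
      Ideal.map_isPrime_of_surjective Ideal.Quotient.mk_surjective (by rw [Ideal.mk_ker]; exact hp1)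
    have hrs' : Ideal.ofList rs ≤ (r'.map (algebraMap P S')).map π := by
      rw [← hofList, ← hmap, ← Ideal.map_ofList, ← Ideal.map_ofList]
      exact Ideal.map_mono (Ideal.map_mono fun y hy => show ι y ∈ Q from hJQ (Ideal.mem_map_of_mem _ hy))
    haveI hP3 : (((r'.map (algebraMap P S')).map π).map (Ideal.Quotient.mk (Ideal.ofList rs))).IsPrime :=
      Ideal.map_isPrime_of_surjective Ideal.Quotient.mk_surjective (by rw [Ideal.mk_ker]; exact hrs')
    have hM := Ideal.IsPrime.isMaximal' (R := L ⧸ Ideal.ofList rs) hP3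
    have hM' := Ideal.comap_isMaximal_of_surjective _ Ideal.Quotient.mk_surjective (K := _) (H := hM)
    rw [Ideal.comap_map_of_surjective' _ Ideal.Quotient.mk_surjective, Ideal.mk_ker, sup_eq_left.2 hrs'] at hM'
    have hM'' := Ideal.comap_isMaximal_of_surjective π Ideal.Quotient.mk_surjective (K := _) (H := hM')
    rw [Ideal.comap_map_of_surjective' π Ideal.Quotient.mk_surjective, Ideal.mk_ker, sup_eq_left.2 hp1] at hM''
    have h2 : algebraMap P S' x ∈ r'.map (algebraMap P S') := by
      rw [IsLocalRing.eq_maximalIdeal hM'', IsLocalization.AtPrime.to_map_mem_maximal_iff S' r]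
      exact hx
    rw [← Ideal.mem_comap, ← Ideal.under_def, IsLocalization.under_map_of_isPrime_disjoint r.primeCompl S' inferInstance hdis] at h2
    exact h2
  haveI : IsNoetherianRing (p.Fiber P) := Algebra.FiniteType.isNoetherianRing p.ResidueField _
  have hfin := J.finite_minimalPrimes_of_isNoetherianRing
  obtain ⟨h, hhq, hh⟩ : ∃ h ∉ q, ∀ Q ∈ J.minimalPrimes, Q ≠ q → h ∈ Q := by
    have hne : ∀ Q ∈ J.minimalPrimes, Q ≠ q → ¬Q ≤ q := fun Q hQ hne hle =>
      hne (hmin Q hQ.1.1 hQ.1.2 hle)
    choose! w hw hwq using fun Q hQ hne' => Set.not_subset.1 (hne Q hQ hne')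
    refine ⟨∏ Q ∈ hfin.toFinset.erase q, w Q, ?_, fun Q hQ hne' => ?_⟩
    · intro hm
      obtain ⟨Q, hQ, hm⟩ := (Ideal.IsPrime.prod_mem_iff).1 hm
      exact hwq Q (hfin.mem_toFinset.1 (Finset.mem_of_mem_erase hQ)) (Finset.ne_of_mem_erase hQ) hm
    · exact Ideal.prod_mem Q (Finset.mem_erase.2 ⟨hne', hfin.mem_toFinset.2 hQ⟩) (hw Q hQ hne')
  obtain ⟨a, ha, g₀, hg₀⟩ := Ideal.Fiber.exists_smul_eq_one_tmul p h
  have hg₀q : g₀ ∉ r := fun h' => by
    change ((1 : p.ResidueField) ⊗ₜ[A] g₀) ∈ q at h'
    rw [← hg₀, Algebra.smul_def] at h'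
    refine hhq ((hq.isPrime.mem_or_mem h').resolve_left fun h3 => ha ?_)
    rw [(inferInstance : q.LiesOver p).over]
    exact h3
  let g := g₁ * g₀
  have hg : g ∉ r := fun h' => ((inferInstance : r.IsPrime).mem_or_mem h').elim hg₁ hg₀q
  let Pg := Localization.Away g
  let fs := fs₀.map (algebraMap P Pg)
  haveI : Algebra.FinitePresentation P Pg := IsLocalization.Away.finitePresentation g
  haveI : Algebra.FinitePresentation A Pg := Algebra.FinitePresentation.trans A P Pg
  obtain ⟨hw, hfl⟩ := InjFibre.isWeaklyRegular_of_seqAt (R := A) fs fun M => by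
    let M₀ : PrimeSpectrum P := PrimeSpectrum.comap (algebraMap P Pg) M
    haveI : IsLocalization.AtPrime (Localization.AtPrime M.asIdeal) M₀.asIdeal :=
      IsLocalization.isLocalization_isLocalization_atPrime_isLocalization (Submonoid.powers g) _ M.asIdeal
    have hM : g₁ ∉ M.asIdeal.comap (algebraMap P Pg) := fun h' => by
      have : algebraMap P Pg g ∈ M.asIdeal := by rw [map_mul]; exact M.asIdeal.mul_mem_right _ h'
      exact M.isPrime.ne_top (Ideal.eq_top_of_isUnit_mem _ this (IsLocalization.Away.algebraMap_isUnit g))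
    have h1 := (InjFibre.seqAt_iff fs₀ M₀ (Localization.AtPrime M.asIdeal)).1 (hg₁' M₀ hM)
    refine (InjFibre.seqAt_iff fs M (Localization.AtPrime M.asIdeal)).2 ?_
    have e : fs.map (algebraMap Pg (Localization.AtPrime M.asIdeal)) =
        fs₀.map (algebraMap P (Localization.AtPrime M.asIdeal)) := by
      simp only [fs, List.map_map]
      exact List.map_congr_left fun x _ => (IsScalarTower.algebraMap_apply P Pg _ x).symm
    rw [e, show fs.length = fs₀.length from List.length_map _]
    exact h1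
  refine ⟨g, fs, hw, hfl, ?_, ?_⟩
  all_goals
    let Z := Pg ⧸ Ideal.ofList fs
    let μ : P →ₐ[A] Z := (Ideal.Quotient.mkₐ A _).comp (IsScalarTower.toAlgHom A P Pg)
    let ν : p.Fiber P →ₐ[A] p.Fiber Z := Algebra.TensorProduct.map (AlgHom.id A p.ResidueField) μ
  · have hgq : ι g ∉ q := hg
    haveI : Nontrivial (p.Fiber P ⧸ q) := Ideal.Quotient.nontrivial_iff.2 hq.ne_top
    let θ : P →ₐ[A] p.Fiber P ⧸ q := (Ideal.Quotient.mkₐ A q).comp ι
    have hθu : ∀ y : Submonoid.powers g, IsUnit (θ y) := fun ⟨y, n, hn⟩ => by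
      subst hn
      show IsUnit (θ (g ^ n))
      rw [map_pow]
      refine IsUnit.pow n ?_
      letI := Ideal.Quotient.field q
      exact isUnit_iff_ne_zero.2 fun h0 => hgq (Ideal.Quotient.eq_zero_iff_mem.1 h0)
    let θ₀ : Pg →+* p.Fiber P ⧸ q :=
      IsLocalization.lift (M := Submonoid.powers g) (S := Pg) (g := θ.toRingHom) hθu
    have hθ₀ : ∀ y, θ₀ (algebraMap P Pg y) = θ y := fun y => IsLocalization.lift_eq _ y
    let θ' : Pg →ₐ[A] p.Fiber P ⧸ q := { θ₀ with
      commutes' := fun a => by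
        show θ₀ (algebraMap A Pg a) = _
        rw [IsScalarTower.algebraMap_apply A P Pg, hθ₀]
        exact θ.commutes a }
    let θZ : Z →ₐ[A] p.Fiber P ⧸ q := Ideal.Quotient.liftₐ _ θ' fun x hx => by
      refine (Ideal.span_le.2 ?_ : Ideal.ofList fs ≤ RingHom.ker θ'.toRingHom) hx
      intro y hy
      obtain ⟨f, hf, rfl⟩ := List.mem_map.1 hy
      show θ' (algebraMap P Pg f) = 0
      rw [show θ' (algebraMap P Pg f) = θ f from hθ₀ f]
      exact Ideal.Quotient.eq_zero_iff_mem.2 (hJq (Ideal.mem_map_of_mem ι.toRingHom (Ideal.subset_span hf)))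
    let κq : p.ResidueField →ₐ[A] p.Fiber P ⧸ q := IsScalarTower.toAlgHom A p.ResidueField _
    exact (Algebra.TensorProduct.productMap κq θZ).toRingHom.domain_nontrivial
  · haveI : Algebra.FiniteType A Z :=
      Algebra.FiniteType.of_surjective (Ideal.Quotient.mkₐ A (Ideal.ofList fs)) Ideal.Quotient.mk_surjective
    haveI : IsNoetherianRing (p.Fiber Z) := Algebra.FiniteType.isNoetherianRing p.ResidueField (p.Fiber Z)
    have hmax : ∀ T : Ideal (p.Fiber Z), T.IsPrime → T.IsMaximal := by
      have key : ∀ T : Ideal (p.Fiber Z), T.IsPrime → T.comap ν.toRingHom = q := by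
        intro T hT
        have hJT : J ≤ T.comap ν.toRingHom := by
          refine Ideal.map_le_iff_le_comap.2 (Ideal.span_le.2 fun f hf => ?_)
          show (1 : p.ResidueField) ⊗ₜ[A] μ f ∈ T
          rw [show μ f = 0 from Ideal.Quotient.eq_zero_iff_mem.2 (Ideal.subset_span (List.mem_map_of_mem hf)),
            TensorProduct.tmul_zero]
          exact T.zero_mem
        have hgT : ι g ∉ T.comap ν.toRingHom := fun h' => by
          refine hT.ne_top (Ideal.eq_top_of_isUnit_mem _ h' ?_)
          exact ((IsLocalization.Away.algebraMap_isUnit (S := Pg) g).map (Ideal.Quotient.mk (Ideal.ofList fs))).map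
            (Algebra.TensorProduct.includeRight : Z →ₐ[A] p.Fiber Z)
        obtain ⟨Q, hQ, hQT⟩ := Ideal.exists_minimalPrimes_le hJT
        have hQq : Q = q := by
          by_contra hne
          have h1 : h ∈ T.comap ν.toRingHom := hQT (hh Q hQ hne)
          refine hgT ?_
          rw [show ι g = ι g₁ * ι g₀ from map_mul _ _ _]
          refine Ideal.mul_mem_left _ _ ?_
          show (1 : p.ResidueField) ⊗ₜ[A] g₀ ∈ T.comap ν.toRingHom
          rw [← hg₀, Algebra.smul_def]
          exact Ideal.mul_mem_left _ _ h1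
        subst hQq
        exact (hq.eq_of_le (Ideal.comap_ne_top _ hT.ne_top) hQT).symm
      intro T hT
      obtain ⟨T', hT', hle⟩ := Ideal.exists_le_maximal T hT.ne_top
      suffices T' ≤ T by rwa [le_antisymm hle this]
      intro z hz
      obtain ⟨a, ha, s, hs⟩ := Ideal.Fiber.exists_smul_eq_one_tmul p z
      obtain ⟨s, rfl⟩ := Ideal.Quotient.mk_surjective s
      obtain ⟨y, ⟨_, n, rfl⟩, hy⟩ := IsLocalization.exists_mk'_eq (Submonoid.powers g) s
      have hu' : IsUnit (algebraMap P Pg (g ^ n)) := by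
        rw [map_pow]; exact (IsLocalization.Away.algebraMap_isUnit g).pow n
      have hu : IsUnit ((Algebra.TensorProduct.includeRight : Z →ₐ[A] p.Fiber Z) (μ (g ^ n))) :=
        (hu'.map (Ideal.Quotient.mk (Ideal.ofList fs))).map _
      have e1 : (1 : p.ResidueField) ⊗ₜ[A] μ y =
          (Algebra.TensorProduct.includeRight : Z →ₐ[A] p.Fiber Z) (μ (g ^ n)) * (a • z) := by
        rw [hs]
        show _ = (1 : p.ResidueField) ⊗ₜ[A] _ * (1 : p.ResidueField) ⊗ₜ[A] _
        rw [Algebra.TensorProduct.tmul_mul_tmul, _root_.mul_one, ← hy]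
        congr 1
        show Ideal.Quotient.mk _ (algebraMap P Pg y) =
          Ideal.Quotient.mk _ (algebraMap P Pg (g ^ n)) * Ideal.Quotient.mk _ _
        rw [← map_mul]
        exact congrArg _ (IsLocalization.mk'_spec' Pg y (⟨g ^ n, n, rfl⟩ : Submonoid.powers g)).symm
      have e2 : ι y ∈ T'.comap ν.toRingHom := by
        show (1 : p.ResidueField) ⊗ₜ[A] μ y ∈ T'
        rw [e1]
        exact Ideal.mul_mem_left _ _ (Submodule.smul_of_tower_mem T' a hz)
      rw [key T' (Ideal.IsMaximal.isPrime (α := p.Fiber Z) hT'), ← key T hT] at e2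
      change (1 : p.ResidueField) ⊗ₜ[A] μ y ∈ T at e2
      rw [e1, Ideal.unit_mul_mem_iff_mem _ hu] at e2
      have e3 : (a • (1 : p.Fiber Z)) * z ∈ T := by rw [smul_mul_assoc]; convert e2 using 2; exact _root_.one_mul z
      refine (hT.mem_or_mem e3).resolve_left fun h3 => ha ?_
      rw [(inferInstance : T.LiesOver p).over]
      show algebraMap A (p.Fiber Z) a ∈ T
      rwa [Algebra.algebraMap_eq_smul_one]
    haveI : Ring.KrullDimLE 0 (p.Fiber Z) := (Ring.krullDimLE_zero_iff (R := p.Fiber Z)).2 hmax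
    haveI : IsArtinianRing (p.Fiber Z) :=
      (isArtinianRing_iff_isNoetherianRing_krullDimLE_zero (R := p.Fiber Z)).2 ⟨inferInstance, inferInstance⟩
    exact Module.finite_iff_isArtinianRing p.ResidueField (p.Fiber Z) |>.2 inferInstance

/-- a local factor of a finite algebra over an algebraically closed field -/
theorem exists_local_factor (k Z : Type u) [Field k] [IsAlgClosed k] [CommRing Z] [Algebra k Z] [Module.Finite k Z]
    [Nontrivial Z] :
    ∃ (B : Type u) (_ : CommRing B) (_ : Algebra k B) (β : Z →ₐ[k] B), Function.Surjective β ∧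
      RingHom.ker β.toRingHom ≤ RingHom.ker β.toRingHom * RingHom.ker β.toRingHom ∧ Nontrivial B ∧
      Module.Finite k B ∧ ∀ x : B, ∃ c : k, IsNilpotent (x - algebraMap k B c) := by
  haveI : IsArtinianRing Z := IsArtinianRing.of_finite k Z
  obtain ⟨M, hM⟩ := Ideal.exists_maximal Z
  haveI := hM.isPrime
  let β := IsScalarTower.toAlgHom k Z (Localization.AtPrime M)
  have hβ : Function.Surjective β := IsArtinianRing.localization_surjective M.primeCompl _
  have hfin : Module.Finite k (Localization.AtPrime M) := Module.Finite.of_surjective β.toLinearMap hβ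
  refine ⟨_, inferInstance, inferInstance, β, hβ, fun z hz => ?_, inferInstance, hfin, fun x => ?_⟩
  · obtain ⟨s, hs⟩ := (IsLocalization.eq_iff_exists M.primeCompl (Localization.AtPrime M)).1
      ((show algebraMap Z (Localization.AtPrime M) z = 0 from hz).trans (map_zero _).symm)
    rw [mul_zero] at hs
    obtain ⟨v, hv⟩ := (IsLocalization.map_units (Localization.AtPrime M) s).exists_right_inv
    obtain ⟨w, rfl⟩ := hβ v
    have h1 : 1 - (s : Z) * w ∈ RingHom.ker β.toRingHom := by
      rw [RingHom.mem_ker, map_sub, map_one, map_mul]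
      exact sub_eq_zero.2 hv.symm
    have : z = (1 - (s : Z) * w) * z := by rw [sub_mul, _root_.one_mul, mul_right_comm, hs, zero_mul, sub_zero]
    rw [this]
    exact Ideal.mul_mem_mul h1 hz
  · haveI := hfin
    haveI : IsArtinianRing (Localization.AtPrime M) := IsArtinianRing.of_finite k _
    let K := ResidueField (Localization.AtPrime M)
    haveI : Module.Finite k K :=
      Module.Finite.of_surjective (IsScalarTower.toAlgHom k (Localization.AtPrime M) K).toLinearMap Ideal.Quotient.mk_surjective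
    obtain ⟨c, hc⟩ := (IsAlgClosed.algebraMap_bijective_of_isIntegral (k := k) (K := K)).2 (IsLocalRing.residue _ x)
    refine ⟨c, ?_⟩
    have h1 : x - algebraMap k _ c ∈ maximalIdeal (Localization.AtPrime M) := by
      rw [← IsLocalRing.residue_eq_zero_iff, map_sub, sub_eq_zero]
      exact hc.symm
    rwa [← Ring.KrullDimLE.nilradical_eq_maximalIdeal, mem_nilradical] at h1

/-- the point over an algebraically closed field of a fibrewise finite complete intersection -/
theorem exists_table_point (fs : List P) (p : Ideal A) [p.IsPrime]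
    [Nontrivial (p.Fiber (P ⧸ Ideal.ofList fs))] [Module.Finite p.ResidueField (p.Fiber (P ⧸ Ideal.ofList fs))]
    (k : Type u) [Field k] [IsAlgClosed k] [Algebra A k] (hk : RingHom.ker (algebraMap A k) = p) :
    ∃ (n : ℕ) (t₀ : Tab (Fin n) k) (φ₀ : P →+* t₀.Alg) (pb : Fin n → P), 0 < n ∧
      (∀ a, φ₀ (algebraMap A P a) = algebraMap k _ (algebraMap A k a)) ∧ (∀ j, φ₀ (pb j) = t₀.basis j) ∧
      (∀ f ∈ fs, φ₀ f = 0) ∧
      (∀ Ψ : k ⊗[A] P →+* t₀.Alg, (∀ a x, Ψ (a ⊗ₜ x) = a • φ₀ x) → RingHom.ker Ψ ≤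
        RingHom.ker Ψ * RingHom.ker Ψ ⊔ (Ideal.ofList fs).map
          (Algebra.TensorProduct.includeRight : P →ₐ[A] k ⊗[A] P).toRingHom) ∧
      Nontrivial t₀.Alg ∧ ∀ x : t₀.Alg, ∃ c : k, IsNilpotent (x - algebraMap k _ c) := by
  classical
  let Z := P ⧸ Ideal.ofList fs
  let κ := p.ResidueField
  let ε : κ →+* k := Ideal.ResidueField.lift p (algebraMap A k) hk.ge fun a ha =>
    isUnit_iff_ne_zero.2 fun h => ha (hk ▸ h : a ∈ p)
  letI : Algebra κ k := ε.toAlgebra
  haveI : IsScalarTower A κ k := IsScalarTower.of_algebraMap_eq fun a =>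
    (Ideal.ResidueField.lift_algebraMap p (algebraMap A k) hk.ge _ a).symm
  let e : k ⊗[κ] p.Fiber Z ≃ₐ[k] k ⊗[A] Z := Algebra.TensorProduct.cancelBaseChange A κ k k Z
  haveI : Module.Finite k (k ⊗[A] Z) := Module.Finite.equiv e.toLinearEquiv
  haveI : Nontrivial (k ⊗[κ] p.Fiber Z) := by
    obtain ⟨x, y, hxy⟩ := exists_pair_ne (p.Fiber Z)
    exact nontrivial_of_ne _ _ (fun h => hxy ((Algebra.TensorProduct.includeRight_injective
      (algebraMap κ k).injective) h))
  haveI : Nontrivial (k ⊗[A] Z) := e.symm.toEquiv.nontrivial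
  obtain ⟨B, _, _, β, hβ, hidem, hB, hBf, hnil⟩ := exists_local_factor k (k ⊗[A] Z)
  let Q := Algebra.TensorProduct.map (AlgHom.id k k) (Ideal.Quotient.mkₐ A (Ideal.ofList fs))
  have hsurj : Function.Surjective Q :=
    TensorProduct.map_surjective (g := (LinearMap.id : k →ₗ[A] k))
      (g' := (Ideal.Quotient.mkₐ A (Ideal.ofList fs)).toLinearMap) Function.surjective_id Ideal.Quotient.mk_surjective
  let φ : P →+* B := β.toRingHom.comp (Q.toRingHom.comp
    (Algebra.TensorProduct.includeRight : P →ₐ[A] k ⊗[A] P).toRingHom)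
  have hQ : ∀ (a : k) (y : P), β (Q (a ⊗ₜ y)) = a • φ y := fun a y => by
    show _ = a • β (Q ((1 : k) ⊗ₜ y))
    rw [← map_smul, ← map_smul, TensorProduct.smul_tmul', smul_eq_mul, _root_.mul_one]
  have hspan : Submodule.span k (Set.range φ) = ⊤ := eq_top_iff.2 fun z _ => by
    obtain ⟨z, rfl⟩ := hβ z
    obtain ⟨x, rfl⟩ := hsurj z
    induction x using TensorProduct.induction_on with
    | zero => simp
    | add x y hx hy => rw [map_add, map_add]; exact add_mem (hx Submodule.mem_top) (hy Submodule.mem_top)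
    | tmul a y => rw [hQ]; exact Submodule.smul_mem _ a (Submodule.subset_span ⟨y, rfl⟩)
  obtain ⟨b₀, hb₀s, hb₀sp, hb₀⟩ := exists_linearIndependent k (Set.range φ)
  rw [hspan] at hb₀sp
  let bs : Module.Basis b₀ k B := Module.Basis.mk hb₀ (by rw [Subtype.range_coe]; exact hb₀sp.ge)
  haveI := Module.Finite.finite_basis bs
  haveI : Fintype b₀ := Fintype.ofFinite b₀
  let b : Module.Basis (Fin (Fintype.card b₀)) k B := bs.reindex (Fintype.equivFin b₀)
  have hb : ∀ j, b j ∈ Set.range φ := fun j => by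
    rw [show b j = ((Fintype.equivFin b₀).symm j : B) from
      (bs.reindex_apply _ j).trans (Module.Basis.mk_apply _ _ _)]
    exact hb₀s ((Fintype.equivFin b₀).symm j).2
  choose pb hpb using hb
  let t₀ := Tab.ofBasis b
  have hn : 0 < Fintype.card b₀ := Fintype.card_pos_iff.2 bs.index_nonempty
  have hφA : ∀ a, φ (algebraMap A P a) = algebraMap k B (algebraMap A k a) := fun a => by
    rw [Algebra.algebraMap_eq_smul_one (A := B), ← map_one φ, ← hQ]
    show β (Q ((1 : k) ⊗ₜ algebraMap A P a)) = _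
    congr 2
    rw [Algebra.algebraMap_eq_smul_one a, Algebra.algebraMap_eq_smul_one a, TensorProduct.smul_tmul]
  have hinj : Function.Injective (Tab.toAlg b) := fun x y h => b.repr.injective (Finsupp.ext fun i => by
    rw [← Tab.coord_toAlg b x i, h, Tab.coord_toAlg])
  refine ⟨_, t₀, (Tab.toAlg b).comp φ, pb, hn, fun a => ?_, fun j => ?_, fun f hf => ?_, fun Ψ hΨ => ?_, ?_,
    fun x => ?_⟩
  · show Tab.toAlg b (φ _) = _
    rw [hφA, Tab.toAlg_algebraMap]
  · show Tab.toAlg b (φ (pb j)) = _
    rw [hpb]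
    exact t₀.ext' fun i => by rw [Tab.coord_toAlg, Tab.coord_basis, b.repr_self, Finsupp.single_eq_pi_single]
  · show Tab.toAlg b (β ((1 : k) ⊗ₜ Ideal.Quotient.mk _ f)) = 0
    rw [Ideal.Quotient.eq_zero_iff_mem.2 (show f ∈ Ideal.ofList fs from Ideal.subset_span hf),
      TensorProduct.tmul_zero, map_zero, map_zero]
  · have hΨQ : ∀ x, Ψ x = Tab.toAlg b (β (Q x)) := by
      intro x
      induction x using TensorProduct.induction_on with
      | zero => simp
      | add x y hx hy => simp only [map_add, hx, hy]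
      | tmul a y =>
        rw [hΨ, hQ]
        show a • Tab.toAlg b (φ y) = _
        refine t₀.ext' fun i => ?_
        rw [map_smul, Pi.smul_apply, Tab.coord_toAlg, Tab.coord_toAlg, map_smul, Finsupp.smul_apply]
    have hkerQ : RingHom.ker Q.toRingHom = (Ideal.ofList fs).map
        (Algebra.TensorProduct.includeRight : P →ₐ[A] k ⊗[A] P).toRingHom := by
      have h := Algebra.TensorProduct.lTensor_ker (A := k) (Ideal.Quotient.mkₐ A (Ideal.ofList fs))
        Ideal.Quotient.mk_surjective
      refine Eq.trans ?_ (h.trans ?_)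
      · rfl
      · exact congrArg (Ideal.map _) Ideal.mk_ker
    intro x hx
    rw [← hkerQ]
    have hK : Q x ∈ RingHom.ker β.toRingHom := hinj (((hΨQ x).symm.trans hx).trans (map_zero _).symm)
    have hK0 : RingHom.ker β.toRingHom = (RingHom.ker Ψ).map Q.toRingHom := by
      refine le_antisymm (fun z hz => ?_) (Ideal.map_le_iff_le_comap.2 fun y hy => ?_)
      · obtain ⟨y, rfl⟩ := hsurj z
        exact Ideal.mem_map_of_mem Q.toRingHom (by rw [RingHom.mem_ker, hΨQ, show β (Q y) = 0 from hz, map_zero])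
      · exact hinj (((hΨQ y).symm.trans hy).trans (map_zero _).symm)
    have h2 := hidem hK
    rw [hK0, ← Ideal.map_mul] at h2
    obtain ⟨y, hy, hyx⟩ := (Ideal.mem_map_iff_of_surjective _ hsurj).1 h2
    rw [← add_sub_cancel y x]
    refine Submodule.add_mem_sup hy ?_
    rw [RingHom.mem_ker, map_sub, sub_eq_zero]
    exact hyx.symm
  · haveI : Nonempty (Fin (Fintype.card b₀)) := ⟨⟨0, hn⟩⟩
    exact Function.Surjective.nontrivial (f := t₀.coord) t₀.coord.surjective
  · obtain ⟨c, hc⟩ := hnil (∑ i, t₀.coord x i • b i)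
    refine ⟨c, ?_⟩
    convert hc.map (Tab.toAlg b) using 1
    refine t₀.ext' fun i => ?_
    rw [map_sub, Pi.sub_apply, map_sub, map_sub, Pi.sub_apply, Tab.toAlg_algebraMap, Tab.coord_toAlg, b.repr_sum_self]

end Groth.Agent.ArtinAtlas

end
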