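import Groth.Agent.ArtinAtlas.SmoothChart
import Groth.Agent.AlgSpLib.LocP

/-!
# Testing representable charts on their liftable points and restricting them to open subschemes
-/

set_option autoImplicit false
set_option backward.isDefEq.respectTransparency false
set_option backward.isDefEq.respectTransparency.types false
set_option linter.style.haveILetI false
universe v₂ u₂ u

noncomputable section

namespace Groth.Agent.ArtinAtlas

open CategoryTheory CategoryTheory.Limits AlgebraicGeometry Opposite Groth.Agent.AlgSpLib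
open _root_.AlgSp _root_.AlgSt

/-- a property local on the source is checked on an etale covering family -/
theorem prop_of_etale_cover {P : MorphismProperty Scheme.{u}} (hP : EtST P) [IsZariskiLocalAtSource P]
    {X Y : Scheme.{u}} (f : X ⟶ Y)
    (h : ∀ x : X, ∃ (W : Scheme.{u}) (m : W ⟶ X), Etale m ∧ x ∈ Set.range m ∧ P (m ≫ f)) : P f := by
  choose W m hm hx hmf using h
  let O : X → X.Opens := fun x => haveI := hm x; ⟨Set.range (m x), (m x).isOpenMap.isOpen_range⟩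
  have hO : ⨆ x, O x = ⊤ := eq_top_iff.2 fun x _ => TopologicalSpace.Opens.mem_iSup.2 ⟨x, hx x⟩
  rw [IsZariskiLocalAtSource.iff_of_iSup_eq_top (P := P) O hO]
  intro x
  haveI := hm x
  let m' : W x ⟶ (O x).toScheme := IsOpenImmersion.lift (O x).ι (m x) (by rw [Scheme.Opens.range_ι]; rfl)
  have hm' : m' ≫ (O x).ι = m x := IsOpenImmersion.lift_fac _ _ _
  haveI : Etale m' := prop_of_comp_mono @Etale m' (O x).ι (by rw [hm']; infer_instance)
  haveI : Surjective m' := ⟨fun z => by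
    obtain ⟨z', hz'⟩ : (O x).ι z ∈ Set.range (m x) := z.2
    exact ⟨z', (O x).ι.isOpenEmbedding.injective
      ((congrArg (fun k : W x ⟶ X => k z') hm').trans hz')⟩⟩
  refine hP.descend m' _ inferInstance inferInstance ?_
  rw [reassoc_of% hm']
  exact hmf x

variable {S : Scheme.{u}} {𝒳 : BasedCategory.{v₂, u₂} (Over S)}

section liftable

variable {U₁ U₂ : Over S} {x : FibCat.overCat U₁ ⥤ᵇ 𝒳} {y : FibCat.overCat U₂ ⥤ᵇ 𝒳}

theorem SameRes.symm {T T₁ T₂ : Over S} {g₁ : T ⟶ T₁} {g₂ : T ⟶ T₂} {a₁ : T₁ ⟶ U₁} {b₁ : T₁ ⟶ U₂}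
    {θ₁ : Hom2 x y a₁ b₁} {a₂ : T₂ ⟶ U₁} {b₂ : T₂ ⟶ U₂} {θ₂ : Hom2 x y a₂ b₂} (h : SameRes x y g₁ g₂ θ₁ θ₂) :
    SameRes x y g₂ g₁ θ₂ θ₁ :=
  let ⟨a, b, θ, h₁, h₂⟩ := h
  ⟨a, b, θ, h₂, h₁⟩

theorem Hom2.Res.sameRes_left (hX : FibCat.IsFibGrpd 𝒳.p) {T T' T₁ : Over S} {a : T ⟶ U₁} {b : T ⟶ U₂}
    {θ : Hom2 x y a b} {i : T₁ ⟶ T} {a₁ : T₁ ⟶ U₁} {b₁ : T₁ ⟶ U₂} {θ₁ : Hom2 x y a₁ b₁} (hi : Hom2.Res i θ θ₁)
    {T₂ : Over S} {a₂ : T₂ ⟶ U₁} {b₂ : T₂ ⟶ U₂} {θ₂ : Hom2 x y a₂ b₂} {g : T' ⟶ T₁} {g₂ : T' ⟶ T₂} :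
    SameRes x y g g₂ θ₁ θ₂ ↔ SameRes x y (g ≫ i) g₂ θ θ₂ := by
  refine ⟨fun ⟨a', b', χ, h₁, h₂⟩ => ⟨a', b', χ, hi.trans h₁, h₂⟩, fun ⟨a', b', χ, h₁, h₂⟩ => ⟨a', b', χ, ?_, h₂⟩⟩
  obtain ⟨χ', hχ', -⟩ := Hom2.exists_res hX θ₁ g a' b' (by rw [← hi.1, ← Category.assoc, h₁.1])
    (by rw [← hi.2.1, ← Category.assoc, h₁.2.1])
  obtain rfl := (hi.trans hχ').unique hX h₁
  exact hχ'

/-- two liftable isomorphisms have a common space of lifts, etale over both -/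
theorem Liftable.exists_lifts₂ (hX : FibCat.IsFibGrpd 𝒳.p) {C C' : Over S} {a : C ⟶ U₁} {b : C ⟶ U₂}
    {θ : Hom2 x y a b} {a' : C' ⟶ U₁} {b' : C' ⟶ U₂} {θ' : Hom2 x y a' b'} (h : Liftable θ) (h' : Liftable θ') :
    ∃ (W : Over S) (l : W ⟶ C) (l' : W ⟶ C'), Etale l.left ∧ Etale l'.left ∧ SameRes x y l l' θ θ' ∧
      ∀ {T : Over S} (c : T ⟶ C) (c' : T ⟶ C'), SameRes x y c c' θ θ' → ∃! w : T ⟶ W, w ≫ l = c ∧ w ≫ l' = c' := by
  obtain ⟨W, l, l', hl', hll, hu⟩ := h θ'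
  obtain ⟨W', m', m, hm, hmm, hu'⟩ := h' θ
  obtain ⟨e, ⟨he, he'⟩, -⟩ := hu m m' hmm.symm
  obtain ⟨d, ⟨hd', hd⟩, -⟩ := hu' l' l hll.symm
  have hde : d ≫ e = 𝟙 W := (hu l l' hll).unique
    ⟨by rw [Category.assoc, he, hd], by rw [Category.assoc, he', hd']⟩ ⟨Category.id_comp _, Category.id_comp _⟩
  have hed : e ≫ d = 𝟙 W' := (hu' m' m hmm).unique
    ⟨by rw [Category.assoc, hd', he'], by rw [Category.assoc, hd, he]⟩ ⟨Category.id_comp _, Category.id_comp _⟩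
  haveI : IsIso d.left := haveI : IsIso d := (Iso.mk d e hde hed).isIso_hom
    inferInstanceAs (IsIso ((Over.forget S).map d))
  refine ⟨W, l, l', ?_, hl', hll, fun c c' hc => hu c c' hc⟩
  rw [← hd]
  haveI := hm
  exact inferInstanceAs (Etale (d.left ≫ m.left))

/-- liftability passes to a chart restricted along a monomorphism on the second side -/
theorem Liftable.toMap' {T : Over S} {w : T ⟶ U₂} [Mono w] {C : Over S} {g : C ⟶ T} {a : C ⟶ U₁}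
    {θ : Hom2 x y a (g ≫ w)} (h : Liftable θ) : Liftable (Hom2.toMap' θ) := by
  intro V a' b' η
  obtain ⟨W, l, q, hq, hlq, hu⟩ := h (Hom2.ofMap' η)
  have key : ∀ {V' : Over S} (c : V' ⟶ C) (d : V' ⟶ V),
      SameRes x (BasedFunctor.comp (AlgSt.overMap w) y) c d (Hom2.toMap' θ) η ↔
        SameRes x y c d θ (Hom2.ofMap' η) := by
    intro V' c d
    constructor
    · rintro ⟨r, s, χ, h₁, h₂⟩
      exact ⟨_, _, Hom2.ofMap' χ, h₁.ofMap', h₂.ofMap'⟩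
    · rintro ⟨r, s, χ, h₁, h₂⟩
      obtain rfl : (c ≫ g) ≫ w = s := (Category.assoc _ _ _).trans h₁.2.1
      have e : d ≫ b' = c ≫ g := by rw [← cancel_mono w, Category.assoc, h₂.2.1]
      exact ⟨_, _, Hom2.toMap' χ, h₁.toMap' rfl, ⟨h₂.1, e, h₂.2.2⟩⟩
  exact ⟨W, l, q, hq, (key l q).2 hlq, fun c d hc => hu c d ((key c d).1 hc)⟩

/-- a representable chart has a property local on source and target as soon as all its pull backs to schemes
have it on all their etale charts -/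
theorem repWith_locP_of_charts {P : MorphismProperty Scheme.{u}} (hP : EtST P) (hX : FibCat.IsFibGrpd 𝒳.p)
    (hy : RepByAlgSp1 y)
    (h : ∀ (T : Over S) (z : FibCat.overCat T ⥤ᵇ 𝒳) (D : PairSp z y) (Φ : Chart D), P Φ.a.left) :
    RepByAlgSpWith (LocP P) y := by
  intro T z
  obtain ⟨D, -, hD⟩ := exists_pairSp' hX z hy
  refine hD _ ?_
  obtain ⟨C₀, p, hp, hps⟩ := D.isAlgSpace.atlas
  obtain ⟨a, b, θ, hθ⟩ := D.exists_cl (sec p)
  let Φ : Chart D := ⟨C₀, p, hp, a, b, θ, hθ⟩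
  refine AlgSpLib.locP_of_chart hP D.isAlgSpace (IsAlgSpace.yon_obj T) (a := p) (b := 𝟙 _) (h := Φ.a) hp hps
    (repWith_id _ _) (sec_injective ?_) (h T z D Φ)
  rw [Category.comp_id, sec_map]
  refine (ULift.ext _ _ ((D.pr₁_eq hθ).trans ?_) : _ = (sec ((yon S).map Φ.a) : ULift.{u + 1} (C₀ ⟶ T)))
  exact (Category.id_comp a).symm

end liftable

/-- flat and locally finitely presented is local on source and target -/
theorem etST_flat_lfp : EtST (@Flat ⊓ @LocallyOfFinitePresentation : MorphismProperty Scheme.{u}) where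
  comp := inferInstance
  baseChange := inferInstance
  of_etale _ _ f hf := ⟨etST_flat.of_etale f hf, etST_lfp.of_etale f hf⟩
  descend _ _ _ f g hf hs h := ⟨etST_flat.descend f g hf hs h.1, etST_lfp.descend f g hf hs h.2⟩

/-- the restriction of a flat, locally finitely presented chart to an open subscheme -/
theorem repWith_restrict (hX : FibCat.IsFibGrpd 𝒳.p) {U V : Over S} {x : FibCat.overCat U ⥤ᵇ 𝒳}
    (hx : RepByAlgSpWith (LocP (@Flat ⊓ @LocallyOfFinitePresentation)) x) (i : V ⟶ U) [IsOpenImmersion i.left]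
    (hxi : RepByAlgSp1 (BasedFunctor.comp (AlgSt.overMap i) x)) :
    RepByAlgSpWith (LocP (@Flat ⊓ @LocallyOfFinitePresentation)) (BasedFunctor.comp (AlgSt.overMap i) x) := by
  haveI := respectsIso_locP (S := S) (@Flat ⊓ @LocallyOfFinitePresentation)
  haveI : Mono i := (Over.forget S).mono_of_mono_map (inferInstanceAs (Mono i.left))
  refine repWith_locP_of_charts etST_flat_lfp hX hxi fun T z D Φ => ?_
  obtain ⟨D', hD'⟩ := exists_pairSp hX z (AlgStLib.repByAlgSp1_of_with hx)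
  refine prop_of_etale_cover etST_flat_lfp _ fun c₀ => ?_
  obtain ⟨Ψ, -, W, l, q, hq, hlq, w, hw⟩ := D'.exists_affine_chart hX (Hom2.ofMap' Φ.θ) c₀
  haveI := hq
  -- the part of the chart over the open subscheme
  let O : Ψ.C.left.Opens := Ψ.b.left ⁻¹ᵁ i.left.opensRange
  let C : Over S := Over.mk (O.ι ≫ Ψ.C.hom)
  let ι : C ⟶ Ψ.C := Over.homMk O.ι
  haveI : IsOpenImmersion ι.left := inferInstanceAs (IsOpenImmersion O.ι)
  let g₀ : O.toScheme ⟶ V.left := IsOpenImmersion.lift i.left (O.ι ≫ Ψ.b.left) (by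
    rintro _ ⟨p, rfl⟩
    exact p.2)
  have hg₀ : g₀ ≫ i.left = O.ι ≫ Ψ.b.left := IsOpenImmersion.lift_fac _ _ _
  let g : C ⟶ V := Over.homMk g₀ (by
    show g₀ ≫ V.hom = O.ι ≫ Ψ.C.hom
    rw [← Over.w i, reassoc_of% hg₀, Over.w Ψ.b])
  have hg : g ≫ i = ι ≫ Ψ.b := Over.OverMorphism.ext hg₀
  obtain ⟨θ, hθ, -⟩ := Hom2.exists_res hX Ψ.θ ι (ι ≫ Ψ.a) (g ≫ i) rfl hg.symm
  have hL : Liftable (Hom2.toMap' θ) := Liftable.toMap' (Liftable.of_openImmersion hX (Chart.liftable hX Ψ) ι hθ)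
  obtain ⟨W', l', q', hl', hq', hs, hu⟩ := Liftable.exists_lifts₂ hX hL (Chart.liftable hX Φ)
  -- the given point lifts
  obtain ⟨ea, eb⟩ := hlq.endpoints
  have hwO : Ψ.b.left (l.left w) ∈ Set.range i.left :=
    ⟨Φ.b.left (q.left w), by
      exact congrArg (fun k : W ⟶ U => k.left w) eb.symm⟩
  let OW : W.left.Opens := l.left ⁻¹ᵁ O
  let W₀ : Over S := Over.mk (OW.ι ≫ W.hom)
  let ιW : W₀ ⟶ W := Over.homMk OW.ι
  let l₀ : W₀ ⟶ C := Over.homMk (l.left ∣_ O) (by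
    show (l.left ∣_ O) ≫ O.ι ≫ Ψ.C.hom = OW.ι ≫ W.hom
    rw [morphismRestrict_ι_assoc, Over.w l])
  have hl₀ : l₀ ≫ ι = ιW ≫ l := Over.OverMorphism.ext (morphismRestrict_ι _ _)
  have hs₀ : SameRes z (BasedFunctor.comp (AlgSt.overMap i) x) l₀ (ιW ≫ q) (Hom2.toMap' θ) Φ.θ := by
    have h := hlq.precomp hX ιW
    rw [← hl₀, ← hθ.sameRes_left hX] at h
    obtain ⟨r, s, χ, h₁, h₂⟩ := h
    obtain rfl : (l₀ ≫ g) ≫ i = s := (Category.assoc _ _ _).trans h₁.2.1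
    have e : (ιW ≫ q) ≫ Φ.b = l₀ ≫ g := by
      rw [← cancel_mono i, Category.assoc]
      exact h₂.2.1
    exact ⟨_, _, Hom2.toMap' χ, h₁.toMap' rfl, ⟨h₂.1, e, h₂.2.2⟩⟩
  obtain ⟨w', ⟨-, hw'⟩, -⟩ := hu l₀ (ιW ≫ q) hs₀
  refine ⟨W'.left, q'.left, hq', ⟨w'.left ⟨w, hwO⟩, ?_⟩, ?_⟩
  · rw [← hw]
    exact congrArg (fun k : W₀ ⟶ Φ.C => k.left (⟨w, hwO⟩ : OW.toScheme)) hw'
  · have e : q' ≫ Φ.a = l' ≫ ι ≫ Ψ.a := hs.endpoints.1.symm
    rw [← Over.comp_left, e]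
    exact etST_flat_lfp.precomp _ _ hl'
      (etST_flat_lfp.precomp _ _ (inferInstanceAs (Etale O.ι)) (Chart.prop_a _ (hD' _ inferInstance hx) Ψ))

end Groth.Agent.ArtinAtlas

end
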