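import Groth.Agent.ArtinAtlas.Restrict
import Groth.Agent.FppfSource.Scheme
import Groth.Agent.SmDesc.Scheme

/-!
# A chart with a smooth comparison to a flat chart is smooth
-/

set_option autoImplicit false
set_option backward.isDefEq.respectTransparency false
set_option backward.isDefEq.respectTransparency.types false
set_option linter.style.haveILetI false
universe v₂ u₂ u

noncomputable section

namespace Groth.Agent.ArtinAtlas

open CategoryTheory CategoryTheory.Limits AlgebraicGeometry Opposite Groth.Agent.AlgSpLib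
open _root_.AlgSp _root_.AlgSt

variable {S : Scheme.{u}} {𝒳 : BasedCategory.{v₂, u₂} (Over S)} {U₁ U₂ U₃ : Over S}
  {x : FibCat.overCat U₁ ⥤ᵇ 𝒳} {y : FibCat.overCat U₂ ⥤ᵇ 𝒳} {z : FibCat.overCat U₃ ⥤ᵇ 𝒳}

/-- a restriction factors through an intermediate restriction -/
theorem Hom2.Res.of_comp (hX : FibCat.IsFibGrpd 𝒳.p) {T T₁ T' : Over S} {a : T ⟶ U₁} {b : T ⟶ U₂}
    {θ : Hom2 x y a b} {i : T₁ ⟶ T} {a₁ : T₁ ⟶ U₁} {b₁ : T₁ ⟶ U₂} {θ₁ : Hom2 x y a₁ b₁} (hi : Hom2.Res i θ θ₁)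
    {g : T' ⟶ T₁} {a' : T' ⟶ U₁} {b' : T' ⟶ U₂} {θ' : Hom2 x y a' b'} (h : Hom2.Res (g ≫ i) θ θ') :
    Hom2.Res g θ₁ θ' := by
  obtain ⟨χ, hχ, -⟩ := Hom2.exists_res hX θ₁ g a' b' (by rw [← hi.1, ← Category.assoc, h.1])
    (by rw [← hi.2.1, ← Category.assoc, h.2.1])
  obtain rfl := (hi.trans hχ).unique hX h
  exact hχ

/-- three isomorphisms form a commutative triangle after restriction -/
def Tri {V C R Q : Over S} (cC : V ⟶ C) (cR : V ⟶ R) (cQ : V ⟶ Q) {a : C ⟶ U₁} {b : C ⟶ U₂} (θ₁ : Hom2 x y a b)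
    {a' : R ⟶ U₁} {b' : R ⟶ U₃} (θ₂ : Hom2 x z a' b') {qM : Q ⟶ U₂} {qV : Q ⟶ U₃} (θ₃ : Hom2 y z qM qV) : Prop :=
  ∃ (t : V ⟶ U₁) (m : V ⟶ U₂) (v : V ⟶ U₃) (α : Hom2 x y t m) (β : Hom2 y z m v) (γ : Hom2 x z t v),
    Hom2.Res cC θ₁ α ∧ Hom2.Res cQ θ₃ β ∧ Hom2.Res cR θ₂ γ ∧ α.comp β = γ

variable {C R Q : Over S} {a : C ⟶ U₁} {b : C ⟶ U₂} {θ₁ : Hom2 x y a b} {a' : R ⟶ U₁} {b' : R ⟶ U₃}
  {θ₂ : Hom2 x z a' b'} {qM : Q ⟶ U₂} {qV : Q ⟶ U₃} {θ₃ : Hom2 y z qM qV}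

/-- triangles are lifts to the third side of the quotient of the first two -/
theorem sameRes_iff_tri₃ (hX : FibCat.IsFibGrpd 𝒳.p) {P : Over S} {pC : P ⟶ C} {pR : P ⟶ R} {t₀ : P ⟶ U₁}
    {m₀ : P ⟶ U₂} {v₀ : P ⟶ U₃} {α₀ : Hom2 x y t₀ m₀} {γ₀ : Hom2 x z t₀ v₀} (hα : Hom2.Res pC θ₁ α₀)
    (hγ : Hom2.Res pR θ₂ γ₀) {V : Over S} (w : V ⟶ P) (cQ : V ⟶ Q) :
    SameRes y z w cQ ((α₀.inv hX).comp γ₀) θ₃ ↔ Tri (w ≫ pC) (w ≫ pR) cQ θ₁ θ₂ θ₃ := by
  constructor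
  · rintro ⟨m, v, β, h₁, h₂⟩
    obtain ⟨α, hα', -⟩ := Hom2.exists_res hX α₀ w (w ≫ t₀) m rfl h₁.1
    obtain ⟨γ, hγ', -⟩ := Hom2.exists_res hX γ₀ w (w ≫ t₀) v rfl h₁.2.1
    refine ⟨_, _, _, α, β, γ, hα.trans hα', h₂, hγ.trans hγ', ?_⟩
    obtain rfl := h₁.unique hX (Hom2.res_comp (Hom2.res_inv hX hα') hγ')
    rw [← Hom2.comp_assoc, Hom2.comp_inv, Hom2.refl_comp]
  · rintro ⟨t, m, v, α, β, γ, h₁, h₃, h₂, rfl⟩
    refine ⟨m, v, β, ?_, h₃⟩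
    have h := Hom2.res_comp (Hom2.res_inv hX (hα.of_comp hX h₁)) (hγ.of_comp hX h₂)
    rwa [← Hom2.comp_assoc, Hom2.inv_comp, Hom2.refl_comp] at h

/-- triangles are lifts to the first side of the quotient of the other two -/
theorem sameRes_iff_tri₁ (hX : FibCat.IsFibGrpd 𝒳.p) {P : Over S} {pR : P ⟶ R} {pQ : P ⟶ Q} {t₀ : P ⟶ U₁}
    {m₀ : P ⟶ U₂} {v₀ : P ⟶ U₃} {γ₀ : Hom2 x z t₀ v₀} {β₀ : Hom2 y z m₀ v₀} (hγ : Hom2.Res pR θ₂ γ₀)
    (hβ : Hom2.Res pQ θ₃ β₀) {V : Over S} (cC : V ⟶ C) (w : V ⟶ P) :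
    SameRes x y cC w θ₁ (γ₀.comp (β₀.inv hX)) ↔ Tri cC (w ≫ pR) (w ≫ pQ) θ₁ θ₂ θ₃ := by
  constructor
  · rintro ⟨t, m, α, h₁, h₂⟩
    obtain ⟨β, hβ', -⟩ := Hom2.exists_res hX β₀ w m (w ≫ v₀) h₂.2.1 rfl
    obtain ⟨γ, hγ', -⟩ := Hom2.exists_res hX γ₀ w t (w ≫ v₀) h₂.1 rfl
    refine ⟨_, _, _, α, β, γ, h₁, hβ.trans hβ', hγ.trans hγ', ?_⟩
    obtain rfl := h₂.unique hX (Hom2.res_comp hγ' (Hom2.res_inv hX hβ'))
    rw [Hom2.comp_assoc, Hom2.inv_comp, Hom2.comp_refl]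
  · rintro ⟨t, m, v, α, β, γ, h₁, h₃, h₂, rfl⟩
    refine ⟨t, m, α, h₁, ?_⟩
    have h := Hom2.res_comp (hγ.of_comp hX h₂) (Hom2.res_inv hX (hβ.of_comp hX h₃))
    rwa [Hom2.comp_assoc, Hom2.comp_inv, Hom2.comp_refl] at h

/-- the open image of a flat and locally finitely presented morphism, with the corestriction -/
theorem exists_image {W X : Scheme.{u}} (m : W ⟶ X) [Flat m] [LocallyOfFinitePresentation m] :
    ∃ (O : X.Opens) (m' : W ⟶ O.toScheme), m' ≫ O.ι = m ∧ Flat m' ∧ LocallyOfFinitePresentation m' ∧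
      Surjective m' ∧ ∀ w, m w ∈ O := by
  let O : X.Opens := ⟨Set.range m, m.isOpenMap.isOpen_range⟩
  let m' : W ⟶ O.toScheme := IsOpenImmersion.lift O.ι m (by rw [Scheme.Opens.range_ι]; rfl)
  have hm' : m' ≫ O.ι = m := IsOpenImmersion.lift_fac _ _ _
  exact ⟨O, m', hm', prop_of_comp_mono @Flat m' O.ι (by rw [hm']; infer_instance),
    prop_of_comp_mono @LocallyOfFinitePresentation m' O.ι (by rw [hm']; infer_instance),
    ⟨fun p => by
      obtain ⟨p', hp'⟩ : O.ι p ∈ Set.range m := p.2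
      exact ⟨p', O.ι.isOpenEmbedding.injective ((congrArg (fun k : W ⟶ X => k p') hm').trans hp')⟩⟩,
    fun w => ⟨w, rfl⟩⟩

variable {M V₀ : Over S} {c : FibCat.overCat M ⥤ᵇ 𝒳} {x₁ : FibCat.overCat V₀ ⥤ᵇ 𝒳}

/-- every chart of the pull back of a chart with a smooth comparison is smooth -/
theorem smooth_of_comparison (hX : FibCat.IsFibGrpd 𝒳.p)
    (hx₁ : RepByAlgSpWith (LocP (@Flat ⊓ @LocallyOfFinitePresentation)) x₁) {Q : Over S} {qM : Q ⟶ M} {qV : Q ⟶ V₀}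
    {θ : Hom2 c x₁ qM qV} (hθ : Liftable θ) [Flat qM.left] [LocallyOfFinitePresentation qM.left]
    [Surjective qM.left] [Smooth qV.left] {T : Over S} {y : FibCat.overCat T ⥤ᵇ 𝒳} {C : Over S} {aC : C ⟶ T}
    {bC : C ⟶ M} {θC : Hom2 y c aC bC} (hC : Liftable θC) : Smooth aC.left := by
  haveI := respectsIso_locP (S := S) (@Flat ⊓ @LocallyOfFinitePresentation)
  obtain ⟨D₁, hD₁⟩ := exists_pairSp hX y (AlgStLib.repByAlgSp1_of_with hx₁)
  have hD₁' := hD₁ _ inferInstance hx₁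
  -- local structure at each point
  have key : ∀ c₀ : C.left, ∃ (R : Over S) (f : R ⟶ T) (CR : Over S) (pC : CR ⟶ C) (pR : CR ⟶ R) (W : Over S)
      (m : W ⟶ CR) (w : W.left), IsPullback pC pR aC f ∧ Flat f.left ∧ LocallyOfFinitePresentation f.left ∧
      Etale m.left ∧ Smooth (m ≫ pR).left ∧ (m ≫ pC).left w = c₀ := by
    intro c₀
    -- a chart of the flat chart through a point over the given one
    let C' := pullback bC qM
    let π₁ : C' ⟶ C := pullback.fst bC qM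
    let π₂ : C' ⟶ Q := pullback.snd bC qM
    have sqC : IsPullback π₁.left π₂.left bC.left qM.left :=
      (IsPullback.of_hasPullback bC qM).map (Over.forget S)
    haveI : Surjective π₁.left := MorphismProperty.of_isPullback (P := @Surjective) sqC.flip ‹_›
    obtain ⟨c', hc'⟩ := π₁.left.surjective c₀
    obtain ⟨α', hα', -⟩ := Hom2.exists_res hX θC π₁ (π₁ ≫ aC) (π₁ ≫ bC) rfl rfl
    obtain ⟨β', hβ', -⟩ := Hom2.exists_res hX θ π₂ (π₁ ≫ bC) (π₂ ≫ qV)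
      (show π₂ ≫ qM = π₁ ≫ bC from pullback.condition.symm) rfl
    obtain ⟨Ψ, -, W₀, l₀, q₀, -, hlq, w₀, hw₀⟩ := D₁.exists_affine_chart hX (α'.comp β') c'
    obtain ⟨hfl, hfp⟩ := Chart.prop_a _ hD₁' Ψ
    -- triangles over the fibre product with the flat chart
    let CR := pullback aC Ψ.a
    let pC : CR ⟶ C := pullback.fst aC Ψ.a
    let pR : CR ⟶ Ψ.C := pullback.snd aC Ψ.a
    obtain ⟨α₀, hα₀, -⟩ := Hom2.exists_res hX θC pC (pR ≫ Ψ.a) (pC ≫ bC) pullback.condition rfl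
    obtain ⟨γ₀, hγ₀, -⟩ := Hom2.exists_res hX Ψ.θ pR (pR ≫ Ψ.a) (pR ≫ Ψ.b) rfl rfl
    obtain ⟨W₁, r₁, m₁, hm₁, hs₁, hu₁⟩ := hθ ((α₀.inv hX).comp γ₀)
    have tri₁ := (sameRes_iff_tri₃ hX hα₀ hγ₀ m₁ r₁).1 hs₁.symm
    -- triangles over the fibre product with the comparison
    let PQ := pullback qV Ψ.b
    let pQ : PQ ⟶ Q := pullback.fst qV Ψ.b
    let pR' : PQ ⟶ Ψ.C := pullback.snd qV Ψ.b
    obtain ⟨β₁, hβ₁, -⟩ := Hom2.exists_res hX θ pQ (pQ ≫ qM) (pR' ≫ Ψ.b) rfl pullback.condition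
    obtain ⟨γ₁, hγ₁, -⟩ := Hom2.exists_res hX Ψ.θ pR' (pR' ≫ Ψ.a) (pR' ≫ Ψ.b) rfl rfl
    obtain ⟨W₂, r₂, m₂, hm₂, hs₂, hu₂⟩ := hC (γ₁.comp (β₁.inv hX))
    have tri₂ := (sameRes_iff_tri₁ hX hγ₁ hβ₁ r₂ m₂).1 hs₂
    -- the two spaces of triangles agree
    have ha₂ : r₂ ≫ aC = (m₂ ≫ pR') ≫ Ψ.a := by
      rw [hs₂.endpoints.1, Category.assoc]
    have hb₁ : r₁ ≫ qV = (m₁ ≫ pR) ≫ Ψ.b := by
      rw [hs₁.endpoints.2, Category.assoc]
    let k₁ : W₁ ⟶ PQ := pullback.lift r₁ (m₁ ≫ pR) hb₁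
    let k₂ : W₂ ⟶ CR := pullback.lift r₂ (m₂ ≫ pR') ha₂
    obtain ⟨d, ⟨hd₁, hd₂⟩, -⟩ := hu₂ (m₁ ≫ pC) k₁ ((sameRes_iff_tri₁ hX hγ₁ hβ₁ _ _).2 (by
      rw [show k₁ ≫ pR' = m₁ ≫ pR from pullback.lift_snd _ _ _, show k₁ ≫ pQ = r₁ from pullback.lift_fst _ _ _]
      exact tri₁))
    obtain ⟨e, ⟨he₁, he₂⟩, -⟩ := hu₁ (m₂ ≫ pQ) k₂ (((sameRes_iff_tri₃ hX hα₀ hγ₀ _ _).2 (by
      rw [show k₂ ≫ pR = m₂ ≫ pR' from pullback.lift_snd _ _ _, show k₂ ≫ pC = r₂ from pullback.lift_fst _ _ _]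
      exact tri₂)).symm)
    have hde : d ≫ e = 𝟙 W₁ := by
      refine (hu₁ r₁ m₁ hs₁).unique ⟨?_, ?_⟩ ⟨Category.id_comp _, Category.id_comp _⟩
      · rw [Category.assoc, he₁, ← Category.assoc, hd₂]
        exact pullback.lift_fst _ _ _
      · rw [Category.assoc, he₂]
        refine pullback.hom_ext ?_ ?_
        · rw [Category.assoc]
          exact (congrArg (d ≫ ·) (pullback.lift_fst _ _ _)).trans hd₁
        · rw [Category.assoc]
          refine (congrArg (d ≫ ·) (pullback.lift_snd _ _ _)).trans ?_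
          rw [← Category.assoc, hd₂]
          exact pullback.lift_snd _ _ _
    have hed : e ≫ d = 𝟙 W₂ := by
      refine (hu₂ r₂ m₂ hs₂).unique ⟨?_, ?_⟩ ⟨Category.id_comp _, Category.id_comp _⟩
      · rw [Category.assoc, hd₁, ← Category.assoc, he₂]
        exact pullback.lift_fst _ _ _
      · rw [Category.assoc, hd₂]
        refine pullback.hom_ext ?_ ?_
        · rw [Category.assoc]
          exact (congrArg (e ≫ ·) (pullback.lift_fst _ _ _)).trans he₁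
        · rw [Category.assoc]
          refine (congrArg (e ≫ ·) (pullback.lift_snd _ _ _)).trans ?_
          rw [← Category.assoc, he₂]
          exact pullback.lift_snd _ _ _
    haveI : IsIso d := (Iso.mk d e hde hed).isIso_hom
    haveI : IsIso d.left := inferInstanceAs (IsIso ((Over.forget S).map d))
    have sqQ : IsPullback pQ.left pR'.left qV.left Ψ.b.left :=
      (IsPullback.of_hasPullback qV Ψ.b).map (Over.forget S)
    haveI : Smooth pR'.left := MorphismProperty.of_isPullback (P := @Smooth) sqQ ‹_›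
    have hsm : Smooth (m₁ ≫ pR).left := by
      have e₁ : m₁ ≫ pR = d ≫ m₂ ≫ pR' := by
        rw [← Category.assoc, hd₂]
        exact (pullback.lift_snd _ _ _).symm
      haveI := hm₂
      rw [e₁]
      exact inferInstanceAs (Smooth (d.left ≫ m₂.left ≫ pR'.left))
    -- the point lifts
    have hl₀ := hlq.endpoints
    let k₀ : W₀ ⟶ CR := pullback.lift (q₀ ≫ π₁) l₀ (by rw [Category.assoc]; exact hl₀.1.symm)
    have hk₁ : k₀ ≫ pC = q₀ ≫ π₁ := pullback.lift_fst _ _ _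
    have hk₂ : k₀ ≫ pR = l₀ := pullback.lift_snd _ _ _
    have tri₀ : Tri (q₀ ≫ π₁) l₀ (q₀ ≫ π₂) θC Ψ.θ θ := by
      obtain ⟨t, v, χ, h₁, h₂⟩ := hlq
      obtain ⟨α, hα, -⟩ := Hom2.exists_res hX α' q₀ t (q₀ ≫ π₁ ≫ bC) h₂.1 rfl
      obtain ⟨β, hβ, -⟩ := Hom2.exists_res hX β' q₀ (q₀ ≫ π₁ ≫ bC) v rfl h₂.2.1
      exact ⟨t, _, v, α, β, χ, hα'.trans hα, hβ'.trans hβ, h₁, (Hom2.res_comp hα hβ).unique hX h₂⟩
    obtain ⟨w', ⟨-, hw'⟩, -⟩ := hu₁ (q₀ ≫ π₂) k₀ (((sameRes_iff_tri₃ hX hα₀ hγ₀ _ _).2 (by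
      rw [hk₁, hk₂]; exact tri₀)).symm)
    refine ⟨Ψ.C, Ψ.a, CR, pC, pR, W₁, m₁, w'.left w₀, IsPullback.of_hasPullback _ _, hfl, hfp, hm₁, hsm, ?_⟩
    have e₀ : w' ≫ m₁ ≫ pC = q₀ ≫ π₁ := by rw [← Category.assoc, hw', hk₁]
    rw [← hc', ← hw₀]
    exact congrArg (fun k : W₀ ⟶ C => k.left w₀) e₀
  -- locally of finite presentation
  haveI hlfp : LocallyOfFinitePresentation aC.left := by
    choose R f CR pC pR W m w sq hfl hfp hm hsm hw using key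
    have h₁ : ∀ c₀, Flat (m c₀ ≫ pC c₀).left ∧ LocallyOfFinitePresentation (m c₀ ≫ pC c₀).left ∧
        LocallyOfFinitePresentation ((m c₀ ≫ pC c₀).left ≫ aC.left) := by
      intro c₀
      haveI := hfl c₀
      haveI := hfp c₀
      haveI := hm c₀
      haveI := hsm c₀
      have sq' := (sq c₀).map (Over.forget S)
      haveI : Flat (pC c₀).left := MorphismProperty.of_isPullback (P := @Flat) sq'.flip ‹_›
      haveI : LocallyOfFinitePresentation (pC c₀).left :=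
        MorphismProperty.of_isPullback (P := @LocallyOfFinitePresentation) sq'.flip ‹_›
      refine ⟨inferInstanceAs (Flat ((m c₀).left ≫ (pC c₀).left)),
        inferInstanceAs (LocallyOfFinitePresentation ((m c₀).left ≫ (pC c₀).left)), ?_⟩
      rw [← Over.comp_left, Category.assoc, (sq c₀).w, ← Category.assoc]
      exact inferInstanceAs (LocallyOfFinitePresentation ((m c₀ ≫ pR c₀).left ≫ (f c₀).left))
    have h₂ : ∀ c₀, ∃ O : C.left.Opens, c₀ ∈ O ∧ LocallyOfFinitePresentation (O.ι ≫ aC.left) := by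
      intro c₀
      obtain ⟨hA, hB, hC⟩ := h₁ c₀
      obtain ⟨O, m', hm', _, _, _, hmem⟩ := exists_image (m c₀ ≫ pC c₀).left
      refine ⟨O, hw c₀ ▸ hmem (w c₀), ?_⟩
      haveI : LocallyOfFinitePresentation (m' ≫ O.ι ≫ aC.left) := by rw [reassoc_of% hm']; exact hC
      exact FppfSource.lfp m' _
    choose O hO hOlfp using h₂
    rw [IsZariskiLocalAtSource.iff_of_iSup_eq_top (P := @LocallyOfFinitePresentation) O
      (eq_top_iff.2 fun p _ => TopologicalSpace.Opens.mem_iSup.2 ⟨p, hO p⟩)]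
    exact hOlfp
  rw [← Scheme.Hom.smoothLocus_eq_top_iff]
  refine eq_top_iff.2 fun c₀ _ => ?_
  obtain ⟨R, f, CR, pC, pR, W, m, w, sq, hfl, hfp, hm, hsm, hw⟩ := key c₀
  have sq' := sq.map (Over.forget S)
  haveI := hfl
  haveI := hfp
  haveI := hm
  haveI : LocallyOfFinitePresentation pR.left :=
    MorphismProperty.of_isPullback (P := @LocallyOfFinitePresentation) sq' hlfp
  obtain ⟨O, m', hm', _, _, _, hmem⟩ := exists_image m.left
  haveI : Smooth (m' ≫ O.ι ≫ pR.left) := by rw [reassoc_of% hm']; exact hsm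
  haveI := FppfSource.smooth m' (O.ι ≫ pR.left)
  rw [← hw]
  have sq'' : IsPullback pC.left pR.left aC.left f.left := sq'
  exact SmDesc.mem_smoothLocus_of_isPullback sq'' (SmDesc.mem_smoothLocus_of_smooth_ι pR.left (hmem w))

/-- a chart with a smooth comparison to a flat chart is smooth -/
theorem repWith_smooth_of_comparison (hX : FibCat.IsFibGrpd 𝒳.p) (hc : RepByAlgSp1 c)
    (hx₁ : RepByAlgSpWith (LocP (@Flat ⊓ @LocallyOfFinitePresentation)) x₁) {Q : Over S} {qM : Q ⟶ M} {qV : Q ⟶ V₀}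
    {θ : Hom2 c x₁ qM qV} (hθ : Liftable θ) [Flat qM.left] [LocallyOfFinitePresentation qM.left]
    [Surjective qM.left] [Smooth qV.left] : RepByAlgSpWith (LocP @Smooth) c :=
  repWith_locP_of_charts etST_smooth hX hc fun _ _ _ Φ => smooth_of_comparison hX hx₁ hθ (Chart.liftable hX Φ)

end Groth.Agent.ArtinAtlas

end
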