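import Groth.Agent.ArtinAtlas.Frame
import Groth.Agent.ArtinAtlas.Point

/-!
# The germ of the construction at a geometric point
-/

set_option autoImplicit false
set_option backward.isDefEq.respectTransparency false
set_option backward.isDefEq.respectTransparency.types false
set_option linter.style.haveILetI false
universe v₂ u₂ u

noncomputable section

namespace Groth.Agent.ArtinAtlas

open CategoryTheory CategoryTheory.Limits AlgebraicGeometry CommRingCat Opposite Groth.Agent.AlgSpLib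
open _root_.AlgSp _root_.AlgSt

variable {S : Scheme.{u}}

theorem respectsIso_locP (P : MorphismProperty Scheme.{u}) [P.RespectsIso] : (LocP (S := S) P).RespectsIso := by
  apply MorphismProperty.RespectsIso.of_respects_arrow_iso
  intro p q e hp U V a b h ha hb comm
  have w : e.inv.left ≫ p.hom = q.hom ≫ e.inv.right := e.inv.w
  exact hp (a ≫ e.inv.left) (b ≫ e.inv.right) h ((repWith_comp_iso_iff a e.inv.left).2 ha)
    ((repWith_comp_iso_iff b e.inv.right).2 hb) (by rw [Category.assoc, w, reassoc_of% comm])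

variable {𝒳 : BasedCategory.{v₂, u₂} (Over S)}

/-- the first point of a chart is as good as the representable chart -/
theorem Chart.prop_a {U₁ U₂ : Over S} {x : FibCat.overCat U₁ ⥤ᵇ 𝒳} {y : FibCat.overCat U₂ ⥤ᵇ 𝒳} {D : PairSp x y}
    (P : MorphismProperty Scheme.{u}) (hD : LocP P D.pr₁) (Φ : Chart D) : P Φ.a.left := by
  refine hD Φ.p (𝟙 _) Φ.a Φ.etale (repWith_id _ _) (sec_injective ?_)
  rw [sec_map, Category.comp_id]
  refine (ULift.ext _ _ ((D.pr₁_eq Φ.cl).trans ?_) : _ = (sec ((yon S).map Φ.a) : ULift.{u + 1} (Φ.C ⟶ U₁)))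
  exact (Category.id_comp Φ.a).symm

/-- liftability restricts to open subschemes -/
theorem Liftable.of_openImmersion {U₁ U₂ : Over S} {x : FibCat.overCat U₁ ⥤ᵇ 𝒳} {y : FibCat.overCat U₂ ⥤ᵇ 𝒳}
    (hX : FibCat.IsFibGrpd 𝒳.p) {C C' : Over S} {a : C ⟶ U₁} {b : C ⟶ U₂} {θ : Hom2 x y a b}
    (h : Liftable θ) (i : C' ⟶ C) [IsOpenImmersion i.left] {a' : C' ⟶ U₁} {b' : C' ⟶ U₂} {θ' : Hom2 x y a' b'}
    (hθ : Hom2.Res i θ θ') : Liftable θ' := by
  intro T a'' b'' η
  obtain ⟨W, l, q, hq, hlq, hu⟩ := h η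
  let O : W.left.Opens := l.left ⁻¹ᵁ i.left.opensRange
  let W' : Over S := Over.mk (O.ι ≫ W.hom)
  let o : W' ⟶ W := Over.homMk O.ι
  have hr : Set.range (O.ι ≫ l.left) ⊆ Set.range i.left := by
    rintro _ ⟨z, rfl⟩
    exact z.2
  let l' : W' ⟶ C' := Over.homMk (IsOpenImmersion.lift i.left (O.ι ≫ l.left) hr) (by
    show IsOpenImmersion.lift i.left (O.ι ≫ l.left) hr ≫ C'.hom = O.ι ≫ W.hom
    rw [← Over.w i, IsOpenImmersion.lift_fac_assoc, Category.assoc, Over.w l])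
  have hl' : l' ≫ i = o ≫ l := Over.OverMorphism.ext (IsOpenImmersion.lift_fac _ _ _)
  haveI : Mono i := (Over.forget S).mono_of_mono_map (inferInstanceAs (Mono i.left))
  have key : ∀ {T' : Over S} (c : T' ⟶ C') (g : T' ⟶ T),
      SameRes x y c g θ' η ↔ SameRes x y (c ≫ i) g θ η := by
    intro T' c g
    refine ⟨fun ⟨_, _, χ, h₁, h₂⟩ => ⟨_, _, χ, hθ.trans h₁, h₂⟩, fun ⟨p, r, χ, h₁, h₂⟩ => ⟨p, r, χ, ?_, h₂⟩⟩
    obtain ⟨χ', hχ', -⟩ := Hom2.exists_res hX θ' c p r (by rw [← hθ.1, ← Category.assoc, h₁.1])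
      (by rw [← hθ.2.1, ← Category.assoc, h₁.2.1])
    obtain rfl := (hθ.trans hχ').unique hX h₁
    exact hχ'
  refine ⟨W', l', o ≫ q, ?_, (key _ _).2 (by rw [hl']; exact hlq.precomp hX o), ?_⟩
  · haveI : Etale q.left := hq
    exact inferInstanceAs (Etale (O.ι ≫ q.left))
  intro T' c g hc
  obtain ⟨w, ⟨h₁, h₂⟩, huw⟩ := hu _ _ ((key c g).1 hc)
  have hw : Set.range w.left ⊆ Set.range O.ι := by
    rintro _ ⟨z, rfl⟩
    rw [Scheme.Opens.range_ι]
    show l.left (w.left z) ∈ Set.range i.left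
    exact ⟨c.left z, by
      rw [← Scheme.Hom.comp_apply, ← Scheme.Hom.comp_apply]
      exact congrArg (fun k : T' ⟶ C => k.left z) h₁.symm⟩
  let w' : T' ⟶ W' := Over.homMk (IsOpenImmersion.lift O.ι w.left hw) (by
    show IsOpenImmersion.lift O.ι w.left hw ≫ O.ι ≫ W.hom = T'.hom
    rw [IsOpenImmersion.lift_fac_assoc, Over.w w])
  have hw' : w' ≫ o = w := Over.OverMorphism.ext (IsOpenImmersion.lift_fac _ _ _)
  haveI : Mono o := (Over.forget S).mono_of_mono_map (inferInstanceAs (Mono O.ι))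
  refine ⟨w', ⟨?_, by rw [← Category.assoc, hw', h₂]⟩, fun v hv => ?_⟩
  · rw [← cancel_mono i, Category.assoc, hl', ← Category.assoc, hw', h₁]
  · rw [← cancel_mono o, hw']
    refine huw (v ≫ o) ⟨?_, ?_⟩
    · rw [Category.assoc, ← hl', ← Category.assoc, hv.1]
    · rw [Category.assoc, hv.2]

variable {R₀ A : Type u} [CommRing R₀] [CommRing A] [Algebra R₀ A] {j : Spec (CommRingCat.of R₀) ⟶ S}
  {x₁ : FibCat.overCat (ovR j (algebraMap R₀ A)) ⥤ᵇ 𝒳}

/-- a flat chart of the self-isomorphisms with a point over a given geometric point -/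
theorem exists_fr_chart [Mono j] (hX : FibCat.IsFibGrpd 𝒳.p)
    (hx₁ : RepByAlgSpWith (LocP (@Flat ⊓ @LocallyOfFinitePresentation)) x₁) {k : Type u} [Field k] (str₀ : A →+* k) :
    ∃ (P : Type u) (_ : CommRing P) (_ : Algebra A P) (bP : A →+* P)
      (hab : bP.comp (algebraMap R₀ A) = (algebraMap A P).comp (algebraMap R₀ A))
      (θP : Hom2 x₁ x₁ (pA j A P) (pB j hab)),
      Liftable θP ∧ Algebra.FinitePresentation A P ∧ Module.Flat A P ∧
        (haveI : (RingHom.ker str₀).IsPrime := RingHom.ker_isPrime str₀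
        Nontrivial ((RingHom.ker str₀).Fiber P)) := by
  haveI := respectsIso_locP (S := S) (@Flat ⊓ @LocallyOfFinitePresentation)
  obtain ⟨D, hD⟩ := exists_pairSp hX x₁ (AlgStLib.repByAlgSp1_of_with hx₁)
  have hD' := hD _ inferInstance hx₁
  let z₀ : ↥(ovR j (str₀.comp (algebraMap R₀ A))).left := (⟨⊥, Ideal.isPrime_bot⟩ : PrimeSpectrum k)
  let η := Hom2.refl (x := x₁) (ovMap (j := j) (σ := algebraMap R₀ A) str₀ rfl)
  obtain ⟨Φ, hΦ, W, l, q, hq, hlq, w, hw⟩ := D.exists_affine_chart hX η z₀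
  haveI := hΦ
  obtain ⟨P, _, f, e, he⟩ := exists_ovR_iso (j := j) Φ.a
  letI : Algebra A P := f.toAlgebra
  obtain ⟨bP, hab, hb⟩ := exists_ovMap (j := j) (σ := algebraMap R₀ A) (σ' := f.comp (algebraMap R₀ A)) (e.hom ≫ Φ.b)
  obtain ⟨θP, hθP, -⟩ := Hom2.exists_res hX Φ.θ e.hom (pA j A P) (pB j hab) he hb
  obtain ⟨hfl, hfp⟩ := Φ.prop_a _ hD'
  have hf : Spec.map (ofHom f) = e.hom.left ≫ Φ.a.left := (congrArg Over.Hom.left he).symm
  haveI : IsIso e.hom.left := inferInstanceAs (IsIso ((Over.forget S).map e.hom))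
  haveI : Flat Φ.a.left := hfl
  haveI : LocallyOfFinitePresentation Φ.a.left := hfp
  refine ⟨P, inferInstance, inferInstance, bP, hab, θP, Liftable.of_iso hX (Chart.liftable hX Φ) e hθP, ?_, ?_, ?_⟩
  · have h : LocallyOfFinitePresentation (Spec.map (ofHom f)) := by rw [hf]; infer_instance
    exact (HasRingHomProperty.Spec_iff (P := @LocallyOfFinitePresentation)).1 h
  · have h : Flat (Spec.map (ofHom f)) := by rw [hf]; infer_instance
    exact (HasRingHomProperty.Spec_iff (P := @Flat)).1 h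
  · haveI : (RingHom.ker str₀).IsPrime := RingHom.ker_isPrime str₀
    let Q : PrimeSpectrum P := e.inv.left (l.left w)
    have h1 : l.left ≫ Φ.a.left = q.left ≫ Spec.map (ofHom str₀) := congrArg Over.Hom.left hlq.endpoints.1
    have h2 : e.inv.left ≫ Spec.map (ofHom f) = Φ.a.left := by
      rw [hf, ← Category.assoc, show e.inv.left ≫ e.hom.left = 𝟙 _ from congrArg Over.Hom.left e.inv_hom_id,
        Category.id_comp]
    have h3 : PrimeSpectrum.comap f Q = PrimeSpectrum.comap str₀ ⟨⊥, Ideal.isPrime_bot⟩ := by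
      show Spec.map (ofHom f) (e.inv.left (l.left w)) = Spec.map (ofHom str₀) z₀
      have h4 : l.left ≫ e.inv.left ≫ Spec.map (ofHom f) = q.left ≫ Spec.map (ofHom str₀) := by rw [h2, h1]
      rw [← hw]
      exact congrArg (fun m : W.left ⟶ Spec (CommRingCat.of A) => m w) h4
    haveI : Q.asIdeal.LiesOver (RingHom.ker str₀) :=
      ⟨((congrArg PrimeSpectrum.asIdeal h3).trans rfl).symm⟩
    haveI : Nonempty (PrimeSpectrum ((RingHom.ker str₀).Fiber P)) :=
      ⟨PrimeSpectrum.primesOverOrderIsoFiber A P (RingHom.ker str₀) ⟨Q.asIdeal, Q.isPrime, inferInstance⟩⟩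
    exact PrimeSpectrum.nonempty_iff_nontrivial.1 inferInstance

/-- a chart of self-isomorphisms with a finite complete intersection point, and a comparison chart -/
structure Germ (x₁ : FibCat.overCat (ovR j (algebraMap R₀ A)) ⥤ᵇ 𝒳) (hX : FibCat.IsFibGrpd 𝒳.p) {k : Type u}
    [Field k] (str₀ : A →+* k) where
  /-- the chart -/
  P : Type u
  [ringP : CommRing P]
  [algP : Algebra A P]
  bP : A →+* P
  hab : bP.comp (algebraMap R₀ A) = (algebraMap A P).comp (algebraMap R₀ A)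
  θP : Hom2 x₁ x₁ (pA j A P) (pB j hab)
  liftP : Liftable θP
  fpP : Algebra.FinitePresentation A P
  flatP : Module.Flat A P
  fs : List P
  regular : RingTheory.Sequence.IsWeaklyRegular P fs
  flatQuot : ∀ i ≤ fs.length, Module.Flat A (P ⧸ Ideal.ofList (fs.take i))
  /-- the rank -/
  n : ℕ
  hn : 0 < n
  /-- the table -/
  t : Tab (Fin n) k
  /-- the point -/
  φ : P →+* t.Alg
  φA : φ.comp (algebraMap A P) = (algebraMap k t.Alg).comp str₀
  pb : Fin n → P
  hpb : ∀ i, φ (pb i) = t.basis i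
  hfs : ∀ f ∈ fs, φ f = 0
  hker : letI := str₀.toAlgebra; ∀ Ψ : TensorProduct A k P →+* t.Alg, (∀ a x, Ψ (a ⊗ₜ x) = a • φ x) →
    RingHom.ker Ψ ≤ RingHom.ker Ψ * RingHom.ker Ψ ⊔ (Ideal.ofList fs).map
      (Algebra.TensorProduct.includeRight : P →ₐ[A] TensorProduct A k P).toRingHom
  nontrivial : Nontrivial t.Alg
  loc : t.Loc
  /-- the comparison chart -/
  C₂ : Type u
  [ringC : CommRing C₂]
  a₂ : A →+* C₂
  b₂ : A →+* C₂
  hab₂ : b₂.comp (algebraMap R₀ A) = a₂.comp (algebraMap R₀ A)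
  θ₂ : Hom2 x₁ x₁ (cA j (a₂ := a₂)) (cB j hab₂)
  lift₂ : Liftable θ₂
  /-- the comparison -/
  g : C₂ →+* (t.sq t).Alg
  g_a : g.comp a₂ = (t.inl t).toRingHom.comp (φ.comp bP)
  g_b : g.comp b₂ = (t.inr t).toRingHom.comp (φ.comp bP)
  lifts : Fr.Lifts hX θP θ₂
    (⟨t, φ.comp bP, (⟨str₀, rfl, φ, φA⟩ : Fr A P (str₀.comp (algebraMap R₀ A)) t).w_comm hab, g, g_a, g_b⟩ :
      Dat (Fin n) a₂ b₂ (str₀.comp (algebraMap R₀ A))) ⟨str₀, rfl, φ, φA⟩

attribute [instance] Germ.ringP Germ.algP Germ.ringC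

/-- germs exist at every geometric point -/
theorem exists_germ [Mono j] (hX : FibCat.IsFibGrpd 𝒳.p)
    (hx₁ : RepByAlgSpWith (LocP (@Flat ⊓ @LocallyOfFinitePresentation)) x₁) {k : Type u} [Field k] [IsAlgClosed k]
    (str₀ : A →+* k) : Nonempty (Germ x₁ hX str₀) := by
  classical
  obtain ⟨P₀, _, _, bP₀, hab₀, θP₀, hL₀, hfp₀, hfl₀, hnt⟩ := exists_fr_chart hX hx₁ str₀
  haveI : (RingHom.ker str₀).IsPrime := RingHom.ker_isPrime str₀
  haveI := hnt
  obtain ⟨g, fs, hreg, hflq, hntq, hfin⟩ := exists_ci_chart (P := P₀) (RingHom.ker str₀)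
  haveI := hntq
  haveI := hfin
  let P := Localization.Away g
  have eA : algebraMap A P = (algebraMap P₀ P).comp (algebraMap A P₀) := IsScalarTower.algebraMap_eq A P₀ P
  let bP : A →+* P := (algebraMap P₀ P).comp bP₀
  have hab : bP.comp (algebraMap R₀ A) = (algebraMap A P).comp (algebraMap R₀ A) := by
    rw [eA, RingHom.comp_assoc, RingHom.comp_assoc, hab₀]
  let i : ovR j ((algebraMap A P).comp (algebraMap R₀ A)) ⟶ ovR j ((algebraMap A P₀).comp (algebraMap R₀ A)) :=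
    ovMap (algebraMap P₀ P) (by rw [eA, RingHom.comp_assoc])
  haveI : IsOpenImmersion i.left := IsOpenImmersion.of_isLocalization g (R := P₀) (S := P)
  obtain ⟨θP, hθP, -⟩ := Hom2.exists_res hX θP₀ i (pA j A P) (pB j hab)
    ((ovMap_comp _ _ _ _).trans (ovMap_congr _ eA.symm)) ((ovMap_comp _ _ _ _).trans rfl)
  have hLP : Liftable θP := hL₀.of_openImmersion hX i hθP
  haveI : Algebra.FinitePresentation P₀ P := IsLocalization.Away.finitePresentation g
  haveI hfpP : Algebra.FinitePresentation A P := Algebra.FinitePresentation.trans A P₀ P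
  haveI : Module.Flat P₀ P := IsLocalization.flat P (Submonoid.powers g)
  haveI hflP : Module.Flat A P := Module.Flat.trans A P₀ P
  letI : Algebra A k := str₀.toAlgebra
  obtain ⟨n, t, φ, pb, hn, hφ, hpb, hfs, hker, hnA, hloc⟩ :=
    exists_table_point fs (RingHom.ker str₀) k rfl
  haveI : Nonempty (Fin n) := ⟨⟨0, hn⟩⟩
  let p : Fr A P (str₀.comp (algebraMap R₀ A)) t := ⟨str₀, rfl, φ, RingHom.ext hφ⟩
  -- the comparison chart
  haveI := respectsIso_locP (S := S) (@Flat ⊓ @LocallyOfFinitePresentation)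
  obtain ⟨D, -⟩ := exists_pairSp hX x₁ (AlgStLib.repByAlgSp1_of_with hx₁)
  haveI : Nontrivial (t.sq t).Alg := Tab.nontrivial_alg _
  let T₂ : Over S := spT j (str₀.comp (algebraMap R₀ A)) (t.sq t)
  let s₀ : ↥T₂.left := (Classical.arbitrary (PrimeSpectrum (t.sq t).Alg) : PrimeSpectrum (t.sq t).Alg)
  obtain ⟨Φ, hΦ, W, l, q, hq, hlq, w, hw⟩ := D.exists_affine_chart hX (p.η hX θP) s₀
  obtain ⟨V, hV, hwV, -⟩ := exists_isAffineOpen_mem_and_subset (X := W.left) (x := w) (U := ⊤) trivial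
  let W₀ : Over S := Over.mk (V.ι ≫ W.hom)
  let iV : W₀ ⟶ W := Over.homMk V.ι
  haveI : IsAffine W₀.left := hV
  obtain ⟨C, _, f, e, he⟩ := exists_ovR_iso (j := j) (iV ≫ q)
  haveI : IsIso e.hom.left := inferInstanceAs (IsIso ((Over.forget S).map e.hom))
  have hfe : f.Etale := by
    haveI := hq
    haveI : Etale iV.left := inferInstanceAs (Etale V.ι)
    have h1 : Spec.map (ofHom f) = e.hom.left ≫ iV.left ≫ q.left := (congrArg Over.Hom.left he).symm
    have h : Etale (Spec.map (ofHom f)) := by rw [h1]; infer_instance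
    exact (HasRingHomProperty.Spec_iff (P := @Etale)).1 h
  haveI : Nonempty (PrimeSpectrum C) := ⟨e.inv.left ⟨w, hwV⟩⟩
  haveI : Nontrivial C := PrimeSpectrum.nonempty_iff_nontrivial.1 inferInstance
  obtain ⟨s, hs⟩ := Tab.Loc.exists_section (Tab.Loc.sq hloc hloc) f hfe
  let m : T₂ ⟶ W := ovMap s (by rw [← RingHom.comp_assoc, hs, RingHom.id_comp]) ≫ e.hom ≫ iV
  have hm : m ≫ q = 𝟙 T₂ := by
    simp only [m, Category.assoc]
    rw [he, ovMap_comp]
    exact Over.OverMorphism.ext ((congrArg (fun r => Spec.map (ofHom r)) hs).trans (Spec.map_id _))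
  have hlk := hlq.precomp hX m
  rw [hm] at hlk
  haveI := hΦ
  obtain ⟨C₂, _, a₂, e₂, he₂⟩ := exists_ovR_iso (j := j) Φ.a
  obtain ⟨b₂, hab₂, hb₂⟩ := exists_ovMap (j := j) (σ := algebraMap R₀ A) (σ' := a₂.comp (algebraMap R₀ A)) (e₂.hom ≫ Φ.b)
  obtain ⟨θ₂, hθ₂, -⟩ := Hom2.exists_res hX Φ.θ e₂.hom (cA j (a₂ := a₂)) (cB j hab₂) he₂ hb₂
  obtain ⟨gd, hgd, hgd'⟩ := exists_ovMap (j := j) ((m ≫ l) ≫ e₂.inv)
  have hge : ovMap gd hgd ≫ e₂.hom = m ≫ l := by
    rw [← hgd', Category.assoc, e₂.inv_hom_id, Category.comp_id]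
  obtain ⟨ea, eb⟩ := hlk.endpoints
  rw [← hge, Category.assoc, he₂, Category.id_comp, ← p.φbar_pB, ovMap_comp, ovMap_comp, ovMap_comp] at ea
  rw [← hge, Category.assoc, hb₂, Category.id_comp, ← p.φbar_pB, ovMap_comp, ovMap_comp, ovMap_comp] at eb
  let d : Dat (Fin n) a₂ b₂ (str₀.comp (algebraMap R₀ A)) :=
    ⟨t, φ.comp bP, p.w_comm hab, gd, ovMap_injective ea, ovMap_injective eb⟩
  refine ⟨⟨P, bP, hab, θP, hLP, hfpP, hflP, fs, hreg, hflq, n, hn, t, φ, RingHom.ext hφ, pb, hpb, hfs, hker, hnA,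
    hloc, C₂, a₂, b₂, hab₂, θ₂, Liftable.of_iso hX (Chart.liftable hX Φ) e₂ hθ₂, gd, d.g_a, d.g_b, rfl, ?_⟩⟩
  · obtain ⟨a, b, χ, r₁, r₂⟩ := hlk
    obtain ⟨χ', hχ', -⟩ := Hom2.exists_res hX θ₂ (d.gbar j) a b
      (((congrArg (d.gbar j ≫ ·) he₂).symm.trans (Category.assoc _ _ _).symm).trans
        ((congrArg (· ≫ Φ.a) hge).trans r₁.1))
      (((congrArg (d.gbar j ≫ ·) hb₂).symm.trans (Category.assoc _ _ _).symm).trans
        ((congrArg (· ≫ Φ.b) hge).trans r₁.2.1))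
    have r := hθ₂.trans hχ'
    rw [show d.gbar j ≫ e₂.hom = m ≫ l from hge] at r
    obtain rfl := r.unique hX r₁
    exact ⟨a, b, χ', hχ', r₂⟩

end Groth.Agent.ArtinAtlas

end
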