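import Groth.Agent.ArtinAtlas.Tab

/-!
# Universal tables and Weil restriction along tables
-/

set_option autoImplicit false
set_option linter.style.haveILetI false

universe u

open MvPolynomial

noncomputable section

namespace Groth.Agent.ArtinAtlas

variable (ι : Type) [Fintype ι] [DecidableEq ι] (R : Type u) [CommRing R]

section tables

/-- variables of the universal table -/
abbrev TabVar := (ι × ι × ι) ⊕ ι

/-- equations of the universal table -/
def tabRel : Set (MvPolynomial (TabVar ι) R) :=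
  (Set.range fun p : ι × ι × ι => X (.inl p) - X (.inl (p.2.1, p.1, p.2.2))) ∪
  (Set.range fun p : ι × ι × ι × ι => ∑ m, X (.inl (p.1, p.2.1, m)) * X (.inl (m, p.2.2.1, p.2.2.2)) -
      ∑ m, X (.inl (p.2.1, p.2.2.1, m)) * X (.inl (p.1, m, p.2.2.2))) ∪
  (Set.range fun p : ι × ι => ∑ m, X (.inr m) * X (.inl (m, p.1, p.2)) - if p.1 = p.2 then 1 else 0)

theorem finite_tabRel : (tabRel ι R).Finite :=
  ((Set.finite_range _).union (Set.finite_range _)).union (Set.finite_range _)

/-- the base of the universal table -/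
abbrev TabRing : Type u := MvPolynomial (TabVar ι) R ⧸ Ideal.span (tabRel ι R)

/-- the class of a variable -/
def tabX (v : TabVar ι) : TabRing ι R := Ideal.Quotient.mk _ (X v)

theorem mk_rel_eq_zero {p : MvPolynomial (TabVar ι) R} (h : p ∈ tabRel ι R) :
    Ideal.Quotient.mk (Ideal.span (tabRel ι R)) p = 0 :=
  Ideal.Quotient.eq_zero_iff_mem.2 (Ideal.subset_span h)

/-- the universal table -/
def univTab : Tab ι (TabRing ι R) where
  c i j k := tabX ι R (.inl (i, j, k))
  one i := tabX ι R (.inr i)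
  comm i j k := by
    have := mk_rel_eq_zero ι R (Or.inl (Or.inl ⟨(i, j, k), rfl⟩))
    rw [map_sub, sub_eq_zero] at this
    exact this
  assoc i j k l := by
    have := mk_rel_eq_zero ι R (Or.inl (Or.inr ⟨(i, j, k, l), rfl⟩))
    rw [map_sub, sub_eq_zero, map_sum, map_sum] at this
    simp only [map_mul] at this
    exact this
  one_mul i l := by
    have := mk_rel_eq_zero ι R (Or.inr ⟨(i, l), rfl⟩)
    rw [map_sub, sub_eq_zero, map_sum] at this
    simp only [map_mul] at this
    refine this.trans ?_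
    split_ifs <;> simp

theorem existsUnique_tab {T : Type u} [CommRing T] [Algebra R T] (t : Tab ι T) :
    ∃! f : TabRing ι R →ₐ[R] T, (univTab ι R).map f.toRingHom = t := by
  let v : TabVar ι → T := Sum.elim (fun p => t.c p.1 p.2.1 p.2.2) t.one
  have h : ∀ p ∈ Ideal.span (tabRel ι R), aeval v p = 0 := fun p hp => by
    refine (Ideal.span_le.2 ?_ : Ideal.span (tabRel ι R) ≤ RingHom.ker (aeval (R := R) v)) hp
    rintro q ((⟨p, rfl⟩ | ⟨p, rfl⟩) | ⟨p, rfl⟩) <;>
      simp only [SetLike.mem_coe, RingHom.mem_ker, map_sub, map_sum, map_mul, aeval_X, v, Sum.elim_inl,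
        Sum.elim_inr, sub_eq_zero]
    · exact t.comm _ _ _
    · exact t.assoc _ _ _ _
    · refine (t.one_mul _ _).trans ?_
      split_ifs <;> simp
  have he : ∀ x, Ideal.Quotient.liftₐ _ (aeval v) h (tabX ι R x) = v x := fun x => aeval_X v x
  refine ⟨Ideal.Quotient.liftₐ _ (aeval v) h, Tab.ext (funext fun i => funext fun j => funext fun k => ?_)
    (funext fun i => ?_), fun f hf => ?_⟩
  · exact he _
  · exact he _
  · refine Ideal.Quotient.algHom_ext _ (MvPolynomial.algHom_ext fun x => ?_)
    show f (tabX ι R x) = _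
    refine Eq.trans ?_ (he x).symm
    subst hf
    rcases x with ⟨i, j, k⟩ | i <;> rfl

instance : Algebra.FinitePresentation R (TabRing ι R) :=
  Algebra.FinitePresentation.quotient ⟨(finite_tabRel ι R).toFinset, by simp⟩

end tables

variable {ι} {R} {U : Type u} [CommRing U] [Algebra R U] (t : Tab ι U)

/-- the defining property of a Weil restriction along a table -/
def IsWRes {C : Type u} [CommRing C] [Algebra R C] (S : Set (C × t.Alg)) {U' : Type u} [CommRing U'] [Algebra U U']
    (F : C →+* (t.map (algebraMap U U')).Alg) : Prop :=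
  (∀ r, F (algebraMap R C r) = algebraMap U' _ (algebraMap U U' (algebraMap R U r))) ∧
  (∀ p ∈ S, F p.1 = t.mapHom (algebraMap U U') p.2) ∧
  ∀ (T : Type u) [CommRing T] (g : U →+* T) (tT : Tab ι T) (hg : t.map g = tT) (ψ : C →+* tT.Alg),
    (∀ r, ψ (algebraMap R C r) = algebraMap T _ (g (algebraMap R U r))) →
    (∀ p ∈ S, ψ p.1 = Tab.hom g hg p.2) →
    ∃! g' : U' →+* T, g'.comp (algebraMap U U') = g ∧
      ∀ c i, g' ((t.map (algebraMap U U')).coord (F c) i) = tT.coord (ψ c) i

theorem exists_wres_aux {C : Type u} [CommRing C] [Algebra R C] (S : Set (C × t.Alg)) (σ : Type u)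
    (p : MvPolynomial σ R →ₐ[R] C) (hp : Function.Surjective p) (K : Set (MvPolynomial σ R))
    (hK : Ideal.span K = RingHom.ker p.toRingHom) :
    ∃ (U' : Type u) (_ : CommRing U') (_ : Algebra U U') (F : C →+* (t.map (algebraMap U U')).Alg),
      IsWRes (R := R) t S F ∧ (Finite σ → K.Finite → S.Finite → Algebra.FinitePresentation U U') := by
  classical
  let U₁ := MvPolynomial (σ × ι) U
  let t₁ := t.map (algebraMap U U₁)
  let v : σ → t₁.Alg := fun l => t₁.coord.symm fun i => X (l, i)
  let φ : MvPolynomial σ R →+* t₁.Alg :=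
    eval₂Hom ((algebraMap U₁ t₁.Alg).comp ((algebraMap U U₁).comp (algebraMap R U))) v
  let σp : C → MvPolynomial σ R := Function.surjInv hp
  let rel : Set U₁ := (⋃ q ∈ K, Set.range fun i => t₁.coord (φ q) i) ∪
    ⋃ z ∈ S, Set.range fun i => t₁.coord (φ (σp z.1)) i - algebraMap U U₁ (t.coord z.2 i)
  let U' := U₁ ⧸ Ideal.span rel
  let π : U₁ →+* U' := Ideal.Quotient.mk _
  have hπ : (π.comp (algebraMap U U₁)) = algebraMap U U' := rfl
  let t' := t.map (algebraMap U U')
  have hh : t₁.map π = t' := rfl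
  let φ' : MvPolynomial σ R →+* t'.Alg := (Tab.hom π hh).comp φ
  have hker : RingHom.ker p.toRingHom ≤ RingHom.ker φ' := by
    rw [← hK, Ideal.span_le]
    intro q hq
    refine t'.ext' fun i => ?_
    show t'.coord (Tab.hom π hh (φ q)) i = t'.coord 0 i
    rw [Tab.coord_hom, map_zero]
    exact Ideal.Quotient.eq_zero_iff_mem.2 (Ideal.subset_span (Or.inl (Set.mem_biUnion hq ⟨i, rfl⟩)))
  let F : C →+* t'.Alg := RingHom.liftOfSurjective p.toRingHom hp ⟨φ', hker⟩
  have hF : ∀ q, F (p q) = φ' q := fun q => RingHom.liftOfRightInverse_comp_apply _ _ _ _ q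
  refine ⟨U', inferInstance, inferInstance, F, ⟨fun r => ?_, fun z hz => ?_, fun T _ g tT hg ψ hψR hψS => ?_⟩, ?_⟩
  · rw [← p.commutes, hF]
    show Tab.hom π hh (φ (MvPolynomial.C r)) = _
    rw [show φ (MvPolynomial.C r) = algebraMap U₁ t₁.Alg (algebraMap U U₁ (algebraMap R U r)) from eval₂Hom_C _ _ r,
      Tab.hom_algebraMap]
    rfl
  · rw [← Function.surjInv_eq hp z.1, hF]
    refine t'.ext' fun i => ?_
    show t'.coord (Tab.hom π hh (φ (σp z.1))) i = _
    rw [Tab.coord_hom, Tab.coord_mapHom, ← hπ, RingHom.comp_apply, ← sub_eq_zero, ← map_sub]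
    exact Ideal.Quotient.eq_zero_iff_mem.2 (Ideal.subset_span (Or.inr (Set.mem_biUnion hz ⟨i, rfl⟩)))
  · let g₁ : U₁ →+* T := eval₂Hom g fun x => tT.coord (ψ (p (X x.1))) x.2
    have hg₁ : g₁.comp (algebraMap U U₁) = g := RingHom.ext fun a => eval₂Hom_C _ _ a
    have h₁ : t₁.map g₁ = tT := by rw [show t₁.map g₁ = t.map (g₁.comp (algebraMap U U₁)) from rfl, hg₁, hg]
    have key : (Tab.hom g₁ h₁).comp φ = ψ.comp p.toRingHom := by
      refine MvPolynomial.ringHom_ext (fun r => ?_) (fun l => ?_)
      · show Tab.hom g₁ h₁ (φ (MvPolynomial.C r)) = ψ (p (MvPolynomial.C r))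
        rw [show φ (MvPolynomial.C r) = algebraMap U₁ t₁.Alg (algebraMap U U₁ (algebraMap R U r)) from eval₂Hom_C _ _ r,
          Tab.hom_algebraMap, show p (MvPolynomial.C r) = algebraMap R C r from p.commutes r, hψR, ← hg₁]
        rfl
      · show Tab.hom g₁ h₁ (φ (X l)) = ψ (p (X l))
        refine tT.ext' fun i => ?_
        rw [Tab.coord_hom, show φ (X l) = v l from eval₂Hom_X' _ _ l, LinearEquiv.apply_symm_apply]
        exact eval₂Hom_X' _ _ (l, i)
    have key' : ∀ q i, g₁ (t₁.coord (φ q) i) = tT.coord (ψ (p q)) i := fun q i => by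
      rw [← Tab.coord_hom g₁ h₁]
      exact congrArg (fun x => tT.coord x i) (DFunLike.congr_fun key q)
    have hrel : ∀ a ∈ Ideal.span rel, g₁ a = 0 := fun a ha => by
      refine (Ideal.span_le.2 ?_ : Ideal.span rel ≤ RingHom.ker g₁) ha
      rintro b (hb | hb) <;> simp only [Set.mem_iUnion, Set.mem_range, exists_prop] at hb <;>
        obtain ⟨q, hq, i, rfl⟩ := hb <;> rw [SetLike.mem_coe, RingHom.mem_ker]
      · rw [key', show p q = 0 from (hK.le (Ideal.subset_span hq) :), map_zero, map_zero]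
        rfl
      · rw [map_sub, key', show p (σp q.1) = q.1 from Function.surjInv_eq hp q.1, hψS q hq, Tab.coord_hom,
          show g₁ (algebraMap U U₁ (t.coord q.2 i)) = g (t.coord q.2 i) from DFunLike.congr_fun hg₁ _, sub_self]
    refine ⟨Ideal.Quotient.lift _ g₁ hrel, ⟨hg₁, fun c i => ?_⟩, fun g' hg' => ?_⟩
    · rw [← Function.surjInv_eq hp c, hF]
      show Ideal.Quotient.lift _ g₁ hrel (t'.coord (Tab.hom π hh (φ _)) i) = _
      rw [Tab.coord_hom, Ideal.Quotient.lift_mk, key']
    · refine Ideal.Quotient.ringHom_ext (MvPolynomial.ringHom_ext (fun a => ?_) fun x => ?_)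
      · show g' (algebraMap U U' a) = g₁ (MvPolynomial.C a)
        rw [show g₁ (MvPolynomial.C a) = g a from eval₂Hom_C _ _ a]
        exact DFunLike.congr_fun hg'.1 a
      · show g' (π (X x)) = g₁ (X x)
        rw [show g₁ (X x) = tT.coord (ψ (p (X x.1))) x.2 from eval₂Hom_X' _ _ x, ← hg'.2, hF]
        show _ = g' (t'.coord (Tab.hom π hh (φ (X x.1))) x.2)
        rw [Tab.coord_hom, show φ (X x.1) = v x.1 from eval₂Hom_X' _ _ x.1, LinearEquiv.apply_symm_apply]
  · intro hσ hKf hSf
    haveI := hσ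
    have hfin : rel.Finite :=
      (hKf.biUnion fun q _ => Set.finite_range _).union (hSf.biUnion fun z _ => Set.finite_range _)
    exact Algebra.FinitePresentation.quotient ⟨hfin.toFinset, by simp⟩

/-- Weil restriction along a table, with prescribed values -/
theorem exists_wres (R' : Type u) [CommRing R'] [Algebra R' U] (C : Type u) [CommRing C] [Algebra R' C]
    (S : Set (C × t.Alg)) :
    ∃ (U' : Type u) (_ : CommRing U') (_ : Algebra U U') (F : C →+* (t.map (algebraMap U U')).Alg),
      IsWRes (R := R') t S F ∧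
        (Algebra.FinitePresentation R' C → S.Finite → Algebra.FinitePresentation U U') := by
  by_cases h : Algebra.FinitePresentation R' C
  · obtain ⟨n, p, hp, hk⟩ := h.out
    let q : MvPolynomial (ULift.{u} (Fin n)) R' →ₐ[R'] C :=
      p.comp (MvPolynomial.renameEquiv R' Equiv.ulift).toAlgHom
    have hq : Function.Surjective q := hp.comp (MvPolynomial.renameEquiv R' Equiv.ulift).surjective
    obtain ⟨K, hK⟩ := Algebra.FinitePresentation.ker_fG_of_surjective q hq
    obtain ⟨U', _, _, F, hF, hfp⟩ := exists_wres_aux t S _ q hq (↑K) hK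
    exact ⟨U', inferInstance, inferInstance, F, hF, fun _ hS => hfp inferInstance K.finite_toSet hS⟩
  · let q : MvPolynomial C R' →ₐ[R'] C := aeval id
    let I : Ideal (MvPolynomial C R') := RingHom.ker q.toRingHom
    obtain ⟨U', _, _, F, hF, -⟩ := exists_wres_aux t S C q (fun c => ⟨X c, aeval_X _ c⟩) (I : Set _) (Ideal.span_eq I)
    exact ⟨U', inferInstance, inferInstance, F, hF, fun h' => absurd h' h⟩

end Groth.Agent.ArtinAtlas

end
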