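import Groth.Agent.ArtinAtlas.Lift
import Groth.Agent.ArtinAtlas.Univ

/-!
# The space of finite subschemes is smooth at complete intersections
-/

set_option autoImplicit false
set_option linter.style.haveILetI false

universe u

open TensorProduct IsLocalRing RingTheory.Sequence

noncomputable section

namespace Groth.Agent.ArtinAtlas

variable {A P : Type u} [CommRing A] [CommRing P] [Algebra A P]

/-- a map on a quotient of a local ring by a nilpotent ideal reflects units -/
theorem isUnit_of_map_surjective {O' O : Type u} [CommRing O'] [CommRing O] (π : O' →+* O)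
    (hπ : Function.Surjective π) (hI : ∀ x ∈ RingHom.ker π, IsNilpotent x) (x : O') (h : IsUnit (π x)) : IsUnit x := by
  obtain ⟨v, hv⟩ := h.exists_right_inv
  obtain ⟨w, rfl⟩ := hπ v
  have : IsUnit (x * w) := by
    have hn : IsNilpotent (x * w - 1) := hI _ (by rw [RingHom.mem_ker, map_sub, map_mul, hv, map_one, sub_self])
    simpa using hn.isUnit_add_one
  exact isUnit_of_mul_isUnit_left this

/-- formal smoothness of a local ring from lifts over square-zero thickenings of itself -/
theorem formallySmooth_of_lift {U O Q : Type u} [CommRing U] [CommRing O] [CommRing Q] [Algebra A U] [Algebra A O]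
    [Algebra A Q] [Algebra U O] [IsScalarTower A U O] (M : Submonoid U) [IsLocalization M O] [IsLocalRing O]
    [IsLocalRing Q] [Algebra.FormallySmooth A Q] (π₁ : Q →ₐ[A] O) (hπ₁ : Function.Surjective π₁)
    (h : ∀ (O' : Type u) [CommRing O'] [Algebra A O'] [IsLocalRing O'] (π : O' →ₐ[A] O), Function.Surjective π →
      IsNilpotent (RingHom.ker π.toRingHom) → ∃ g : U →ₐ[A] O', ∀ x, π (g x) = algebraMap U O x) :
    Algebra.FormallySmooth A O := by
  rw [Algebra.FormallySmooth.iff_split_surjection π₁ hπ₁]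
  let π : (Q ⧸ RingHom.ker π₁.toRingHom ^ 2) →ₐ[A] O := π₁.kerSquareLift
  have hπ : Function.Surjective π := fun z => by
    obtain ⟨y, rfl⟩ := hπ₁ z
    exact ⟨Ideal.Quotient.mk _ y, rfl⟩
  have hI2 : (RingHom.ker π.toRingHom) ^ 2 = ⊥ := by
    have hk : RingHom.ker π.toRingHom =
        (RingHom.ker π₁.toRingHom).map (Ideal.Quotient.mk (RingHom.ker π₁.toRingHom ^ 2)) :=
      Ideal.ker_quotient_lift _ _
    rw [hk, ← Ideal.map_pow, Ideal.map_quotient_self]
  haveI : Nontrivial (Q ⧸ RingHom.ker π₁.toRingHom ^ 2) := π.toRingHom.domain_nontrivial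
  haveI : IsLocalRing (Q ⧸ RingHom.ker π₁.toRingHom ^ 2) :=
    IsLocalRing.of_surjective' (Ideal.Quotient.mk _) Ideal.Quotient.mk_surjective
  obtain ⟨g, hg⟩ := h _ π hπ ⟨2, hI2⟩
  have hunit : ∀ x : M, IsUnit (g x) := fun x => by
    refine isUnit_of_map_surjective π.toRingHom hπ (fun z hz => ⟨2, ?_⟩) _ ?_
    · have := Ideal.pow_mem_pow hz 2
      rwa [hI2, Ideal.mem_bot] at this
    · show IsUnit (π (g x))
      rw [hg]
      exact IsLocalization.map_units O x
  refine ⟨IsLocalization.liftAlgHom (M := M) (f := g) hunit, ?_⟩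
  refine IsLocalization.algHom_ext M (AlgHom.ext fun x => ?_)
  show π (IsLocalization.liftAlgHom (M := M) (f := g) hunit (algebraMap U O x)) = algebraMap U O x
  rw [show IsLocalization.liftAlgHom (M := M) (f := g) hunit (algebraMap U O x) = g x from
    IsLocalization.lift_eq _ x, hg]

/-- formal smoothness at a prime from lifts over thickenings of the local ring -/
theorem isSmoothAt_of_lift {U : Type u} [CommRing U] [Algebra A U] [Algebra.FinitePresentation A U] (q : Ideal U)
    [q.IsPrime] (h : ∀ (O' : Type u) [CommRing O'] [Algebra A O'] [IsLocalRing O']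
      (π : O' →ₐ[A] Localization.AtPrime q), Function.Surjective π → IsNilpotent (RingHom.ker π.toRingHom) →
      ∃ g : U →ₐ[A] O', ∀ x, π (g x) = algebraMap U _ x) : Algebra.IsSmoothAt A q := by
  obtain ⟨n, π₀, hπ₀, -⟩ := (inferInstance : Algebra.FinitePresentation A U).out
  let q' := q.comap π₀.toRingHom
  haveI : Algebra.FormallySmooth (MvPolynomial (Fin n) A) (Localization.AtPrime q') :=
    Algebra.FormallySmooth.of_isLocalization q'.primeCompl
  haveI : Algebra.FormallySmooth A (Localization.AtPrime q') :=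
    Algebra.FormallySmooth.comp A (MvPolynomial (Fin n) A) (Localization.AtPrime q')
  let π₁' : Localization.AtPrime q' →+* Localization.AtPrime q :=
    IsLocalization.map _ (M := q'.primeCompl) (T := q.primeCompl) π₀.toRingHom fun x hx => hx
  let π₁ : Localization.AtPrime q' →ₐ[A] Localization.AtPrime q := { π₁' with
    commutes' := fun a => by
      show π₁' (algebraMap A (Localization.AtPrime q') a) = _
      rw [IsScalarTower.algebraMap_apply A (MvPolynomial (Fin n) A) (Localization.AtPrime q'), IsLocalization.map_eq,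
        show π₀.toRingHom (algebraMap A _ a) = algebraMap A U a from π₀.commutes a,
        ← IsScalarTower.algebraMap_apply] }
  refine formallySmooth_of_lift (U := U) q.primeCompl π₁ (fun z => ?_) h
  obtain ⟨y, s, rfl⟩ := IsLocalization.exists_mk'_eq q.primeCompl z
  obtain ⟨y, rfl⟩ := hπ₀ y
  obtain ⟨s', hs'⟩ := hπ₀ s
  refine ⟨IsLocalization.mk' _ y (⟨s', show π₀ s' ∉ q from hs' ▸ s.2⟩ : q'.primeCompl), ?_⟩
  show π₁' _ = _
  rw [IsLocalization.map_mk']
  congr 1
  exact Subtype.ext hs'

/-- smoothness of the restriction of scalars of a flat family at a complete intersection -/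
theorem isSmoothAt_wres {ι : Type} [Fintype ι] [DecidableEq ι] [Algebra.FinitePresentation A P] [Module.Flat A P]
    (fs : List P) (hfs : IsWeaklyRegular P fs) (hfl : ∀ i ≤ fs.length, Module.Flat A (P ⧸ Ideal.ofList (fs.take i)))
    {U' : Type u} [CommRing U'] [Algebra (TabRing ι A) U'] [Algebra A U'] [IsScalarTower A (TabRing ι A) U']
    [Algebra.FinitePresentation A U'] (F : P →+* ((univTab ι A).map (algebraMap (TabRing ι A) U')).Alg)
    (hF : IsWRes (R := A) (univTab ι A) ∅ F) {k : Type u} [Field k] [Algebra A k] (h₀ : U' →ₐ[A] k)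
    (p : ι → P)
    (hp : ∀ j i, h₀ (((univTab ι A).map (algebraMap (TabRing ι A) U')).coord (F (p j)) i) = if j = i then 1 else 0)
    (hf₀ : ∀ f ∈ fs, ∀ i, h₀ (((univTab ι A).map (algebraMap (TabRing ι A) U')).coord (F f) i) = 0)
    (hker : ∀ Ψ : k ⊗[A] P →+* (((univTab ι A).map (algebraMap (TabRing ι A) U')).map h₀.toRingHom).Alg,
      (∀ a x, Ψ (a ⊗ₜ x) = a • ((univTab ι A).map (algebraMap (TabRing ι A) U')).mapHom h₀.toRingHom (F x)) →
      RingHom.ker Ψ ≤ RingHom.ker Ψ * RingHom.ker Ψ ⊔ (Ideal.ofList fs).map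
        (Algebra.TensorProduct.includeRight : P →ₐ[A] k ⊗[A] P).toRingHom) :
    haveI := RingHom.ker_isPrime h₀.toRingHom
    Algebra.IsSmoothAt A (RingHom.ker h₀.toRingHom) := by
  classical
  let tU := (univTab ι A).map (algebraMap (TabRing ι A) U')
  haveI hqP : (RingHom.ker h₀.toRingHom).IsPrime := RingHom.ker_isPrime h₀.toRingHom
  refine isSmoothAt_of_lift _ ?_
  intro O' _ _ _ π hπ hI
  let q := RingHom.ker h₀.toRingHom
  let O := Localization.AtPrime q
  let ρ : O →ₐ[A] k := IsLocalization.liftAlgHom (M := q.primeCompl) (f := h₀) fun x => isUnit_iff_ne_zero.2 x.2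
  have hρ : ∀ x, ρ (algebraMap U' O x) = h₀ x := fun x => IsLocalization.lift_eq _ x
  haveI : IsLocalHom ρ.toRingHom := ⟨fun z hz => by
    obtain ⟨y, s, rfl⟩ := IsLocalization.exists_mk'_eq q.primeCompl z
    rw [IsLocalization.AtPrime.isUnit_mk'_iff]
    intro hy
    refine hz.ne_zero ?_
    have := congrArg ρ (IsLocalization.mk'_spec O y s)
    rw [map_mul, hρ, hρ, show h₀ y = 0 from hy, mul_eq_zero] at this
    exact this.resolve_right s.2⟩
  let tO := tU.map (algebraMap U' O)
  let φ : P →+* tO.Alg := (tU.mapHom (algebraMap U' O)).comp F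
  let t₀ := tU.map h₀.toRingHom
  have ht : tO.map ρ.toRingHom = t₀ := by
    show tU.map (ρ.toRingHom.comp (algebraMap U' O)) = tU.map h₀.toRingHom
    congr 1
    exact RingHom.ext hρ
  let φ₀ : P →+* t₀.Alg := (tU.mapHom h₀.toRingHom).comp F
  have hFA : ∀ a, F (algebraMap A P a) = algebraMap U' tU.Alg (algebraMap A U' a) := fun a => by
    rw [hF.1 a, ← IsScalarTower.algebraMap_apply A (TabRing ι A) U']
  obtain ⟨t', φ', hπt, hφ'A, hφ'⟩ := exists_lift_point fs hfs hfl t₀ φ₀
    (fun a => by
      show tU.mapHom _ (F _) = _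
      rw [hFA, Tab.mapHom_algebraMap]
      exact congrArg _ (h₀.commutes a))
    p (fun j => t₀.ext' fun i => by
      show t₀.coord (tU.mapHom _ (F (p j))) i = _
      rw [Tab.coord_mapHom, Tab.coord_basis, Pi.single_apply]
      exact (hp j i).trans (if_congr eq_comm rfl rfl))
    (fun f hf => t₀.ext' fun i => by
      show t₀.coord (tU.mapHom _ (F f)) i = _
      rw [Tab.coord_mapHom, map_zero]
      exact hf₀ f hf i)
    hker π hπ hI ρ tO ht φ
    (fun a => by
      show tU.mapHom _ (F _) = _
      rw [hFA, Tab.mapHom_algebraMap, ← IsScalarTower.algebraMap_apply A U' O])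
    (fun x i => by
      show ρ (tO.coord (tU.mapHom _ (F x)) i) = t₀.coord (tU.mapHom _ (F x)) i
      rw [Tab.coord_mapHom, Tab.coord_mapHom, hρ]
      rfl)
  obtain ⟨g, hg, -⟩ := existsUnique_tab ι A t'
  obtain ⟨g', ⟨hg'1, hg'2⟩, -⟩ := hF.2.2 O' g.toRingHom t' hg φ'
    (fun a => (hφ'A a).trans (by rw [show g.toRingHom (algebraMap A (TabRing ι A) a) = algebraMap A O' a from g.commutes a]))
    (fun _ h => absurd h (Set.notMem_empty _))
  let g'A : U' →ₐ[A] O' := { g' with
    commutes' := fun a => by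
      show g' (algebraMap A U' a) = _
      rw [IsScalarTower.algebraMap_apply A (TabRing ι A) U', show g' (algebraMap _ U' (algebraMap A (TabRing ι A) a)) =
        g (algebraMap A (TabRing ι A) a) from RingHom.congr_fun hg'1 _, g.commutes] }
  have hπg : π.toRingHom.comp g' = algebraMap U' O := by
    obtain ⟨g₂, -, hu⟩ := hF.2.2 O ((algebraMap U' O).comp (algebraMap (TabRing ι A) U')) tO rfl φ
      (fun a => by
        show tU.mapHom _ (F _) = _
        rw [hF.1 a, Tab.mapHom_algebraMap]
        rfl)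
      (fun _ h => absurd h (Set.notMem_empty _))
    have e : π.toRingHom.comp g.toRingHom = (algebraMap U' O).comp (algebraMap (TabRing ι A) U') := by
      obtain ⟨g₃, -, hu₃⟩ := existsUnique_tab ι A tO
      have e1 := hu₃ (π.comp g) (by
        beta_reduce
        rw [show (π.comp g).toRingHom = π.toRingHom.comp g.toRingHom from rfl, ← Tab.map_map, hg, hπt])
      have e2 := hu₃ ((IsScalarTower.toAlgHom A U' O).comp (IsScalarTower.toAlgHom A (TabRing ι A) U')) rfl
      exact congrArg AlgHom.toRingHom (e1.trans e2.symm)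
    refine (hu _ ⟨by rw [RingHom.comp_assoc, hg'1]; exact e, fun c i => ?_⟩).trans
      (hu _ ⟨rfl, fun c i => ?_⟩).symm
    · show π (g' _) = _
      rw [hg'2, hφ']
    · exact (tU.coord_mapHom _ (F c) i).symm
  exact ⟨g'A, fun x => RingHom.congr_fun hπg x⟩

end Groth.Agent.ArtinAtlas

end
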