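import Groth.Agent.ArtinAtlas.Calculus
import Groth.Agent.ArtinAtlas.Smooth
import Groth.Agent.ArtinAtlas.LiftSpace

/-!
# The smooth slice of frames over the moduli of descent data
-/

set_option autoImplicit false
set_option backward.isDefEq.respectTransparency false
set_option backward.isDefEq.respectTransparency.types false
set_option linter.style.haveILetI false
universe v₂ u₂ u

noncomputable section

namespace Groth.Agent.ArtinAtlas

open CategoryTheory CategoryTheory.Limits AlgebraicGeometry CommRingCat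
open _root_.AlgSp _root_.AlgSt

variable {S : Scheme.{u}} {𝒳 : BasedCategory.{v₂, u₂} (Over S)} {R₀ A : Type u} [CommRing R₀] [CommRing A]
  [Algebra R₀ A] {j : Spec (CommRingCat.of R₀) ⟶ S} {x₁ : FibCat.overCat (ovR j (algebraMap R₀ A)) ⥤ᵇ 𝒳}
  {hX : FibCat.IsFibGrpd 𝒳.p} {k : Type u} [Field k] {str₀ : A →+* k}

/-- the frame of a germ -/
abbrev Germ.p (G : Germ x₁ hX str₀) : Fr A G.P (str₀.comp (algebraMap R₀ A)) G.d.t := ⟨str₀, rfl, G.φ, G.φA⟩

/-- the universal frame, smooth over the chart at the point of a germ -/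
structure FrUniv (G : Germ x₁ hX str₀) where
  /-- the ring -/
  H : Type u
  [ring : CommRing H]
  σ : R₀ →+* H
  t : Tab (Fin G.n) H
  /-- the frame -/
  p : Fr A G.P σ t
  univ : ∀ {Z : Type u} [CommRing Z] {σZ : R₀ →+* Z} {tZ : Tab (Fin G.n) Z} (p' : Fr A G.P σZ tZ),
    ∃! g : H →+* Z, IsPullFr g p p'
  /-- the point -/
  h : H →+* k
  hpk : IsPullFr h p G.p
  smooth : ∃ g : H, h g ≠ 0 ∧ Smooth (Spec.map (ofHom ((algebraMap H (Localization.Away g)).comp p.str)))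

attribute [instance] FrUniv.ring

/-- frames lifting the data, before localising to the moduli -/
structure PreSlice (G : Germ x₁ hX str₀) where
  /-- the ring -/
  H : Type u
  [ring : CommRing H]
  σ : R₀ →+* H
  /-- the datum -/
  d : Dat (Fin G.n) G.a₂ G.b₂ σ
  /-- the frame -/
  p : Fr A G.P σ d.t
  lifts : Fr.Lifts hX G.θP G.θ₂ d p
  /-- the point -/
  h : H →+* k
  hdk : IsPull h d G.d
  hpk : IsPullFr h p G.p
  smooth : ∃ g : H, h g ≠ 0 ∧ Smooth (Spec.map (ofHom ((algebraMap H (Localization.Away g)).comp p.str)))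
  univ : ∀ {Z : Type u} [CommRing Z] {σ' : R₀ →+* Z} {d' : Dat (Fin G.n) G.a₂ G.b₂ σ'} {p' : Fr A G.P σ' d'.t},
    Fr.Lifts hX G.θP G.θ₂ d' p' → ∀ {hz : Z →+* k}, IsPull hz d' G.d → IsPullFr hz p' G.p → ∃ f : Z, hz f ≠ 0 ∧
      ∀ {Z' : Type u} [CommRing Z'] {σ'' : R₀ →+* Z'} {g : Z →+* Z'} {d'' : Dat (Fin G.n) G.a₂ G.b₂ σ''}
        {p'' : Fr A G.P σ'' d''.t}, IsPull g d' d'' → IsPullFr g p' p'' → IsUnit (g f) →
        ∃ gH : H →+* Z', IsPull gH d d'' ∧ IsPullFr gH p p''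
  sep : ∀ {Z : Type u} [CommRing Z] {σ' : R₀ →+* Z} {d' : Dat (Fin G.n) G.a₂ G.b₂ σ'} {p' : Fr A G.P σ' d'.t}
    {g g' : H →+* Z}, IsPull g d d' → IsPullFr g p p' → IsPull g' d d' → IsPullFr g' p p' → g = g'

attribute [instance] PreSlice.ring

/-- frames lifting the data over the moduli -/
structure Slice {G : Germ x₁ hX str₀} (Mo : Moduli G) extends PreSlice G where
  /-- the map to the moduli -/
  fW : Mo.W →+* H
  hd : IsPull fW Mo.d d

/-- the universal frame exists and is smooth at a complete intersection -/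
theorem exists_frUniv (G : Germ x₁ hX str₀) : Nonempty (FrUniv G) := by
  classical
  haveI := G.fpP
  haveI := G.flatP
  obtain ⟨H₁, _, _, F, hF, hfp⟩ := exists_wres (univTab (Fin G.n) A) A G.P ∅
  letI : Algebra A H₁ := ((algebraMap (TabRing (Fin G.n) A) H₁).comp (algebraMap A _)).toAlgebra
  haveI : IsScalarTower A (TabRing (Fin G.n) A) H₁ := IsScalarTower.of_algebraMap_eq (R := A) (S := TabRing (Fin G.n) A) (A := H₁) fun _ => rfl
  haveI : Algebra.FinitePresentation A (TabRing (Fin G.n) A) :=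
    Algebra.FinitePresentation.quotient (Submodule.fg_span (finite_tabRel _ A))
  haveI : Algebra.FinitePresentation (TabRing (Fin G.n) A) H₁ := hfp G.fpP Set.finite_empty
  haveI : Algebra.FinitePresentation A H₁ := Algebra.FinitePresentation.trans A (TabRing (Fin G.n) A) H₁
  let t₁ := (univTab (Fin G.n) A).map (algebraMap (TabRing (Fin G.n) A) H₁)
  let σ₁ : R₀ →+* H₁ := (algebraMap A H₁).comp (algebraMap R₀ A)
  let p₁ : Fr A G.P σ₁ t₁ := ⟨algebraMap A H₁, rfl, F, RingHom.ext hF.1⟩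
  have huniv : ∀ {Z : Type u} [CommRing Z] {σZ : R₀ →+* Z} {tZ : Tab (Fin G.n) Z} (p' : Fr A G.P σZ tZ),
      ∃! g : H₁ →+* Z, IsPullFr g p₁ p' := by
    intro Z _ σZ tZ p'
    letI : Algebra A Z := p'.str.toAlgebra
    obtain ⟨f₀, hf₀, hu₀⟩ := existsUnique_tab (Fin G.n) A tZ
    obtain ⟨g, ⟨hg, hgc⟩, hu⟩ := hF.2.2 Z f₀.toRingHom tZ hf₀ p'.φ
      (fun a => (RingHom.congr_fun p'.φA a).trans (congrArg (algebraMap Z tZ.Alg) (f₀.commutes a).symm))
      (fun _ h => absurd h (Set.notMem_empty _))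
    have hgA : g.comp (algebraMap A H₁) = p'.str := RingHom.ext fun a =>
      (RingHom.congr_fun hg _).trans (f₀.commutes a)
    have ht : t₁.map g = tZ := by
      rw [show t₁.map g = (univTab (Fin G.n) A).map (g.comp (algebraMap (TabRing (Fin G.n) A) H₁)) from rfl, hg, hf₀]
    refine ⟨g, ⟨?_, ht, hgA.symm, RingHom.ext fun x => tZ.ext' fun i => ?_⟩, fun g' h' => ?_⟩
    · rw [← RingHom.comp_assoc, hgA, p'.str_comm]
    · rw [RingHom.comp_apply, Tab.coord_hom]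
      exact (hgc x i).symm
    · have e : g'.comp (algebraMap (TabRing (Fin G.n) A) H₁) = f₀.toRingHom := congrArg AlgHom.toRingHom
        (hu₀ ({ g'.comp (algebraMap (TabRing (Fin G.n) A) H₁) with
          commutes' := fun a => RingHom.congr_fun h'.hstr.symm a } : TabRing (Fin G.n) A →ₐ[A] Z) h'.ht)
      refine hu g' ⟨e, fun x i => ?_⟩
      rw [h'.hφ, RingHom.comp_apply, Tab.coord_hom]
  obtain ⟨h₁, hh₁, -⟩ := huniv G.p
  letI : Algebra A k := str₀.toAlgebra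
  let h₁A : H₁ →ₐ[A] k := { h₁ with commutes' := fun a => RingHom.congr_fun hh₁.hstr.symm a }
  haveI hP₁ := RingHom.ker_isPrime h₁A.toRingHom
  have hsm : Algebra.IsSmoothAt A (RingHom.ker h₁A.toRingHom) := by
    have hφ : ∀ x i, h₁ (t₁.coord (F x) i) = G.t.coord (G.φ x) i := fun x i => by
      have e := congrArg (fun f : G.P →+* G.t.Alg => G.t.coord (f x) i) hh₁.hφ
      exact ((e.trans (Tab.coord_hom h₁ hh₁.ht (F x) i))).symm
    refine isSmoothAt_wres G.fs G.regular G.flatQuot F hF h₁A G.pb (fun j i => ?_) (fun f hf i => ?_) ?_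
    · show h₁ _ = _
      rw [hφ, G.hpb, Tab.coord_basis, Pi.single_apply]
      exact if_congr eq_comm rfl rfl
    · show h₁ _ = _
      rw [hφ, G.hfs f hf, map_zero]
      rfl
    · have key : ∀ (t : Tab (Fin G.n) k) (φ : G.P →+* t.Alg), (∃ e : t₁.map h₁ = t, φ = (Tab.hom h₁ e).comp F) →
          (∀ Ψ : TensorProduct A k G.P →+* t.Alg, (∀ a x, Ψ (TensorProduct.tmul A a x) = a • φ x) →
            RingHom.ker Ψ ≤ RingHom.ker Ψ * RingHom.ker Ψ ⊔ (Ideal.ofList G.fs).map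
              (Algebra.TensorProduct.includeRight : G.P →ₐ[A] TensorProduct A k G.P).toRingHom) →
          ∀ Ψ : TensorProduct A k G.P →+* (t₁.map h₁).Alg,
            (∀ a x, Ψ (TensorProduct.tmul A a x) = a • t₁.mapHom h₁ (F x)) →
            RingHom.ker Ψ ≤ RingHom.ker Ψ * RingHom.ker Ψ ⊔ (Ideal.ofList G.fs).map
              (Algebra.TensorProduct.includeRight : G.P →ₐ[A] TensorProduct A k G.P).toRingHom := by
        rintro _ φ ⟨rfl, rfl⟩ H Ψ hΨ
        exact H Ψ fun a x => (hΨ a x).trans (congrArg (a • ·) (Tab.hom_eq_mapHom h₁ (F x)).symm)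
      exact key G.t G.φ ⟨hh₁.ht, hh₁.hφ⟩ G.hker
  obtain ⟨g₁, hg₁, hg₁s⟩ := Algebra.IsSmoothAt.exists_notMem_smooth A (RingHom.ker h₁A.toRingHom)
  refine ⟨⟨H₁, σ₁, t₁, p₁, huniv, h₁, hh₁, g₁, hg₁, ?_⟩⟩
  exact (HasRingHomProperty.Spec_iff (P := @Smooth)).2
    ((IsScalarTower.algebraMap_eq A H₁ (Localization.Away g₁)) ▸ RingHom.smooth_algebraMap.2 hg₁s)

variable [Mono j]

/-- frames lifting the data exist -/
theorem exists_preSlice (G : Germ x₁ hX str₀) : Nonempty (PreSlice G) := by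
  classical
  haveI : Nonempty (Fin G.n) := ⟨⟨0, G.hn⟩⟩
  haveI := G.nontrivial
  obtain ⟨⟨H₁, σ₁, t₁, p₁, huniv, h₁, hh₁, g₁, hg₁, hg₁s⟩⟩ := exists_frUniv G
  -- lifts of the descent isomorphism
  obtain ⟨Wη, lη, qη, hqη, hlη, huη⟩ := G.lift₂ (p₁.η hX G.θP)
  haveI := hqη
  -- lifts over a frame
  have hs : ∀ {Z : Type u} [CommRing Z] {σ' : R₀ →+* Z} {d' : Dat (Fin G.n) G.a₂ G.b₂ σ'}
      {p' : Fr A G.P σ' d'.t} (_ : Fr.Lifts hX G.θP G.θ₂ d' p') {g' : H₁ →+* Z} (hg' : IsPullFr g' p₁ p'),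
      ∃! w : spT j σ' (d'.t.sq d'.t) ⟶ Wη, w ≫ lη = d'.gbar j ∧
        w ≫ qη = spMap g' hg'.hσ (Tab.map_sq_of_eq g' hg'.ht hg'.ht) := by
    intro Z _ σ' d' p' hl' g' hg'
    refine huη _ _ ?_
    obtain ⟨a, b, χ, r₁, r₂⟩ := hl'.same
    have r := (hg'.res_η hX G.θP).trans r₂
    rw [Category.id_comp] at r
    exact ⟨a, b, χ, r₁, r⟩
  obtain ⟨wk, ⟨hwk, hwk'⟩, hwku⟩ := hs (d' := G.d) (p' := G.p) G.lifts hh₁
  haveI : Subsingleton (PrimeSpectrum (G.t.sq G.t).Alg) := Tab.Loc.subsingleton (Tab.Loc.sq G.loc G.loc)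
  haveI : Nontrivial (G.t.sq G.t).Alg := Tab.nontrivial_alg _
  obtain ⟨H₂, _, _, h₂, σ₂, t₂, hσ₂, ht₂, l, hσk, htk, V, hH₂, hh₂, hlq, hlk, hwkV, hlV, hVu⟩ :=
    exists_lift_space (tk := G.t.sq G.t) h₁ hh₁.hσ (Tab.map_sq_of_eq h₁ hh₁.ht hh₁.ht) qη wk hwk'
  haveI := hH₂
  let am := algebraMap H₁ H₂
  obtain ⟨p₂, hp₂⟩ := p₁.exists_pull am hσ₂ (rfl : t₁.map am = t₁.map am)
  have hsq : t₂.map (RingHom.id H₂) = (t₁.map am).sq (t₁.map am) := by rw [Tab.map_id, ← ht₂, Tab.map_sq]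
  let l₂ : spT j σ₂ ((t₁.map am).sq (t₁.map am)) ⟶ Wη := spMap (RingHom.id H₂) (RingHom.id_comp _) hsq ≫ l
  have hl₂ : l₂ ≫ qη = spMap am hσ₂ (Tab.map_sq_of_eq am hp₂.ht hp₂.ht) := by
    show (_ ≫ l) ≫ qη = _
    rw [Category.assoc, hlq, spMap_comp]
    rfl
  obtain ⟨g₂, hg₂σ, hg₂⟩ := exists_ovMap (l₂ ≫ lη)
  have hl := hlη.precomp hX l₂
  rw [hg₂, hl₂] at hl
  have hsame : SameRes x₁ x₁ (ovMap g₂ hg₂σ) (𝟙 _) G.θ₂ (p₂.η hX G.θP) := by
    obtain ⟨a, b, χ, r₁, r₂⟩ := hl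
    have r := hp₂.res_η hX G.θP
    obtain rfl := r₂.1.symm.trans r.1
    obtain rfl := r₂.2.1.symm.trans r.2.1
    exact ⟨_, _, χ, r₁, (r₂.unique hX r) ▸ Hom2.res_id _⟩
  obtain ⟨ea, eb⟩ := hsame.endpoints
  rw [Category.id_comp, ovMap_comp, ovMap_comp] at ea
  rw [Category.id_comp, ovMap_comp, ovMap_comp] at eb
  let d₂ : Dat (Fin G.n) G.a₂ G.b₂ σ₂ :=
    ⟨t₁.map am, p₂.φ.comp G.bP, p₂.w_comm G.hab, g₂, ovMap_injective ea, ovMap_injective eb⟩
  have hlift₂ : Fr.Lifts hX G.θP G.θ₂ d₂ p₂ := ⟨rfl, hsame⟩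
  -- maps out of the lifts
  have htg : ∀ {Z : Type u} [CommRing Z] {σ' : R₀ →+* Z} {t' : Tab (Fin G.n) Z} {p' : Fr A G.P σ' t'}
      {g : H₂ →+* Z}, IsPullFr g p₂ p' → t₂.map g = t'.sq t' := by
    intro Z _ σ' t' p' g hP
    rw [← ht₂, Tab.map_map]
    exact Tab.map_sq_of_eq _ (hp₂.trans hP).ht (hp₂.trans hP).ht
  have hgb : ∀ {Z : Type u} [CommRing Z] {σ' : R₀ →+* Z} {d' : Dat (Fin G.n) G.a₂ G.b₂ σ'}
      {p' : Fr A G.P σ' d'.t} {g : H₂ →+* Z} (hP : IsPullFr g p₂ p'),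
      spMap (j := j) g hP.hσ (Tab.map_sq_of_eq g hP.ht hP.ht) ≫ d₂.gbar j =
        (spMap g hP.hσ (htg hP) ≫ l) ≫ lη := by
    intro Z _ σ' d' p' g hP
    rw [show d₂.gbar j = l₂ ≫ lη from hg₂.symm, ← Category.assoc]
    show (spMap g _ _ ≫ spMap _ _ hsq ≫ l) ≫ lη = _
    rw [← Category.assoc (spMap g _ _), spMap_comp]
    rfl
  have mk : ∀ {Z : Type u} [CommRing Z] {σ' : R₀ →+* Z} {d' : Dat (Fin G.n) G.a₂ G.b₂ σ'}
      {p' : Fr A G.P σ' d'.t} (_ : Fr.Lifts hX G.θP G.θ₂ d' p') {g : H₂ →+* Z} (hP : IsPullFr g p₂ p'),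
      (spMap (j := j) g hP.hσ (htg hP) ≫ l) ≫ lη = d'.gbar j → IsPull g d₂ d' := by
    intro Z _ σ' d' p' hl' g hP e
    refine ⟨hP.hσ, hP.ht, ?_, ?_⟩
    · rw [hl'.hw, hP.hφ, hlift₂.hw, RingHom.comp_assoc]
    · rw [← hgb hP, ovMap_comp] at e
      exact (ovMap_injective e).symm
  have hsep : ∀ {Z : Type u} [CommRing Z] {σ' : R₀ →+* Z} {d' : Dat (Fin G.n) G.a₂ G.b₂ σ'}
      {p' : Fr A G.P σ' d'.t} {g g' : H₂ →+* Z}, IsPull g d₂ d' → IsPullFr g p₂ p' → IsPull g' d₂ d' →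
      IsPullFr g' p₂ p' → g = g' := by
    intro Z _ σ' d' p' g g' hD hP hD' hP'
    have e₁ : g.comp am = g'.comp am := (huniv p').unique (hp₂.trans hP) (hp₂.trans hP')
    have hq : ∀ {g : H₂ →+* Z} (hP : IsPullFr g p₂ p'),
        (spMap (j := j) g hP.hσ (htg hP) ≫ l) ≫ qη =
          spMap (g.comp am) (hp₂.trans hP).hσ (Tab.map_sq_of_eq _ (hp₂.trans hP).ht (hp₂.trans hP).ht) :=
      fun hP => by rw [Category.assoc, hlq, spMap_comp]
    have ew : spMap (j := j) g' hP'.hσ (htg hP') ≫ l = spMap g hP.hσ (htg hP) ≫ l := by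
      refine (hs (hlift₂.pull hX G.θP G.θ₂ hD hP) (hp₂.trans hP)).unique ⟨?_, ?_⟩ ⟨?_, hq hP⟩
      · rw [← hgb hP', hD'.spMap_gbar]
      · rw [hq hP']
        exact ovMap_congr _ (RingHom.ext fun x => by simp only [e₁])
      · rw [← hgb hP, hD.spMap_gbar]
    refine (hVu Z σ' _ (hp₂.trans hP).hσ _ (Tab.map_sq_of_eq _ (hp₂.trans hP).ht (hp₂.trans hP).ht) _ (hq hP) ?_).unique
      ⟨rfl, hP.hσ, htg hP, rfl⟩ ⟨e₁.symm, hP'.hσ, htg hP', ew⟩
    rintro _ ⟨z, rfl⟩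
    exact hlV ⟨_, rfl⟩
  have hpk₂ : IsPullFr h₂ p₂ G.p := hp₂.of_comp (by rw [hh₂]; exact hh₁)
  have hdk₂ : IsPull h₂ d₂ G.d := mk G.lifts hpk₂ (by rw [← hwk, ← hlk])
  refine ⟨⟨H₂, σ₂, d₂, p₂, hlift₂, h₂, hdk₂, hpk₂, ⟨am g₁, ?_, ?_⟩, ?_, hsep⟩⟩
  · rw [show h₂ (am g₁) = h₁ g₁ from RingHom.congr_fun hh₂ g₁]
    exact hg₁
  · let L := Localization.Away g₁
    let M := Localization.Away (am g₁)
    let ψ : L →+* M := IsLocalization.Away.map L M am g₁
    have hψ : ψ.comp (algebraMap H₁ L) = (algebraMap H₂ M).comp am := IsLocalization.map_comp _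
    letI : Algebra L M := ψ.toAlgebra
    haveI : IsScalarTower H₁ L M := IsScalarTower.of_algebraMap_eq' hψ.symm
    haveI : Algebra.Etale H₁ M := inferInstance
    haveI : Algebra.Etale H₁ L := Algebra.Etale.of_isLocalizationAway g₁
    haveI : Algebra.Etale L M := Algebra.Etale.of_restrictScalars H₁ L M
    have e : (algebraMap H₂ M).comp p₂.str = ψ.comp ((algebraMap H₁ L).comp p₁.str) := by
      rw [hp₂.hstr, ← RingHom.comp_assoc, ← hψ, RingHom.comp_assoc]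
    rw [e, ofHom_comp, Spec.map_comp]
    haveI : Etale (Spec.map (ofHom ψ)) := (HasRingHomProperty.Spec_iff (P := @Etale)).2 ‹Algebra.Etale L M›
    haveI := hg₁s
    infer_instance
  · intro Z _ σ' d' p' hl' hz hzd hzp
    obtain ⟨g', hg', -⟩ := huniv p'
    have e₁ : hz.comp g' = h₁ := (huniv G.p).unique (hg'.trans hzp) hh₁
    obtain ⟨wz, ⟨hwz, hwz'⟩, -⟩ := hs hl' hg'
    have hkz : spMap (j := j) hz hzd.hσ (Tab.map_sq_of_eq hz hzd.ht hzd.ht) ≫ wz = wk := by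
      refine hwku _ ⟨?_, ?_⟩
      · rw [Category.assoc, hwz, hzd.spMap_gbar]
      · rw [Category.assoc, hwz', spMap_comp]
        exact ovMap_congr _ (RingHom.ext fun x => by simp only [e₁])
    obtain ⟨f₁, hf₁, hf₁u⟩ :=
      exists_away hz hzd.hσ (Tab.map_sq_of_eq hz hzd.ht hzd.ht) wz V (by rw [hkz]; exact hwkV)
    refine ⟨f₁, hf₁, ?_⟩
    intro Z' _ σ'' g d'' p'' hgd hgp hu
    have hc : IsPullFr (g.comp g') p₁ p'' := hg'.trans hgp
    obtain ⟨g₃, ⟨hg₃a, hg₃σ, hg₃t, hg₃l⟩, -⟩ := hVu Z' σ'' (g.comp g') hc.hσ (d''.t.sq d''.t)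
      (Tab.map_sq_of_eq _ hc.ht hc.ht) (spMap g hgd.hσ (Tab.map_sq_of_eq g hgd.ht hgd.ht) ≫ wz)
      (by rw [Category.assoc, hwz', spMap_comp]) (hf₁u Z' σ'' g hgd.hσ _ _ hu)
    have hP : IsPullFr g₃ p₂ p'' := hp₂.of_comp (by rw [hg₃a]; exact hc)
    refine ⟨g₃, mk (hl'.pull hX G.θP G.θ₂ hgd hgp) hP ?_, hP⟩
    show (spMap g₃ hg₃σ hg₃t ≫ l) ≫ lη = _
    rw [hg₃l, Category.assoc, hwz, hgd.spMap_gbar]

/-- slices exist -/
theorem exists_slice {G : Germ x₁ hX str₀} (Mo : Moduli G) : Nonempty (Slice Mo) := by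
  classical
  obtain ⟨P⟩ := exists_preSlice G
  obtain ⟨f, hf, hfu⟩ := Mo.univ P.H P.σ P.d (Fr.Lifts.coc hX G.θP G.θ₂ P.lifts) P.h P.hdk
  let H := Localization.Away f
  let an := algebraMap P.H H
  obtain ⟨d, hd⟩ := P.d.exists_pull an
  obtain ⟨p, hp⟩ := P.p.exists_pull an hd.hσ hd.ht
  obtain ⟨fW, hfW, -⟩ := hfu H _ an d hd (IsLocalization.Away.algebraMap_isUnit f)
  let h : H →+* k := IsLocalization.Away.lift f (g := P.h) (isUnit_iff_ne_zero.2 hf)
  have hh : h.comp an = P.h := IsLocalization.Away.lift_comp f _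
  obtain ⟨g₁, hg₁, hg₁s⟩ := P.smooth
  refine ⟨{
    H := H
    σ := _
    d := d
    p := p
    lifts := P.lifts.pull hX G.θP G.θ₂ hd hp
    h := h
    hdk := hd.of_comp (by rw [hh]; exact P.hdk)
    hpk := hp.of_comp (by rw [hh]; exact P.hpk)
    smooth := ⟨an g₁, by rw [show h (an g₁) = P.h g₁ from RingHom.congr_fun hh g₁]; exact hg₁, ?_⟩
    univ := ?_
    sep := ?_
    fW := fW
    hd := hfW }⟩
  · let L := Localization.Away g₁
    let M := Localization.Away (an g₁)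
    let ψ : L →+* M := IsLocalization.Away.map L M an g₁
    have hψ : ψ.comp (algebraMap P.H L) = (algebraMap H M).comp an := IsLocalization.map_comp _
    letI : Algebra L M := ψ.toAlgebra
    haveI : IsScalarTower P.H L M := IsScalarTower.of_algebraMap_eq' hψ.symm
    haveI : Algebra.Etale P.H H := Algebra.Etale.of_isLocalizationAway f
    haveI : Algebra.Etale P.H M := inferInstance
    haveI : Algebra.Etale P.H L := Algebra.Etale.of_isLocalizationAway g₁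
    haveI : Algebra.Etale L M := Algebra.Etale.of_restrictScalars P.H L M
    have e : (algebraMap H M).comp p.str = ψ.comp ((algebraMap P.H L).comp P.p.str) := by
      rw [hp.hstr, ← RingHom.comp_assoc, ← hψ, RingHom.comp_assoc]
    rw [e, ofHom_comp, Spec.map_comp]
    haveI : Etale (Spec.map (ofHom ψ)) := (HasRingHomProperty.Spec_iff (P := @Etale)).2 ‹Algebra.Etale L M›
    haveI := hg₁s
    infer_instance
  · intro Z _ σ' d' p' hl' hz hzd hzp
    obtain ⟨f₁, hf₁, hu₁⟩ := P.univ hl' hzd hzp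
    let L := Localization.Away f₁
    obtain ⟨dL, hdL⟩ := d'.exists_pull (algebraMap Z L)
    obtain ⟨pL, hpL⟩ := p'.exists_pull (algebraMap Z L) hdL.hσ hdL.ht
    obtain ⟨gL, hgLd, hgLp⟩ := hu₁ hdL hpL (IsLocalization.Away.algebraMap_isUnit f₁)
    let hzL : L →+* k := IsLocalization.Away.lift f₁ (g := hz) (isUnit_iff_ne_zero.2 hf₁)
    have hzL' : hzL.comp (algebraMap Z L) = hz := IsLocalization.Away.lift_comp f₁ _
    have hk' : hzL.comp gL = P.h :=
      P.sep (hgLd.trans (hdL.of_comp (by rw [hzL']; exact hzd)))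
        (hgLp.trans (hpL.of_comp (by rw [hzL']; exact hzp))) P.hdk P.hpk
    obtain ⟨⟨a, s⟩, hs'⟩ := IsLocalization.surj (Submonoid.powers f₁) (gL f)
    refine ⟨f₁ * a, ?_, ?_⟩
    · rw [map_mul]
      refine mul_ne_zero hf₁ fun h0 => ?_
      have e := congrArg hzL hs'
      rw [map_mul, show hzL (gL f) = P.h f from RingHom.congr_fun hk' f,
        show hzL (algebraMap Z L a) = hz a from RingHom.congr_fun hzL' a, h0] at e
      rcases mul_eq_zero.1 e with h1 | h1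
      · exact hf h1
      · exact ((IsLocalization.map_units L s).map hzL).ne_zero h1
    intro Z' _ σ'' g d'' p'' hgd hgp hu
    rw [map_mul, IsUnit.mul_iff] at hu
    let gl : L →+* Z' := IsLocalization.Away.lift f₁ hu.1
    have hgl : gl.comp (algebraMap Z L) = g := IsLocalization.Away.lift_comp f₁ _
    have h1 : IsPull (gl.comp gL) P.d d'' := hgLd.trans (hdL.of_comp (by rw [hgl]; exact hgd))
    have h2 : IsPullFr (gl.comp gL) P.p p'' := hgLp.trans (hpL.of_comp (by rw [hgl]; exact hgp))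
    have hu' : IsUnit ((gl.comp gL) f) := by
      have e := congrArg gl hs'
      rw [map_mul, show gl (algebraMap Z L a) = g a from RingHom.congr_fun hgl a] at e
      exact isUnit_of_mul_isUnit_left (y := gl (algebraMap Z L s)) (by
        show IsUnit (gl (gL f) * _)
        rw [e]; exact hu.2)
    let gH : H →+* Z' := IsLocalization.Away.lift f hu'
    have hgH : gH.comp an = gl.comp gL := IsLocalization.Away.lift_comp f _
    exact ⟨gH, hd.of_comp (by rw [hgH]; exact h1), hp.of_comp (by rw [hgH]; exact h2)⟩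
  · intro Z _ σ' d' p' g g' hgd hgp hgd' hgp'
    exact IsLocalization.ringHom_ext (Submonoid.powers f)
      (P.sep (hd.trans hgd) (hp.trans hgp) (hd.trans hgd') (hp.trans hgp'))

end Groth.Agent.ArtinAtlas

end
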