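import Groth.Agent.ArtinAtlas.EtalePiece
import Groth.Agent.FppfSource.Scheme

/-!
# A smooth chart through a geometric point
-/

set_option autoImplicit false
set_option backward.isDefEq.respectTransparency false
set_option backward.isDefEq.respectTransparency.types false
set_option linter.style.haveILetI false
universe v₂ u₂ u

noncomputable section

namespace Groth.Agent.ArtinAtlas

open CategoryTheory CategoryTheory.Limits AlgebraicGeometry CommRingCat
open _root_.AlgSp _root_.AlgSt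

variable {S : Scheme.{u}} {𝒳 : BasedCategory.{v₂, u₂} (Over S)}

theorem prop_of_comp_mono (P : MorphismProperty Scheme.{u}) [P.IsStableUnderBaseChange] {X Y Z : Scheme.{u}}
    (f : X ⟶ Y) (i : Y ⟶ Z) [Mono i] (h : P (f ≫ i)) : P f :=
  have sq : IsPullback (𝟙 X) f (f ≫ i) i :=
    ⟨⟨Category.id_comp _⟩, ⟨PullbackCone.IsLimit.mk _ (fun s => s.fst) (fun s => Category.comp_id _)
      (fun s => by rw [← cancel_mono i, Category.assoc]; exact s.condition)
      (fun s m h₁ _ => by rw [← h₁]; exact (Category.comp_id _).symm)⟩⟩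
  P.of_isPullback sq h

variable {U₁ U₂ : Over S} {x : FibCat.overCat U₁ ⥤ᵇ 𝒳} {y : FibCat.overCat U₂ ⥤ᵇ 𝒳}

theorem Hom2.res_ofMap_iff {T V V' : Over S} {w : T ⟶ U₁} {g : V ⟶ T} {b : V ⟶ U₂} {g' : V' ⟶ T} {b' : V' ⟶ U₂}
    {f : V' ⟶ V} {θ : Hom2 (BasedFunctor.comp (AlgSt.overMap w) x) y g b}
    {θ' : Hom2 (BasedFunctor.comp (AlgSt.overMap w) x) y g' b'} (hg : f ≫ g = g') :
    Hom2.Res f (Hom2.ofMap θ) (Hom2.ofMap θ') ↔ Hom2.Res f θ θ' :=
  ⟨fun ⟨_, hb, e⟩ => ⟨hg, hb, e⟩, fun ⟨_, hb, e⟩ => ⟨by rw [← Category.assoc, hg], hb, e⟩⟩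

/-- liftability passes to a chart restricted along a monomorphism -/
theorem Liftable.toMap {T : Over S} {w : T ⟶ U₁} [Mono w] {C : Over S} {g : C ⟶ T} {b : C ⟶ U₂}
    {θ : Hom2 x y (g ≫ w) b} (h : Liftable θ) : Liftable (Hom2.toMap θ) := by
  intro V a' b' η
  obtain ⟨W, l, q, hq, hlq, hu⟩ := h (Hom2.ofMap η)
  have key : ∀ {V' : Over S} (c : V' ⟶ C) (d : V' ⟶ V), SameRes _ y c d (Hom2.toMap θ) η ↔
      SameRes x y c d θ (Hom2.ofMap η) := by
    intro V' c d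
    constructor
    · rintro ⟨a, r, χ, h₁, h₂⟩
      exact ⟨_, _, Hom2.ofMap χ, (Hom2.res_ofMap_iff h₁.1).2 h₁, (Hom2.res_ofMap_iff h₂.1).2 h₂⟩
    · rintro ⟨a, r, χ, h₁, h₂⟩
      obtain rfl : (c ≫ g) ≫ w = a := (Category.assoc _ _ _).trans h₁.1
      have e : d ≫ a' = c ≫ g := by rw [← cancel_mono w, Category.assoc, h₂.1]
      exact ⟨_, _, Hom2.toMap χ, (Hom2.res_ofMap_iff rfl).1 h₁, (Hom2.res_ofMap_iff e).1 h₂⟩
  exact ⟨W, l, q, hq, (key l q).2 hlq, fun c d hc => hu c d ((key c d).1 hc)⟩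

variable {R₀ A : Type u} [CommRing R₀] [CommRing A]
  [Algebra R₀ A] {j : Spec (CommRingCat.of R₀) ⟶ S} [Mono j]
  {x₁ : FibCat.overCat (ovR j (algebraMap R₀ A)) ⥤ᵇ 𝒳}

/-- through every geometric point there is a chart with a smooth comparison -/
theorem exists_smooth_chart (hS : Stk.IsStack (QuotSh.J Scheme.fppfPrecoverage S) 𝒳)
    (hx₁ : RepByAlgSpWith (LocP (@Flat ⊓ @LocallyOfFinitePresentation)) x₁) {k : Type u} [Field k] [IsAlgClosed k]
    (str₀ : A →+* k) :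
    ∃ (M : Over S) (c : FibCat.overCat M ⥤ᵇ 𝒳) (Q : Over S) (qM : Q ⟶ M) (qV : Q ⟶ ovR j (algebraMap R₀ A))
      (θ : Hom2 c x₁ qM qV), Liftable θ ∧ Flat qM.left ∧ LocallyOfFinitePresentation qM.left ∧
        Surjective qM.left ∧ Smooth qV.left ∧
        ∃ s : ovR j (str₀.comp (algebraMap R₀ A)) ⟶ Q, s ≫ qV = ovMap str₀ rfl := by
  have hX := hS.1
  obtain ⟨G⟩ := exists_germ hX hx₁ str₀
  obtain ⟨Mo⟩ := exists_moduli hS (AlgStLib.repByAlgSp1_of_with hx₁) G
  obtain ⟨Sl⟩ := exists_slice Mo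
  obtain ⟨q⟩ := exists_qPt hS hx₁ Sl
  obtain ⟨P⟩ := exists_piece q
  obtain ⟨b, hb, hbe⟩ := exists_etale_piece hS P
  obtain ⟨g, hg, hgs⟩ := Sl.smooth
  let bg := b * P.eB g
  let Bc := Localization.Away bg
  let ic := algebraMap P.B Bc
  have hu : IsUnit (ic b) ∧ IsUnit (ic (P.eB g)) := by
    rw [← IsUnit.mul_iff, ← map_mul]; exact IsLocalization.Away.algebraMap_isUnit bg
  have hbg : P.hB bg ≠ 0 := by
    rw [map_mul, show P.hB (P.eB g) = Sl.h g from RingHom.congr_fun P.hBe g]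
    exact mul_ne_zero hb hg
  let h₁ : Localization.Away b →+* Bc := IsLocalization.Away.lift b hu.1
  have hh₁ : h₁.comp (algebraMap P.B _) = ic := IsLocalization.Away.lift_comp b _
  let h₂ : Localization.Away g →+* Bc := IsLocalization.Away.lift g (g := ic.comp P.eB) hu.2
  have hh₂ : h₂.comp (algebraMap Sl.H _) = ic.comp P.eB := IsLocalization.Away.lift_comp g _
  let lc := ic.comp P.lB
  -- the piece is etale over the chart and smooth over the given chart
  have hQ : Etale (Spec.map (ofHom lc)) := by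
    letI := h₁.toAlgebra
    haveI : IsScalarTower P.B (Localization.Away b) Bc := IsScalarTower.of_algebraMap_eq' hh₁.symm
    haveI : Algebra.Etale P.B Bc := Algebra.Etale.of_isLocalizationAway bg
    haveI : Algebra.Etale P.B (Localization.Away b) := Algebra.Etale.of_isLocalizationAway b
    haveI : Algebra.Etale (Localization.Away b) Bc := Algebra.Etale.of_restrictScalars P.B _ _
    have e : lc = h₁.comp ((algebraMap P.B _).comp P.lB) := by rw [← RingHom.comp_assoc, hh₁]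
    haveI : Etale (Spec.map (ofHom h₁)) := (HasRingHomProperty.Spec_iff (P := @Etale)).2 ‹Algebra.Etale _ Bc›
    haveI : Etale (Spec.map (ofHom ((algebraMap P.B (Localization.Away b)).comp P.lB))) :=
      (HasRingHomProperty.Spec_iff (P := @Etale)).2 hbe
    rw [e, ofHom_comp, Spec.map_comp]
    infer_instance
  have hV : Smooth (Spec.map (ofHom (lc.comp q.qB))) := by
    have e₀ : P.lB.comp q.qB = P.eB.comp Sl.p.str := by
      have e := P.same.endpoints.2
      rw [ovMap_comp, ovMap_comp] at e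
      exact ovMap_injective e
    have e : lc.comp q.qB = h₂.comp ((algebraMap Sl.H _).comp Sl.p.str) := by
      rw [RingHom.comp_assoc, e₀, ← RingHom.comp_assoc, ← RingHom.comp_assoc, hh₂]
    letI : Algebra Sl.H P.B := P.eB.toAlgebra
    haveI : Algebra.Etale Sl.H P.B := P.etale
    letI := h₂.toAlgebra
    haveI : IsScalarTower Sl.H (Localization.Away g) Bc :=
      IsScalarTower.of_algebraMap_eq' ((IsScalarTower.algebraMap_eq Sl.H P.B Bc).trans hh₂.symm)
    haveI : Algebra.Etale Sl.H Bc := inferInstance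
    haveI : Algebra.Etale Sl.H (Localization.Away g) := Algebra.Etale.of_isLocalizationAway g
    haveI : Algebra.Etale (Localization.Away g) Bc := Algebra.Etale.of_restrictScalars Sl.H _ _
    haveI : Etale (Spec.map (ofHom h₂)) := (HasRingHomProperty.Spec_iff (P := @Etale)).2 ‹Algebra.Etale _ Bc›
    haveI := hgs
    rw [e, ofHom_comp, Spec.map_comp]
    infer_instance
  -- the open images
  haveI := hQ
  let OQ : (Spec (CommRingCat.of q.Q)).Opens :=
    ⟨Set.range (Spec.map (ofHom lc)), (Spec.map (ofHom lc)).isOpenMap.isOpen_range⟩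
  let Q₀ : Over S := Over.mk (OQ.ι ≫ (ovR j (q.qA.comp Mo.σ)).hom)
  let iQ : Q₀ ⟶ ovR j (q.qA.comp Mo.σ) := Over.homMk OQ.ι
  haveI hfl : Flat (Spec.map (ofHom q.qA)) := (HasRingHomProperty.Spec_iff (P := @Flat)).2 q.flat
  haveI hfp : LocallyOfFinitePresentation (Spec.map (ofHom q.qA)) :=
    (HasRingHomProperty.Spec_iff (P := @LocallyOfFinitePresentation)).2 q.fp
  let OM : (Spec (CommRingCat.of Mo.W)).Opens :=
    ⟨Set.range (OQ.ι ≫ Spec.map (ofHom q.qA)), (OQ.ι ≫ Spec.map (ofHom q.qA)).isOpenMap.isOpen_range⟩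
  let M : Over S := Over.mk (OM.ι ≫ (ovR j Mo.σ).hom)
  let iM : M ⟶ ovR j Mo.σ := Over.homMk OM.ι
  let m₀ : (↑OQ : Scheme) ⟶ (↑OM : Scheme) := IsOpenImmersion.lift OM.ι (OQ.ι ≫ Spec.map (ofHom q.qA))
    (by rw [Scheme.Opens.range_ι]; rfl)
  have hm₀ : m₀ ≫ OM.ι = OQ.ι ≫ Spec.map (ofHom q.qA) := IsOpenImmersion.lift_fac _ _ _
  let qM : Q₀ ⟶ M := Over.homMk m₀ (by
    show m₀ ≫ OM.ι ≫ _ = OQ.ι ≫ _
    rw [reassoc_of% hm₀]
    exact congrArg (OQ.ι ≫ ·) (Over.w (ovMap (j := j) q.qA (rfl : q.qA.comp Mo.σ = _))))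
  have hqM : qM ≫ iM = iQ ≫ ovMap q.qA rfl := Over.OverMorphism.ext hm₀
  haveI : Mono iM := (Over.forget S).mono_of_mono_map (inferInstanceAs (Mono OM.ι))
  haveI : IsOpenImmersion iQ.left := inferInstanceAs (IsOpenImmersion OQ.ι)
  obtain ⟨θ', hθ', -⟩ := Hom2.exists_res hX q.θQ iQ (qM ≫ iM) (iQ ≫ ovMap q.qB q.hB) hqM.symm rfl
  refine ⟨M, BasedFunctor.comp (AlgSt.overMap iM) Mo.c, Q₀, qM, iQ ≫ ovMap q.qB q.hB, Hom2.toMap θ',
    Liftable.toMap (Liftable.of_openImmersion hX q.lift iQ hθ'), ?_, ?_, ?_, ?_, ?_⟩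
  · exact prop_of_comp_mono @Flat m₀ OM.ι (by rw [hm₀]; infer_instance)
  · exact prop_of_comp_mono @LocallyOfFinitePresentation m₀ OM.ι (by rw [hm₀]; infer_instance)
  · refine ⟨fun z => ?_⟩
    obtain ⟨z', hz'⟩ := (show OM.ι z ∈ Set.range (OQ.ι ≫ Spec.map (ofHom q.qA)) from z.2)
    exact ⟨z', OM.ι.isOpenEmbedding.injective ((congrArg (fun m : (↑OQ : Scheme) ⟶ _ => m z') hm₀).trans hz')⟩
  · let f₀ : Spec (CommRingCat.of Bc) ⟶ (↑OQ : Scheme) := IsOpenImmersion.lift OQ.ι (Spec.map (ofHom lc))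
      (by rw [Scheme.Opens.range_ι]; rfl)
    have hf₀ : f₀ ≫ OQ.ι = Spec.map (ofHom lc) := IsOpenImmersion.lift_fac _ _ _
    haveI : Etale f₀ := prop_of_comp_mono @Etale f₀ OQ.ι (by rw [hf₀]; infer_instance)
    haveI : Surjective f₀ := ⟨fun z => by
      obtain ⟨z', hz'⟩ := (show OQ.ι z ∈ Set.range (Spec.map (ofHom lc)) from z.2)
      exact ⟨z', OQ.ι.isOpenEmbedding.injective ((congrArg (fun m : Spec (CommRingCat.of Bc) ⟶ _ => m z') hf₀).trans hz')⟩⟩
    haveI : Smooth (f₀ ≫ OQ.ι ≫ Spec.map (ofHom q.qB)) := by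
      rw [reassoc_of% hf₀, ← Spec.map_comp, ← ofHom_comp]; exact hV
    exact FppfSource.smooth f₀ (OQ.ι ≫ Spec.map (ofHom q.qB))
  · let hc : Bc →+* k := IsLocalization.Away.lift bg (g := P.hB) (isUnit_iff_ne_zero.2 hbg)
    have hhc : hc.comp ic = P.hB := IsLocalization.Away.lift_comp bg _
    have hse : Set.range (ovMap (j := j) q.e q.he).left ⊆ Set.range OQ.ι := by
      rintro _ ⟨z, rfl⟩
      rw [Scheme.Opens.range_ι]
      have e : q.e = hc.comp lc := by rw [← RingHom.comp_assoc, hhc, P.hBl]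
      refine ⟨Spec.map (ofHom hc) z, ?_⟩
      show _ = Spec.map (ofHom q.e) z
      rw [e, ofHom_comp, Spec.map_comp]
      rfl
    let s : ovR j (str₀.comp (algebraMap R₀ A)) ⟶ Q₀ := Over.homMk (IsOpenImmersion.lift OQ.ι _ hse) (by
      show _ ≫ OQ.ι ≫ _ = _
      rw [IsOpenImmersion.lift_fac_assoc]
      exact Over.w (ovMap (j := j) q.e q.he))
    have hs : s ≫ iQ = ovMap q.e q.he := Over.OverMorphism.ext (IsOpenImmersion.lift_fac _ _ _)
    refine ⟨s, ?_⟩
    rw [← Category.assoc, hs, ovMap_comp]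
    exact ovMap_congr _ q.eqB

end Groth.Agent.ArtinAtlas

end
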